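import Mathlib
import Cfsg.Prelude.Def_Characters

/-!
# helper19: group-theoretic part of the Brauer–Suzuki transfer theorem

* `elementary_of_surjective`: a homomorphic image of an elementary group is elementary.
* `exists_pow_hom_of_elementary`: on an elementary group whose order divides `m * n` with `m`, `n`
  coprime, the power map `e ↦ e ^ c` with `c ≡ 1 [MOD m]`, `n ∣ c` (the "`m`-part") is a
  homomorphism.
-/

set_option autoImplicit false
set_option linter.style.haveILetI false
set_option linter.unusedSectionVars false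

namespace Cfsg.Agent.H19

open Cfsg
open scoped IsMulCommutative

theorem elementary_of_surjective {E F : Type*} [Group E] [Group F] [Finite E] {p : ℕ}
    (hp : p.Prime) (φ : E →* F) (hφ : Function.Surjective φ) (hE : IsElementary p E) :
    IsElementary p F := by
  obtain ⟨x, hxc, hxp, k, hk⟩ := hE
  refine ⟨φ x, ?_, ?_, ?_⟩
  · rw [Subgroup.mem_center_iff] at hxc ⊢
    intro g
    obtain ⟨e, rfl⟩ := hφ g
    rw [← map_mul, ← map_mul, hxc e]
  · exact Nat.Coprime.coprime_dvd_left (orderOf_map_dvd φ x) hxp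
  · have h1 : (Subgroup.zpowers (φ x)).index ∣ p ^ k := by
      rw [← hk, ← MonoidHom.map_zpowers]
      exact Subgroup.index_map_dvd _ hφ
    obtain ⟨j, -, hj⟩ := (Nat.dvd_prime_pow hp).mp h1
    exact ⟨j, hj⟩

theorem exists_pow_hom_of_elementary {E : Type*} [Group E] [Finite E] {p : ℕ} (hp : p.Prime)
    (hE : IsElementary p E) {m n c : ℕ} (hmn : Nat.Coprime m n) (hcard : Nat.card E ∣ m * n)
    (hcm : c ≡ 1 [MOD m]) (hcn : n ∣ c) :
    ∃ f : E →* E, ∀ e, f e = e ^ c := by
  obtain ⟨x, hxc, hxp, k, hk⟩ := hE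
  have hZle : Subgroup.zpowers x ≤ Subgroup.center E := by
    rw [Subgroup.zpowers_le]; exact hxc
  have hidx : (Subgroup.center E).index ∣ p ^ k := hk ▸ Subgroup.index_dvd_of_le hZle
  obtain ⟨j, hj⟩ := hidx
  let T : E →* Subgroup.center E := (powMonoidHom j).comp (MonoidHom.transferCenterPow E)
  have hT : ∀ e, ((T e : Subgroup.center E) : E) = e ^ (p ^ k) := by
    intro e
    change ((MonoidHom.transferCenterPow E e) ^ j : Subgroup.center E).1 = _
    rw [SubgroupClass.coe_pow, MonoidHom.transferCenterPow_apply, ← pow_mul, ← hj]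
  have hcardE : Nat.card E = orderOf x * p ^ k := by
    rw [← hk, ← Nat.card_zpowers]; exact (Subgroup.card_mul_index _).symm
  have hsplit : p ^ k ∣ n ∨ p ^ k ∣ m := by
    have hdvd : p ^ k ∣ m * n := Dvd.dvd.trans (hcardE ▸ Dvd.intro_left _ rfl) hcard
    by_cases hpn : p ∣ n
    · left
      have hpm : ¬ p ∣ m := fun h =>
        hp.one_lt.ne' (Nat.eq_one_of_dvd_one (hmn ▸ Nat.dvd_gcd h hpn))
      exact (Nat.Coprime.pow_left k ((Nat.Prime.coprime_iff_not_dvd hp).mpr hpm)).dvd_of_dvd_mul_left
        hdvd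
    · right
      exact (Nat.Coprime.pow_left k ((Nat.Prime.coprime_iff_not_dvd hp).mpr hpn)).dvd_of_dvd_mul_right
        hdvd
  rcases hsplit with hN | hN
  · obtain ⟨c', hc'⟩ := hN.trans hcn
    refine ⟨(Subgroup.center E).subtype.comp ((powMonoidHom c').comp T), fun e => ?_⟩
    change ((T e) ^ c' : Subgroup.center E).1 = _
    rw [SubgroupClass.coe_pow, hT, ← pow_mul, ← hc']
  · have hcop : Nat.Coprime (p ^ k) (orderOf x) := Nat.Coprime.pow_left k hxp.symm
    have hu0 : (Nat.chineseRemainder hcop 0 1 : ℕ) ≡ 0 [MOD p ^ k] :=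
      (Nat.chineseRemainder hcop 0 1).2.1
    have hu1 : (Nat.chineseRemainder hcop 0 1 : ℕ) ≡ 1 [MOD orderOf x] :=
      (Nat.chineseRemainder hcop 0 1).2.2
    generalize (Nat.chineseRemainder hcop 0 1 : ℕ) = u at hu0 hu1
    obtain ⟨d, hd⟩ := (Nat.modEq_zero_iff_dvd.mp hu0)
    set w := c + (orderOf x - 1) with hw
    let zh : E →* Subgroup.center E := (powMonoidHom (d * w)).comp T
    have hzh : ∀ e, ((zh e : Subgroup.center E) : E) = e ^ (u * w) := by
      intro e
      change ((T e) ^ (d * w) : Subgroup.center E).1 = _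
      rw [SubgroupClass.coe_pow, hT, ← pow_mul, hd, mul_assoc]
    have hcomm : ∀ (z : Subgroup.center E) (g : E), g * (z : E) = (z : E) * g :=
      fun z g => Subgroup.mem_center_iff.mp z.2 g
    refine ⟨{ toFun := fun e => e * (zh e : E), map_one' := by simp, map_mul' := ?_ },
      fun e => ?_⟩
    · intro a b
      rw [map_mul, Subgroup.coe_mul, mul_assoc a b, ← mul_assoc b, hcomm (zh a) b]
      simp only [mul_assoc]
    · change e * (zh e : E) = e ^ c
      rw [hzh, ← pow_succ', pow_eq_pow_iff_modEq]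
      have hoe : orderOf e ∣ p ^ k * orderOf x := by
        rw [mul_comm, ← hcardE]; exact orderOf_dvd_natCard e
      refine Nat.ModEq.of_dvd hoe ?_
      rw [← Nat.modEq_and_modEq_iff_modEq_mul hcop]
      constructor
      · have h1 : u * w + 1 ≡ 0 * w + 1 [MOD p ^ k] := (hu0.mul_right w).add_right 1
        have h2 : c ≡ 1 [MOD p ^ k] := hcm.of_dvd hN
        rw [zero_mul, zero_add] at h1
        exact h1.trans h2.symm
      · have h1 : u * w + 1 ≡ 1 * w + 1 [MOD orderOf x] := (hu1.mul_right w).add_right 1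
        have h3 : 1 * w + 1 = c + orderOf x := by have := orderOf_pos x; omega
        rw [h3] at h1
        exact h1.trans (by simp [Nat.ModEq])

end Cfsg.Agent.H19
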