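import Mathlib
import Cfsg.Prelude.Def_Characters
import Cfsg.Agent.H4.Chars
import Cfsg.Agent.H4.IrrCount
import Cfsg.Agent.H4.PaQb
import Cfsg.Agent.H4.Burnside
import Cfsg.Agent.H4.Brauer
import Cfsg.Agent.H82.Irr
import Cfsg.Agent.Lib.Clifford
import Cfsg.Agent.H19.BSTransferGT

/-!
# helper19: the Brauer–Suzuki transfer theorem (Isaacs 8.22)

A Hall subgroup `H` that controls its own fusion and into which every elementary subgroup of
order dividing `|H|` can be conjugated has a normal complement.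

* `isIrrCharacter_of_genChar_norm_one`: a generalized character of norm one with positive degree
  is an irreducible character.
* `bs_transfer`: the theorem.
-/

set_option autoImplicit false
set_option linter.style.haveILetI false
set_option linter.unusedSectionVars false

universe u

namespace Cfsg.Agent.H19

open Cfsg Cfsg.Agent.H4
open scoped ComplexConjugate

theorem isIrrCharacter_of_genChar_norm_one {G : Type u} [Group G] [Fintype G] (Θ : G → ℂ)
    (hΘ : IsGeneralizedCharacter G Θ) (h1 : classInner Θ Θ = 1) (hpos : 0 < (Θ 1).re) :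
    IsIrrCharacter G Θ := by
  classical
  letI := fintypeIrr G
  obtain ⟨A, B, hA, hB, rfl⟩ := hΘ
  have hcl : IsClassFunction G (A - B) :=
    isClassFunction_sub (isClassFunction_of_isCharacter hA) (isClassFunction_of_isCharacter hB)
  have hint : ∀ χ : IrrCharacter G, ∃ c : ℤ, classInner (A - B) χ.1 = c := by
    intro χ
    obtain ⟨a, ha⟩ := classInner_isCharacter_nat hA (isCharacter_of_isIrrCharacter χ.2)
    obtain ⟨b, hb⟩ := classInner_isCharacter_nat hB (isCharacter_of_isIrrCharacter χ.2)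
    refine ⟨(a : ℤ) - b, ?_⟩
    rw [classInner_sub_left, ha, hb]
    push_cast
    ring
  choose c hc using hint
  have hsum : ∑ χ : IrrCharacter G, c χ ^ 2 = 1 := by
    have h := Cfsg.Agent.Clifford.classInner_eq_sum_irr hcl (A - B)
    rw [h1, finsum_irr_eq_sum] at h
    have h' : ∀ χ : IrrCharacter G, classInner (A - B) χ.1 * classInner χ.1 (A - B) =
        ((c χ ^ 2 : ℤ) : ℂ) := by
      intro χ
      rw [← classInner_conj_symm χ.1 (A - B), hc]
      rw [map_intCast]
      push_cast
      ring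
    simp only [h'] at h
    rw [← Int.cast_sum] at h
    exact_mod_cast h.symm
  have hex : ∃ χ₀, c χ₀ ≠ 0 := by
    by_contra hcon
    push Not at hcon
    simp [hcon] at hsum
  obtain ⟨χ₀, h0⟩ := hex
  have hsplit := Finset.add_sum_erase Finset.univ (fun χ => c χ ^ 2) (Finset.mem_univ χ₀)
  have hnn : 0 ≤ ∑ x ∈ Finset.univ.erase χ₀, c x ^ 2 := Finset.sum_nonneg fun x _ => sq_nonneg _
  have hpos0 : 0 < c χ₀ ^ 2 := by positivity
  have hc1 : c χ₀ ^ 2 = 1 := by
    linarith
  have hrest : ∑ x ∈ Finset.univ.erase χ₀, c x ^ 2 = 0 := by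
    linarith
  have hz : ∀ χ, χ ≠ χ₀ → c χ = 0 := by
    intro χ hχ
    have := (Finset.sum_eq_zero_iff_of_nonneg (fun x _ => sq_nonneg (c x))).mp hrest χ
      (Finset.mem_erase.mpr ⟨hχ, Finset.mem_univ _⟩)
    exact (pow_eq_zero_iff two_ne_zero).mp this
  have hexp : A - B = (c χ₀ : ℂ) • χ₀.1 := by
    have hF : IsClassFunction G (A - B - (c χ₀ : ℂ) • χ₀.1) :=
      isClassFunction_sub hcl (isClassFunction_smul _ (irr_isClassFunction χ₀))
    have := eq_zero_of_inner_irr_eq_zero hF (by
      intro χ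
      rw [classInner_sub_left, classInner_smul_left, irr_inner, hc]
      by_cases h : χ = χ₀
      · subst h; simp
      · simp [hz χ h, Ne.symm h])
    exact sub_eq_zero.mp this
  obtain ⟨d, hd0, hd⟩ := irr_one_eq_natCast χ₀
  have hval : (A - B) 1 = (c χ₀ : ℂ) * d := by rw [hexp]; simp [hd]
  rw [hval] at hpos
  have hpos' : (0 : ℝ) < (c χ₀ : ℝ) * (d : ℝ) := by
    have : ((c χ₀ : ℂ) * (d : ℂ)).re = (c χ₀ : ℝ) * (d : ℝ) := by
      simp
    rwa [this] at hpos
  have hd' : (0 : ℝ) < (d : ℝ) := by exact_mod_cast hd0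
  have hcpos : 0 < c χ₀ := by
    have := (pos_iff_pos_of_mul_pos hpos').mpr hd'
    exact_mod_cast this
  have hc1' : c χ₀ = 1 := by nlinarith
  rw [hexp, hc1']
  simp only [Int.cast_one, one_smul]
  exact χ₀.2

section Transfer

variable {G : Type u} [Group G] [Finite G]

theorem exists_conj_pow_mem (H : Subgroup G)
    (helem : ∀ (E : Subgroup G) (p : ℕ), p.Prime → IsElementary p E → Nat.card E ∣ Nat.card H →
      ∃ g : G, E.map (MulAut.conj g).toMonoidHom ≤ H)
    {c : ℕ} (hcn : H.index ∣ c) (g : G) : ∃ h : H, IsConj (g ^ c) (h : G) := by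
  set y := g ^ c with hy
  have hym : y ^ Nat.card H = 1 := by
    rw [hy, ← pow_mul]
    obtain ⟨c', rfl⟩ := hcn
    rw [mul_comm, ← mul_assoc, Subgroup.card_mul_index, pow_mul, pow_card_eq_one', one_pow]
  obtain ⟨p, hpge, hp⟩ := Nat.exists_infinite_primes (orderOf y + 1)
  have hcop : Nat.Coprime (orderOf y) p := by
    rw [Nat.coprime_comm, Nat.Prime.coprime_iff_not_dvd hp]
    intro hdvd
    have := Nat.le_of_dvd (orderOf_pos y) hdvd
    omega
  have hel : IsElementary p (Subgroup.zpowers y) := by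
    refine ⟨⟨y, Subgroup.mem_zpowers y⟩, ?_, ?_, 0, ?_⟩
    · rw [Subgroup.mem_center_iff]
      rintro ⟨a, ha⟩
      obtain ⟨i, rfl⟩ := Subgroup.mem_zpowers_iff.mp ha
      apply Subtype.ext
      change y ^ i * y = y * y ^ i
      rw [← zpow_add_one, ← zpow_one_add, add_comm]
    · rwa [Subgroup.orderOf_mk]
    · rw [pow_zero, Subgroup.index_eq_one, eq_top_iff]
      rintro ⟨z, hz⟩ -
      obtain ⟨i, rfl⟩ := Subgroup.mem_zpowers_iff.mp hz
      exact Subgroup.mem_zpowers_iff.mpr ⟨i, Subtype.ext (by simp)⟩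
  have hcard : Nat.card (Subgroup.zpowers y) ∣ Nat.card H := by
    rw [Nat.card_zpowers]; exact orderOf_dvd_of_pow_eq_one hym
  obtain ⟨g₀, hg₀⟩ := helem _ p hp hel hcard
  have hmem : g₀ * y * g₀⁻¹ ∈ H := hg₀ (Subgroup.mem_map.mpr ⟨y, Subgroup.mem_zpowers y, rfl⟩)
  exact ⟨⟨_, hmem⟩, isConj_iff.mpr ⟨g₀, rfl⟩⟩

theorem exists_hom_of_elementary (H : Subgroup G) (hHall : Nat.Coprime (Nat.card H) H.index)
    (helem : ∀ (E : Subgroup G) (p : ℕ), p.Prime → IsElementary p E → Nat.card E ∣ Nat.card H →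
      ∃ g : G, E.map (MulAut.conj g).toMonoidHom ≤ H)
    {c : ℕ} (hcm : c ≡ 1 [MOD Nat.card H]) (hcn : H.index ∣ c)
    (E : Subgroup G) (p : ℕ) (hp : p.Prime) (hE : IsElementary p E) :
    ∃ ψ : E →* H, ∀ e : E, IsConj ((e : G) ^ c) (ψ e : G) := by
  have hcardE : Nat.card E ∣ Nat.card H * H.index := by
    rw [Subgroup.card_mul_index]; exact Subgroup.card_subgroup_dvd_card E
  obtain ⟨f, hf⟩ := exists_pow_hom_of_elementary hp hE hHall hcardE hcm hcn
  let F : E →* G := E.subtype.comp f
  have hF : ∀ e : E, F e = (e : G) ^ c := fun e => by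
    change ((f e : E) : G) = _
    rw [hf]; rfl
  have hel : IsElementary p F.range :=
    elementary_of_surjective hp F.rangeRestrict F.rangeRestrict_surjective hE
  have hpow : ∀ y ∈ F.range, y ^ Nat.card H = 1 := by
    rintro y ⟨e, rfl⟩
    rw [hF, ← pow_mul]
    obtain ⟨c', rfl⟩ := hcn
    rw [mul_comm, ← mul_assoc, Subgroup.card_mul_index, pow_mul, pow_card_eq_one', one_pow]
  have hcard : Nat.card F.range ∣ Nat.card H := by
    have h1 : Nat.card F.range ∣ Nat.card H * H.index := by
      rw [Subgroup.card_mul_index]; exact Subgroup.card_subgroup_dvd_card _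
    refine Nat.Coprime.dvd_of_dvd_mul_right ?_ h1
    apply Nat.coprime_of_dvd
    intro q hq hq1 hq2
    haveI : Fact q.Prime := ⟨hq⟩
    obtain ⟨y, hy⟩ := exists_prime_orderOf_dvd_card' q hq1
    have hqH : q ∣ Nat.card H := by
      rw [← hy, ← Subgroup.orderOf_coe]
      exact orderOf_dvd_of_pow_eq_one (hpow y.1 y.2)
    exact hq.one_lt.ne' (Nat.eq_one_of_dvd_one (hHall ▸ Nat.dvd_gcd hqH hq2))
  obtain ⟨g₀, hg₀⟩ := helem F.range p hp hel hcard
  have hmem : ∀ e : E, ((MulAut.conj g₀).toMonoidHom.comp F) e ∈ H := fun e =>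
    hg₀ (Subgroup.mem_map.mpr ⟨F e, ⟨e, rfl⟩, rfl⟩)
  refine ⟨((MulAut.conj g₀).toMonoidHom.comp F).codRestrict H hmem, fun e => ?_⟩
  change IsConj ((e : G) ^ c) ((MulAut.conj g₀) (F e))
  rw [hF]
  exact isConj_iff.mpr ⟨g₀, by simp [MulAut.conj_apply]⟩

theorem tilde_isGeneralizedCharacter (H : Subgroup G)
    (hHall : Nat.Coprime (Nat.card H) H.index)
    (helem : ∀ (E : Subgroup G) (p : ℕ), p.Prime → IsElementary p E → Nat.card E ∣ Nat.card H →
      ∃ g : G, E.map (MulAut.conj g).toMonoidHom ≤ H)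
    {c : ℕ} (hcm : c ≡ 1 [MOD Nat.card H]) (hcn : H.index ∣ c)
    (hfus' : ∀ a b : H, IsConj (a : G) (b : G) → IsConj a b)
    (τ : G → H) (hτ : ∀ g, IsConj (g ^ c) (τ g : G)) (θ : H → ℂ) (hθ : IsCharacter H θ) :
    IsGeneralizedCharacter G (fun g => θ (τ g)) := by
  have hcl := isClassFunction_iff_isConj.mp (isClassFunction_of_isCharacter hθ)
  apply brauer_characterization
  · intro g x
    apply hcl
    apply hfus'
    have h1 := hτ (x * g * x⁻¹)
    have h2 := hτ g
    rw [conj_pow] at h1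
    exact h1.symm.trans
      ((isConj_iff.mpr ⟨x, rfl⟩ : IsConj (g ^ c) (x * g ^ c * x⁻¹)).symm.trans h2)
  · intro E p hp hE
    obtain ⟨ψ, hψ⟩ := exists_hom_of_elementary H hHall helem hcm hcn E p hp hE
    have : (fun e : E => θ (τ (e : G))) = fun e => θ (ψ e) := by
      funext e
      apply hcl
      apply hfus'
      exact (hτ e).symm.trans (hψ e)
    rw [this]
    exact ⟨_, 0, isCharacter_comp ψ hθ, isCharacter_zero, by simp⟩

end Transfer

theorem sum_tilde_aux {G : Type u} [Group G] [Fintype G] (H : Subgroup G) [Fintype H]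
    (τ : G → H) (hT2 : ∀ b : H, IsConj (τ (b : G)) b)
    (hgen : ∀ θ : IrrCharacter H, IsGeneralizedCharacter G (fun g => θ.1 (τ g)))
    (F : H → ℂ) (hF : IsClassFunction H F) :
    ∑ g : G, F (τ g) = (H.index : ℂ) * ∑ b : H, F b := by
  classical
  letI := fintypeIrr H
  set M : G → H → ℕ := fun g b => (Finset.univ.filter fun c : H => c * τ g * c⁻¹ = b).card
    with hM
  set N : H → ℕ := fun b => ∑ g : G, M g b with hN
  have hcol : ∀ (g : G) (b : H),
      ∑ θ : IrrCharacter H, θ.1 (τ g) * conj (θ.1 b) = (M g b : ℂ) := by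
    intro g b
    rw [← finsum_irr_eq_sum, column_orthogonality, Nat.card_eq_fintype_card,
      Fintype.card_subtype]
  have hint : ∀ θ : IrrCharacter H, ∃ z : ℤ,
      classInner (fun g => θ.1 (τ g)) (fun _ => 1) = z := by
    intro θ
    obtain ⟨A, B, hA, hB, hAB⟩ := hgen θ
    obtain ⟨a, ha⟩ := classInner_isCharacter_nat hA
      (isCharacter_of_isIrrCharacter isIrrCharacter_one)
    obtain ⟨b, hb⟩ := classInner_isCharacter_nat hB
      (isCharacter_of_isIrrCharacter isIrrCharacter_one)
    refine ⟨(a : ℤ) - b, ?_⟩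
    rw [hAB, classInner_sub_left, ha, hb]
    push_cast
    ring
  choose z hz using hint
  have hGne : (Nat.card G : ℂ) ≠ 0 := (neZero_card_complex G).out
  have hNeq : ∀ b : H, (N b : ℂ) =
      (Nat.card G : ℂ) * ∑ θ : IrrCharacter H, conj (θ.1 b) * (z θ : ℂ) := by
    intro b
    have h1 : ∀ θ : IrrCharacter H, (Nat.card G : ℂ) * (conj (θ.1 b) * (z θ : ℂ)) =
        ∑ g : G, θ.1 (τ g) * conj (θ.1 b) := by
      intro θ
      rw [← hz θ]
      unfold classInner
      simp only [map_one, mul_one]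
      rw [← Finset.sum_mul]
      field_simp
    rw [Finset.mul_sum]
    simp only [h1]
    rw [Finset.sum_comm]
    simp only [hcol]
    rw [hN]
    push_cast
    rfl
  have hNdvd : ∀ b : H, Nat.card G ∣ N b := by
    intro b
    have hI : IsIntegral ℤ (((N b : ℚ) / (Nat.card G : ℚ) : ℚ) : ℂ) := by
      have h1 : (((N b : ℚ) / (Nat.card G : ℚ) : ℚ) : ℂ) =
          ∑ θ : IrrCharacter H, conj (θ.1 b) * (z θ : ℂ) := by
        push_cast
        rw [hNeq b]
        field_simp
      rw [h1]
      refine IsIntegral.sum _ fun θ _ => IsIntegral.mul ?_ (isIntegral_intCast_complex _)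
      apply map_isIntegral_int
      obtain ⟨n, ρ, -, hρ⟩ := θ.2
      rw [← hρ]
      exact character_isIntegral ρ b
    obtain ⟨y, hy⟩ := exists_int_of_isIntegral_ratCast _ hI
    have hGq : (Nat.card G : ℚ) ≠ 0 := by exact_mod_cast Nat.card_pos.ne'
    have h2 : (N b : ℚ) = y * (Nat.card G : ℚ) := by rw [hy]; field_simp
    have h3 : (N b : ℤ) = y * (Nat.card G : ℤ) := by exact_mod_cast h2
    exact Int.natCast_dvd_natCast.mp ⟨y, by rw [h3]; ring⟩
  have hNpos : ∀ b : H, 0 < N b := by
    intro b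
    have h1 : 0 < M (b : G) b := by
      obtain ⟨c, hc⟩ := isConj_iff.mp (hT2 b)
      exact Finset.card_pos.mpr ⟨c, by simp [hc]⟩
    exact lt_of_lt_of_le h1 (Finset.single_le_sum (f := fun g => M g b)
      (fun _ _ => Nat.zero_le _) (Finset.mem_univ (b : G)))
  have hMsum : ∀ g : G, ∑ b : H, M g b = Nat.card H := by
    intro g
    simp only [hM, Finset.card_filter]
    rw [Finset.sum_comm]
    simp [Nat.card_eq_fintype_card]
  have hNsum : ∑ b : H, N b = ∑ b : H, Nat.card G := by
    simp only [hN]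
    rw [Finset.sum_comm]
    simp only [hMsum]
    simp [Nat.card_eq_fintype_card, mul_comm]
  have hNall : ∀ b : H, N b = Nat.card G := by
    intro b
    have := (Finset.sum_eq_sum_iff_of_le (s := Finset.univ) (f := fun _ : H => Nat.card G)
      (g := N) (fun b _ => Nat.le_of_dvd (hNpos b) (hNdvd b))).mp hNsum.symm b
      (Finset.mem_univ b)
    exact this.symm
  have key : (Nat.card H : ℂ) * ∑ g : G, F (τ g) = (Nat.card G : ℂ) * ∑ b : H, F b := by
    have h1 : ∀ g : G, (Nat.card H : ℂ) * F (τ g) = ∑ b : H, (M g b : ℂ) * F b := by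
      intro g
      have h2 : ∑ c : H, F (c * τ g * c⁻¹) = ∑ b : H, (M g b : ℂ) * F b := by
        rw [← Finset.sum_fiberwise Finset.univ (fun c : H => c * τ g * c⁻¹)
          (fun c => F (c * τ g * c⁻¹))]
        refine Finset.sum_congr rfl fun b _ => ?_
        rw [Finset.sum_congr rfl (fun c hc => by rw [(Finset.mem_filter.mp hc).2] :
          ∀ c ∈ Finset.univ.filter (fun c : H => c * τ g * c⁻¹ = b),
            F (c * τ g * c⁻¹) = F b)]
        simp [hM]
      rw [← h2]
      simp only [hF (τ g)]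
      simp [Nat.card_eq_fintype_card]
    rw [Finset.mul_sum]
    simp only [h1]
    rw [Finset.sum_comm]
    simp only [← Finset.sum_mul]
    rw [Finset.mul_sum]
    refine Finset.sum_congr rfl fun b _ => ?_
    have h3 := hNall b
    simp only [hN] at h3
    rw [← h3]
    push_cast
    rfl
  have hHne : (Nat.card H : ℂ) ≠ 0 := by exact_mod_cast Nat.card_pos.ne'
  have hidx : (Nat.card G : ℂ) = (Nat.card H : ℂ) * (H.index : ℂ) := by
    exact_mod_cast (Subgroup.card_mul_index H).symm
  rw [hidx, mul_assoc] at key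
  exact mul_left_cancel₀ hHne key

/-- The Brauer–Suzuki transfer theorem. -/
theorem bs_transfer {G : Type u} [Group G] [Finite G] (H : Subgroup G)
    (hHall : Nat.Coprime (Nat.card H) H.index)
    (hfus : ∀ x ∈ H, ∀ y ∈ H, IsConj x y → ∃ h ∈ H, h * x * h⁻¹ = y)
    (helem : ∀ (E : Subgroup G) (p : ℕ), p.Prime → IsElementary p E → Nat.card E ∣ Nat.card H →
      ∃ g : G, E.map (MulAut.conj g).toMonoidHom ≤ H) :
    ∃ K : Subgroup G, K.Normal ∧ K ⊔ H = ⊤ ∧ K ⊓ H = ⊥ := by
  classical
  haveI := Fintype.ofFinite G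
  haveI : Fintype H := Fintype.ofFinite H
  have hc0 : (Nat.chineseRemainder hHall 1 0 : ℕ) ≡ 1 [MOD Nat.card H] :=
    (Nat.chineseRemainder hHall 1 0).2.1
  have hc1 : (Nat.chineseRemainder hHall 1 0 : ℕ) ≡ 0 [MOD H.index] :=
    (Nat.chineseRemainder hHall 1 0).2.2
  generalize (Nat.chineseRemainder hHall 1 0 : ℕ) = c at hc0 hc1
  have hcn : H.index ∣ c := Nat.modEq_zero_iff_dvd.mp hc1
  have hfus' : ∀ a b : H, IsConj (a : G) (b : G) → IsConj a b := by
    intro a b hab
    obtain ⟨h, hh, he⟩ := hfus a a.2 b b.2 hab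
    exact isConj_iff.mpr ⟨⟨h, hh⟩, Subtype.ext he⟩
  have hex := fun g => exists_conj_pow_mem H helem hcn g
  choose τ hτ using hex
  have hT3 : ∀ (g : G) (y : H), IsConj (g ^ c) (y : G) → IsConj (τ g) y :=
    fun g y h => hfus' _ _ ((hτ g).symm.trans h)
  have hpowH : ∀ b : H, (b : G) ^ c = b := by
    intro b
    have h1 : (b : G) ^ Nat.card H = 1 := by
      have := pow_card_eq_one' (G := H) (x := b)
      exact_mod_cast congrArg Subtype.val this
    have h2 : c ≡ 1 [MOD orderOf (b : G)] := hc0.of_dvd (orderOf_dvd_of_pow_eq_one h1)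
    have := pow_eq_pow_iff_modEq.mpr h2
    rwa [pow_one] at this
  have hT2 : ∀ b : H, IsConj (τ (b : G)) b := fun b => hT3 _ b (by rw [hpowH b])
  have hτ1 : τ 1 = 1 := by
    have := hT2 1
    rw [Subgroup.coe_one] at this
    exact isConj_one_left.mp this
  have hgen : ∀ θ : H → ℂ, IsCharacter H θ → IsGeneralizedCharacter G (fun g => θ (τ g)) :=
    fun θ hθ => tilde_isGeneralizedCharacter H hHall helem hc0 hcn hfus' τ hτ θ hθ
  have hsum := fun F hF => sum_tilde_aux H τ hT2
    (fun θ => hgen θ.1 (isCharacter_of_isIrrCharacter θ.2)) F hF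
  have hHne : (Nat.card H : ℂ) ≠ 0 := by exact_mod_cast Nat.card_pos.ne'
  have hIne : (H.index : ℂ) ≠ 0 := by exact_mod_cast Subgroup.index_ne_zero_of_finite
  have hirr : ∀ θ : IrrCharacter H, IsIrrCharacter G (fun g => θ.1 (τ g)) := by
    intro θ
    apply isIrrCharacter_of_genChar_norm_one _ (hgen θ.1 (isCharacter_of_isIrrCharacter θ.2))
    · unfold classInner
      have hF : IsClassFunction H (fun b => θ.1 b * conj (θ.1 b)) := by
        intro a b
        simp only [irr_isClassFunction θ a b]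
      rw [hsum _ hF]
      have h1 := irr_inner_self θ
      unfold classInner at h1
      have h2 : ∑ b : H, θ.1 b * conj (θ.1 b) = (Nat.card H : ℂ) := by
        field_simp at h1
        exact h1
      rw [h2, ← Subgroup.card_mul_index H]
      push_cast
      field_simp
    · obtain ⟨d, hd0, hd⟩ := irr_one_eq_natCast θ
      rw [hτ1, hd]
      simpa using hd0
  let θt : IrrCharacter H → IrrCharacter G := fun θ => ⟨fun g => θ.1 (τ g), hirr θ⟩
  let K : Subgroup G := ⨅ θ : IrrCharacter H, Cfsg.Agent.H82.irrKer (θt θ)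
  have hK : ∀ g, g ∈ K ↔ τ g = 1 := by
    intro g
    rw [Subgroup.mem_iInf]
    constructor
    · intro h
      have h1 : IsConj (τ g) 1 := by
        rw [isConj_iff_irr]
        intro θ
        have h2 := h θ
        rw [Cfsg.Agent.H82.mem_irrKer] at h2
        change θ.1 (τ g) = θ.1 (τ 1) at h2
        rwa [hτ1] at h2
      exact isConj_one_left.mp h1
    · intro h θ
      rw [Cfsg.Agent.H82.mem_irrKer]
      change θ.1 (τ g) = θ.1 (τ 1)
      rw [h, hτ1]
  have hKH : K ⊓ H = ⊥ := by
    rw [eq_bot_iff]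
    rintro g ⟨hgK, hgH⟩
    have h1 := (hK g).mp hgK
    have h2 := hT2 ⟨g, hgH⟩
    rw [Subgroup.coe_mk, h1] at h2
    have h3 := isConj_one_right.mp h2
    exact Subgroup.mem_bot.mpr (congrArg Subtype.val h3)
  have hcardK : Nat.card K = H.index := by
    have hF : IsClassFunction H (fun b => if b = 1 then (1 : ℂ) else 0) := by
      intro a b
      have h1 : b * a * b⁻¹ = 1 ↔ a = 1 := by
        constructor
        · intro h
          have := congrArg (fun t => b⁻¹ * t * b) h
          simpa [mul_assoc] using this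
        · rintro rfl; simp
      simp only [h1]
    have h1 := hsum _ hF
    simp only [Finset.sum_ite_eq', Finset.mem_univ, if_true, mul_one] at h1
    rw [Nat.card_eq_fintype_card, Fintype.card_subtype]
    have h2 : ((Finset.univ.filter fun g => g ∈ K).card : ℂ) = H.index := by
      rw [Finset.card_filter]
      push_cast
      rw [← h1]
      refine Finset.sum_congr rfl fun g _ => ?_
      simp only [hK]
    exact_mod_cast h2
  refine ⟨K, Subgroup.normal_iInf_normal fun θ => inferInstance, ?_, hKH⟩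
  have hdisj : Disjoint K H := disjoint_iff.mpr hKH
  have hcard : Nat.card K * Nat.card H = Nat.card G := by
    rw [hcardK, mul_comm, Subgroup.card_mul_index]
  exact (Subgroup.isComplement'_of_card_mul_and_disjoint hcard hdisj).sup_eq_top

end Cfsg.Agent.H19
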