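import Mathlib
import Cfsg.Agent.S0851
import Cfsg.Agent.H4.RealClasses
import Cfsg.Agent.H4.IrrCount

/-!
# Feit's theorem on Zassenhaus groups, abelian kernel: generic character tools (helper19)
-/

set_option autoImplicit false
set_option linter.unusedSectionVars false
set_option linter.style.haveILetI false

namespace Cfsg.Agent.H19

open Cfsg Cfsg.Agent.H4 Cfsg.Agent.H5
open scoped ComplexConjugate

universe u

section Generic

variable {G : Type u} [Group G] [Fintype G]

/-- Parseval: the inner product of a class function with any function, expanded over the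
irreducible characters. -/
theorem classInner_eq_sum_irr [Fintype (IrrCharacter G)] {A : G → ℂ} (hA : IsClassFunction G A)
    (B : G → ℂ) :
    classInner A B = ∑ χ : IrrCharacter G, classInner A χ.1 * conj (classInner B χ.1) := by
  classical
  conv_lhs => rw [classFunction_eq_finsum hA]
  rw [finsum_eq_sum_of_fintype, classInner_sum_left]
  refine Finset.sum_congr rfl fun χ _ => ?_
  rw [classInner_smul_left, classInner_conj_symm]

/-- The multiplicity of an irreducible character in a function (a natural number for
characters). -/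
noncomputable def ncoef (A : G → ℂ) (χ : IrrCharacter G) : ℕ := ⌊(classInner A χ.1).re⌋₊

theorem ncoef_cast {A : G → ℂ} (hA : IsCharacter G A) (χ : IrrCharacter G) :
    ((ncoef A χ : ℕ) : ℂ) = classInner A χ.1 := by
  obtain ⟨n, hn⟩ := classInner_isCharacter_nat hA (isCharacter_of_isIrrCharacter χ.2)
  unfold ncoef
  rw [hn]
  simp

theorem ncoef_cast' {A : G → ℂ} (hA : IsCharacter G A) (χ : IrrCharacter G) :
    classInner χ.1 A = ((ncoef A χ : ℕ) : ℂ) := by
  rw [← classInner_conj_symm, ← ncoef_cast hA χ, Complex.conj_natCast]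

theorem classInner_eq_sum_ncoef [Fintype (IrrCharacter G)] {A B : G → ℂ} (hA : IsCharacter G A)
    (hB : IsCharacter G B) :
    classInner A B = ((∑ χ : IrrCharacter G, ncoef A χ * ncoef B χ : ℕ) : ℂ) := by
  rw [classInner_eq_sum_irr (isClassFunction_of_isCharacter hA) B]
  push_cast
  refine Finset.sum_congr rfl fun χ _ => ?_
  rw [← ncoef_cast hA χ, ← ncoef_cast hB χ, Complex.conj_natCast]

/-- A character evaluated anywhere, expanded over the irreducible characters. -/
theorem character_eq_sum_ncoef [Fintype (IrrCharacter G)] {A : G → ℂ} (hA : IsCharacter G A)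
    (g : G) : A g = ∑ χ : IrrCharacter G, (ncoef A χ : ℂ) * χ.1 g := by
  conv_lhs => rw [classFunction_eq_finsum (isClassFunction_of_isCharacter hA)]
  rw [finsum_eq_sum_of_fintype, Finset.sum_apply]
  refine Finset.sum_congr rfl fun χ _ => ?_
  rw [Pi.smul_apply, smul_eq_mul, ncoef_cast hA χ]

theorem ncoef_irr (χ ψ : IrrCharacter G) : ncoef χ.1 ψ = if χ = ψ then 1 else 0 := by
  have h := ncoef_cast (isCharacter_of_isIrrCharacter χ.2) ψ
  rw [irr_inner] at h
  by_cases hχ : χ = ψ
  · rw [if_pos hχ] at h ⊢
    exact_mod_cast h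
  · rw [if_neg hχ] at h ⊢
    exact_mod_cast h

end Generic

/-- If a sum of naturals, each at least one, is at most the number of terms, each term is one. -/
theorem eq_one_of_sum_le_card {ι : Type*} (s : Finset ι) (g : ι → ℕ) (h1 : ∀ x ∈ s, 1 ≤ g x)
    (hs : ∑ x ∈ s, g x ≤ s.card) : ∀ x ∈ s, g x = 1 := by
  classical
  intro x hx
  by_contra hne
  have h2 : 2 ≤ g x := by have := h1 x hx; omega
  have h3 : (s.erase x).card ≤ ∑ y ∈ s.erase x, g y := by
    have := Finset.card_nsmul_le_sum (s.erase x) g 1 (fun y hy => h1 y (Finset.mem_of_mem_erase hy))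
    simpa using this
  have h4 := Finset.add_sum_erase s g hx
  have h5 := Finset.card_erase_of_mem hx
  have h6 : 0 < s.card := Finset.card_pos.mpr ⟨x, hx⟩
  omega

end Cfsg.Agent.H19
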