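import Mathlib
import Cfsg.Agent.H19.FeitAb1
import Cfsg.Agent.H19.IndFun
import Cfsg.Agent.H4.PaQb

/-!
# Feit's theorem on Zassenhaus groups, abelian kernel: induced characters from a TI kernel
(helper19)

`K ≤ G` abelian TI with `N = N_G(K)`, `C_G(k) ≤ K`.  `InExc K ξ`: the irreducible character `ξ`
of `N` is not constant on `K`.  Values and inner products of `indFun N ξ` and `indFun K 1`.
-/

set_option autoImplicit false
set_option linter.unusedSectionVars false
set_option linter.style.haveILetI false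

namespace Cfsg.Agent.H19

open Cfsg Cfsg.Agent.H4 Cfsg.Agent.H5
open scoped ComplexConjugate

universe u

section NLevel

variable {G : Type u} [Group G] [Fintype G] (K : Subgroup G)

/-- The irreducible character `ξ` of `N_G(K)` is not constant on `K`. -/
abbrev InExc (ξ : IrrCharacter (Subgroup.normalizer (K : Set G))) : Prop :=
  ∃ k : Subgroup.normalizer (K : Set G), (k : G) ∈ K ∧
    (ξ : ↥(Subgroup.normalizer (K : Set G)) → ℂ) k ≠
      (ξ : ↥(Subgroup.normalizer (K : Set G)) → ℂ) 1

theorem exc_mem_relSet {ξ : IrrCharacter (Subgroup.normalizer (K : Set G))} (hξ : InExc K ξ) :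
    (ξ : ↥(Subgroup.normalizer (K : Set G)) → ℂ) ∈
      relSet (K.subgroupOf (Subgroup.normalizer (K : Set G))) := ⟨ξ.2, hξ⟩

theorem exc_vanish (hC : ∀ k ∈ K, k ≠ 1 → Subgroup.centralizer ({k} : Set G) ≤ K)
    {ξ : IrrCharacter (Subgroup.normalizer (K : Set G))} (hξ : InExc K ξ)
    (n : Subgroup.normalizer (K : Set G)) (hn : (n : G) ∉ K) : ξ.1 n = 0 := by
  classical
  haveI : Fintype ↥(Subgroup.normalizer (K : Set G)) := Fintype.ofFinite _
  exact relSet_vanish (K.subgroupOf (Subgroup.normalizer (K : Set G))) (normalizer_fpf K hC)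
    (exc_mem_relSet K hξ) (by rwa [Subgroup.mem_subgroupOf])

theorem exc_one_eq (hC : ∀ k ∈ K, k ≠ 1 → Subgroup.centralizer ({k} : Set G) ≤ K)
    (hab : ∀ a ∈ K, ∀ b ∈ K, a * b = b * a)
    {ξ : IrrCharacter (Subgroup.normalizer (K : Set G))} (hξ : InExc K ξ) :
    ξ.1 1 = ((K.subgroupOf (Subgroup.normalizer (K : Set G))).index : ℂ) := by
  classical
  haveI : Fintype ↥(Subgroup.normalizer (K : Set G)) := Fintype.ofFinite _
  haveI : Fintype (K.subgroupOf (Subgroup.normalizer (K : Set G))) := Fintype.ofFinite _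
  have hcomm : ∀ a b : K.subgroupOf (Subgroup.normalizer (K : Set G)), a * b = b * a := by
    intro a b
    apply Subtype.ext
    apply Subtype.ext
    exact hab _ a.2 _ b.2
  obtain ⟨τ, hτ, hτ1, h⟩ := (mem_relSet_iff _ (normalizer_fpf K hC) ξ.1).mp (exc_mem_relSet K hξ)
  rw [h, indFun_one_eq, (Cfsg.Agent.H83.IsIrrCharacter.linear_of_comm hcomm hτ).1, mul_one]

theorem exc_sum_eq_zero [Fintype ↥(Subgroup.normalizer (K : Set G))]
    {ξ : IrrCharacter (Subgroup.normalizer (K : Set G))} (hξ : InExc K ξ) :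
    ∑ n : Subgroup.normalizer (K : Set G), ξ.1 n = 0 := by
  have hne : ξ ≠ trivialIrr (Subgroup.normalizer (K : Set G)) := by
    rintro rfl
    obtain ⟨k, -, hk⟩ := hξ
    exact hk rfl
  have h := irr_inner_ne hne
  unfold classInner at h
  have hN : (Nat.card (Subgroup.normalizer (K : Set G)) : ℂ) ≠ 0 := (neZero_card_complex _).out
  rcases mul_eq_zero.mp h with h | h
  · exact absurd (inv_eq_zero.mp h) hN
  · simpa [trivialIrr] using h

/-- A function on `N_G(K)` vanishing off `K` can be summed over `K`. -/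
theorem sum_normalizer_eq_sum_ker [Fintype ↥(Subgroup.normalizer (K : Set G))] [Fintype K]
    (F : Subgroup.normalizer (K : Set G) → ℂ)
    (hF : ∀ n : Subgroup.normalizer (K : Set G), (n : G) ∉ K → F n = 0) :
    ∑ n : Subgroup.normalizer (K : Set G), F n =
      ∑ k : K, F ⟨(k : G), Subgroup.le_normalizer k.2⟩ := by
  classical
  haveI : Fintype (K.subgroupOf (Subgroup.normalizer (K : Set G))) := Fintype.ofFinite _
  rw [sum_eq_sum_subgroup (K.subgroupOf (Subgroup.normalizer (K : Set G))) F
    (fun x hx => hF x (by rwa [Subgroup.mem_subgroupOf] at hx))]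
  exact Fintype.sum_equiv (Subgroup.subgroupOfEquivOfLe Subgroup.le_normalizer).toEquiv _ _
    (fun x => rfl)

theorem sum_ker_irr (hC : ∀ k ∈ K, k ≠ 1 → Subgroup.centralizer ({k} : Set G) ≤ K) [Fintype K]
    (ξ : IrrCharacter (Subgroup.normalizer (K : Set G))) [Decidable (InExc K ξ)] :
    ∑ k : K, ξ.1 ⟨(k : G), Subgroup.le_normalizer k.2⟩ =
      if InExc K ξ then 0 else (Nat.card K : ℂ) * ξ.1 1 := by
  classical
  haveI : Fintype ↥(Subgroup.normalizer (K : Set G)) := Fintype.ofFinite _
  by_cases hξ : InExc K ξ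
  · rw [if_pos hξ, ← sum_normalizer_eq_sum_ker K ξ.1 (fun n hn => exc_vanish K hC hξ n hn)]
    exact exc_sum_eq_zero K hξ
  · rw [if_neg hξ]
    have h1 : ∀ k : K, ξ.1 ⟨(k : G), Subgroup.le_normalizer k.2⟩ = ξ.1 1 := by
      intro k
      by_contra hne
      exact hξ ⟨⟨(k : G), Subgroup.le_normalizer k.2⟩, k.2, hne⟩
    rw [Finset.sum_congr rfl (fun k _ => h1 k), Finset.sum_const, Finset.card_univ,
      Nat.card_eq_fintype_card, nsmul_eq_mul]

end NLevel

section GLevel

variable {G : Type u} [Group G] [Fintype G] (K : Subgroup G)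

theorem feit_index (h e : ℕ) (hK : Nat.card K = h)
    (hN : Nat.card (Subgroup.normalizer (K : Set G)) = h * e)
    (hG : Nat.card G = (h + 1) * (h * e)) (hh : 0 < h) (he : 0 < e) :
    (K.subgroupOf (Subgroup.normalizer (K : Set G))).index = e ∧
      (Subgroup.normalizer (K : Set G)).index = h + 1 ∧ K.index = (h + 1) * e := by
  have h1 := Subgroup.card_mul_index (K.subgroupOf (Subgroup.normalizer (K : Set G)))
  have h2 : Nat.card (K.subgroupOf (Subgroup.normalizer (K : Set G))) = h := by
    rw [← hK]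
    exact Nat.card_congr (Subgroup.subgroupOfEquivOfLe Subgroup.le_normalizer).toEquiv
  have h3 := Subgroup.card_mul_index (Subgroup.normalizer (K : Set G))
  have h4 := Subgroup.card_mul_index K
  rw [h2, hN] at h1
  rw [hN, hG] at h3
  rw [hK, hG] at h4
  refine ⟨Nat.eq_of_mul_eq_mul_left hh h1, ?_, ?_⟩
  · have : h * e * (Subgroup.normalizer (K : Set G)).index = h * e * (h + 1) := by
      rw [h3]; ring
    exact Nat.eq_of_mul_eq_mul_left (Nat.mul_pos hh he) this
  · have : h * K.index = h * ((h + 1) * e) := by rw [h4]; ring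
    exact Nat.eq_of_mul_eq_mul_left hh this

variable (hTI : ∀ g : G, g ∉ Subgroup.normalizer (K : Set G) → ∀ k ∈ K, g * k * g⁻¹ ∈ K → k = 1)
  (hC : ∀ k ∈ K, k ≠ 1 → Subgroup.centralizer ({k} : Set G) ≤ K)
  (hab : ∀ a ∈ K, ∀ b ∈ K, a * b = b * a)
  (h e : ℕ) (hK : Nat.card K = h)
  (hN : Nat.card (Subgroup.normalizer (K : Set G)) = h * e)
  (hG : Nat.card G = (h + 1) * (h * e)) (hh : 0 < h) (he : 0 < e)

include hC hab hK hN hG hh he in
theorem exc_one_eq' {ξ : IrrCharacter (Subgroup.normalizer (K : Set G))} (hξ : InExc K ξ) :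
    ξ.1 1 = (e : ℂ) := by
  rw [exc_one_eq K hC hab hξ, (feit_index K h e hK hN hG hh he).1]

include hC hab hK hN hG hh he in
theorem excInd_one {ξ : IrrCharacter (Subgroup.normalizer (K : Set G))} (hξ : InExc K ξ) :
    indFun (Subgroup.normalizer (K : Set G)) ξ.1 1 = ((h : ℂ) + 1) * e := by
  rw [indFun_one_eq, exc_one_eq' K hC hab h e hK hN hG hh he hξ,
    (feit_index K h e hK hN hG hh he).2.1]
  push_cast
  ring

include hTI hC in
theorem excInd_of_mem {ξ : IrrCharacter (Subgroup.normalizer (K : Set G))} (hξ : InExc K ξ)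
    (k : Subgroup.normalizer (K : Set G)) (hk : (k : G) ∈ K) (hk1 : k ≠ 1) :
    indFun (Subgroup.normalizer (K : Set G)) ξ.1 k = ξ.1 k :=
  indFun_TI (K : Set G) hTI ξ.1 (irr_isClassFunction ξ) (fun x hx => exc_vanish K hC hξ x hx)
    k hk hk1

include hK hN hG hh he in
theorem kerInd_one : indFun K (fun _ => (1 : ℂ)) 1 = ((h : ℂ) + 1) * e := by
  rw [indFun_one_eq, (feit_index K h e hK hN hG hh he).2.2]
  push_cast
  ring

include hTI hK hN hh in
theorem kerInd_of_mem (k : G) (hk : k ∈ K) (hk1 : k ≠ 1) :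
    indFun K (fun _ => (1 : ℂ)) k = (e : ℂ) := by
  rw [indFun_one_apply]
  have hcard : Nat.card {x : G // x⁻¹ * k * x ∈ K} = Nat.card (Subgroup.normalizer (K : Set G)) := by
    apply Nat.card_congr
    refine Equiv.subtypeEquivRight fun x => ?_
    constructor
    · intro hx
      by_contra hxN
      have hxN' : x⁻¹ ∉ Subgroup.normalizer (K : Set G) := fun hc => hxN (by simpa using inv_mem hc)
      exact hk1 (hTI x⁻¹ hxN' k hk (by simpa using hx))
    · intro hx
      have := (Subgroup.mem_normalizer_iff.mp (inv_mem hx) k).mp hk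
      simpa using this
  rw [hcard, hK, hN]
  have : (h : ℂ) ≠ 0 := by exact_mod_cast hh.ne'
  push_cast
  field_simp

include hTI hC hab hK hN hG hh he in
theorem excInd_norm {ξ : IrrCharacter (Subgroup.normalizer (K : Set G))} (hξ : InExc K ξ) :
    classInner (indFun (Subgroup.normalizer (K : Set G)) ξ.1)
      (indFun (Subgroup.normalizer (K : Set G)) ξ.1) = (e : ℂ) + 1 := by
  classical
  haveI : Fintype ↥(Subgroup.normalizer (K : Set G)) := Fintype.ofFinite _
  rw [frobenius_reciprocity (Subgroup.normalizer (K : Set G)) ξ.1 _ (indFun_isClassFunction _ _)]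
  have key : ∀ n : Subgroup.normalizer (K : Set G),
      ξ.1 n * conj (indFun (Subgroup.normalizer (K : Set G)) ξ.1 (n : G)) =
      ξ.1 n * conj (ξ.1 n) + if n = 1 then (e : ℂ) * ((h : ℂ) * e) else 0 := by
    intro n
    by_cases hn1 : n = 1
    · subst hn1
      rw [if_pos rfl, OneMemClass.coe_one, excInd_one K hC hab h e hK hN hG hh he hξ,
        exc_one_eq' K hC hab h e hK hN hG hh he hξ]
      simp only [map_mul, map_add, map_natCast, map_one]
      ring
    · rw [if_neg hn1, add_zero]
      by_cases hnK : (n : G) ∈ K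
      · rw [excInd_of_mem K hTI hC hξ n hnK hn1]
      · rw [exc_vanish K hC hξ n hnK, zero_mul, zero_mul]
  have hself := irr_inner_self ξ
  unfold classInner at hself ⊢
  simp only [key]
  rw [Finset.sum_add_distrib, Finset.sum_ite_eq', if_pos (Finset.mem_univ _), mul_add, hself, hN]
  have h1 : (h : ℂ) ≠ 0 := by exact_mod_cast hh.ne'
  have h2 : (e : ℂ) ≠ 0 := by exact_mod_cast he.ne'
  push_cast
  field_simp
  ring

include hTI hK hN hG hh he in
theorem kerInd_norm :
    classInner (indFun K (fun _ => (1 : ℂ))) (indFun K (fun _ => (1 : ℂ))) = 2 * (e : ℂ) := by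
  classical
  haveI : Fintype K := Fintype.ofFinite _
  rw [frobenius_reciprocity K _ _ (indFun_isClassFunction _ _)]
  have key : ∀ k : K, (1 : ℂ) * conj (indFun K (fun _ => (1 : ℂ)) (k : G)) =
      (e : ℂ) + if k = 1 then (h : ℂ) * e else 0 := by
    intro k
    by_cases hk1 : k = 1
    · subst hk1
      rw [if_pos rfl, OneMemClass.coe_one, kerInd_one K h e hK hN hG hh he]
      simp only [map_mul, map_add, map_natCast, map_one]
      ring
    · rw [if_neg hk1, add_zero, kerInd_of_mem K hTI h e hK hN hh k k.2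
        (fun hc => hk1 (Subtype.ext hc))]
      simp
  unfold classInner
  simp only [key]
  rw [Finset.sum_add_distrib, Finset.sum_ite_eq', if_pos (Finset.mem_univ _), Finset.sum_const,
    Finset.card_univ, ← Nat.card_eq_fintype_card, hK, nsmul_eq_mul]
  have h1 : (h : ℂ) ≠ 0 := by exact_mod_cast hh.ne'
  field_simp
  ring

include hTI hC hab hK hN hG hh he in
theorem kerInd_excInd {ξ : IrrCharacter (Subgroup.normalizer (K : Set G))} (hξ : InExc K ξ) :
    classInner (indFun K (fun _ => (1 : ℂ))) (indFun (Subgroup.normalizer (K : Set G)) ξ.1) =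
      (e : ℂ) := by
  classical
  haveI : Fintype K := Fintype.ofFinite _
  haveI : Fintype ↥(Subgroup.normalizer (K : Set G)) := Fintype.ofFinite _
  rw [frobenius_reciprocity K _ _ (indFun_isClassFunction _ _)]
  have key : ∀ k : K, (1 : ℂ) * conj (indFun (Subgroup.normalizer (K : Set G)) ξ.1 (k : G)) =
      conj (ξ.1 ⟨(k : G), Subgroup.le_normalizer k.2⟩) + if k = 1 then (h : ℂ) * e else 0 := by
    intro k
    by_cases hk1 : k = 1
    · subst hk1
      rw [if_pos rfl]
      change (1 : ℂ) * conj (indFun (Subgroup.normalizer (K : Set G)) ξ.1 (1 : G)) =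
        conj (ξ.1 (1 : Subgroup.normalizer (K : Set G))) + (h : ℂ) * e
      rw [excInd_one K hC hab h e hK hN hG hh he hξ, exc_one_eq' K hC hab h e hK hN hG hh he hξ]
      simp only [map_mul, map_add, map_natCast, map_one]
      ring
    · rw [if_neg hk1, add_zero, one_mul]
      have := excInd_of_mem K hTI hC hξ ⟨(k : G), Subgroup.le_normalizer k.2⟩ k.2
        (fun hc => hk1 (Subtype.ext (show (k : G) = 1 from
          congrArg (fun x : Subgroup.normalizer (K : Set G) => (x : G)) hc)))
      rw [← this]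
  unfold classInner
  simp only [key]
  rw [Finset.sum_add_distrib, Finset.sum_ite_eq', if_pos (Finset.mem_univ _), ← map_sum,
    sum_ker_irr K hC ξ, if_pos hξ, map_zero, zero_add, hK]
  have h1 : (h : ℂ) ≠ 0 := by exact_mod_cast hh.ne'
  field_simp

end GLevel

end Cfsg.Agent.H19
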