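import Mathlib
import Cfsg.Agent.H19.FeitAb2

/-!
# Feit's theorem on Zassenhaus groups, abelian kernel: restriction to the normalizer (helper19)
-/

set_option autoImplicit false
set_option linter.unusedSectionVars false
set_option linter.style.haveILetI false

namespace Cfsg.Agent.H19

open Cfsg Cfsg.Agent.H4 Cfsg.Agent.H5
open scoped ComplexConjugate

universe u

section Restr

variable {G : Type u} [Group G] [Fintype G] (K : Subgroup G)

theorem classInner_excInd_eq_ncoef [Fintype ↥(Subgroup.normalizer (K : Set G))]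
    (ξ : IrrCharacter (Subgroup.normalizer (K : Set G))) {A : G → ℂ} (hA : IsCharacter G A) :
    classInner (indFun (Subgroup.normalizer (K : Set G)) ξ.1) A =
      (ncoef (fun n : Subgroup.normalizer (K : Set G) => A n) ξ : ℂ) := by
  rw [frobenius_reciprocity _ ξ.1 A (isClassFunction_of_isCharacter hA)]
  exact ncoef_cast' (isCharacter_restrict _ hA) ξ

variable (hC : ∀ k ∈ K, k ≠ 1 → Subgroup.centralizer ({k} : Set G) ≤ K)

include hC in
open Classical in
theorem classInner_kerInd_eq [Fintype ↥(Subgroup.normalizer (K : Set G))]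
    [Fintype (IrrCharacter (Subgroup.normalizer (K : Set G)))] {A : G → ℂ}
    (hA : IsCharacter G A) :
    classInner (indFun K (fun _ => (1 : ℂ))) A =
      ∑ ξ : IrrCharacter (Subgroup.normalizer (K : Set G)), if InExc K ξ then 0 else
        (ncoef (fun n : Subgroup.normalizer (K : Set G) => A n) ξ : ℂ) * ξ.1 1 := by
  haveI : Fintype K := Fintype.ofFinite _
  have hRc : IsCharacter (Subgroup.normalizer (K : Set G))
      (fun n : Subgroup.normalizer (K : Set G) => A n) := isCharacter_restrict _ hA
  rw [frobenius_reciprocity K _ A (isClassFunction_of_isCharacter hA)]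
  unfold classInner
  have hk : ∀ k : K, (1 : ℂ) * conj (A k) =
      conj (∑ ξ : IrrCharacter (Subgroup.normalizer (K : Set G)),
        (ncoef (fun n : Subgroup.normalizer (K : Set G) => A n) ξ : ℂ) *
          ξ.1 ⟨(k : G), Subgroup.le_normalizer k.2⟩) := by
    intro k
    rw [one_mul]
    congr 1
    exact character_eq_sum_ncoef hRc ⟨(k : G), Subgroup.le_normalizer k.2⟩
  simp only [hk]
  rw [← map_sum, Finset.sum_comm]
  simp only [← Finset.mul_sum, sum_ker_irr K hC]
  rw [map_sum, Finset.mul_sum]
  refine Finset.sum_congr rfl fun ξ _ => ?_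
  by_cases hξ : InExc K ξ
  · simp [hξ]
  · rw [if_neg hξ, if_neg hξ]
    simp only [map_mul, map_natCast, irr_one_conj]
    have : (Nat.card K : ℂ) ≠ 0 := (neZero_card_complex K).out
    field_simp

variable (hab : ∀ a ∈ K, ∀ b ∈ K, a * b = b * a)
  (h e : ℕ) (hK : Nat.card K = h)
  (hN : Nat.card (Subgroup.normalizer (K : Set G)) = h * e)
  (hG : Nat.card G = (h + 1) * (h * e)) (hh : 0 < h) (he : 0 < e)

include hC hab hK hN hG hh he in
/-- The degree of a character in terms of its multiplicities in the induced characters. -/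
theorem degree_formula
    [Fintype {ξ : IrrCharacter (Subgroup.normalizer (K : Set G)) // InExc K ξ}]
    {A : G → ℂ} (hA : IsCharacter G A) :
    A 1 = (e : ℂ) * ∑ ζ : {ξ : IrrCharacter (Subgroup.normalizer (K : Set G)) // InExc K ξ},
        classInner (indFun (Subgroup.normalizer (K : Set G)) ζ.1.1) A +
      classInner (indFun K (fun _ => (1 : ℂ))) A := by
  classical
  haveI : Fintype ↥(Subgroup.normalizer (K : Set G)) := Fintype.ofFinite _
  letI := fintypeIrr (Subgroup.normalizer (K : Set G))
  have hRc : IsCharacter (Subgroup.normalizer (K : Set G))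
      (fun n : Subgroup.normalizer (K : Set G) => A n) := isCharacter_restrict _ hA
  have h1 : A 1 = ∑ ξ : IrrCharacter (Subgroup.normalizer (K : Set G)),
      (ncoef (fun n : Subgroup.normalizer (K : Set G) => A n) ξ : ℂ) * ξ.1 1 :=
    character_eq_sum_ncoef hRc 1
  have h4 : ∑ ζ : {ξ : IrrCharacter (Subgroup.normalizer (K : Set G)) // InExc K ξ},
      classInner (indFun (Subgroup.normalizer (K : Set G)) ζ.1.1) A =
      ∑ ξ : IrrCharacter (Subgroup.normalizer (K : Set G)), if InExc K ξ then
        (ncoef (fun n : Subgroup.normalizer (K : Set G) => A n) ξ : ℂ) else 0 := by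
    rw [← Finset.sum_filter]
    rw [Finset.sum_subtype (p := InExc K) (Finset.univ.filter (InExc K))
      (fun x => by
        rw [Finset.mem_filter]
        exact ⟨fun h => h.2, fun h => ⟨Finset.mem_univ _, h⟩⟩)
      (fun ξ => (ncoef (fun n : Subgroup.normalizer (K : Set G) => A n) ξ : ℂ))]
    exact Finset.sum_congr rfl fun ζ _ => classInner_excInd_eq_ncoef K ζ.1 hA
  rw [h1, classInner_kerInd_eq K hC hA, h4, Finset.mul_sum, ← Finset.sum_add_distrib]
  refine Finset.sum_congr rfl fun ξ _ => ?_
  by_cases hξ : InExc K ξ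
  · rw [if_pos hξ, if_pos hξ, add_zero, exc_one_eq' K hC hab h e hK hN hG hh he hξ]
    ring
  · rw [if_neg hξ, if_neg hξ, mul_zero, zero_add]

/-- A character orthogonal to all induced exceptional characters is constant on `K`. -/
theorem const_on_ker_of_orth {A : G → ℂ} (hA : IsCharacter G A)
    (h0 : ∀ ξ : IrrCharacter (Subgroup.normalizer (K : Set G)), InExc K ξ →
      classInner (indFun (Subgroup.normalizer (K : Set G)) ξ.1) A = 0) (k : G) (hk : k ∈ K) :
    A k = A 1 := by
  classical
  haveI : Fintype ↥(Subgroup.normalizer (K : Set G)) := Fintype.ofFinite _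
  letI := fintypeIrr (Subgroup.normalizer (K : Set G))
  have hRc : IsCharacter (Subgroup.normalizer (K : Set G))
      (fun n : Subgroup.normalizer (K : Set G) => A n) := isCharacter_restrict _ hA
  have e1 : A k = ∑ ξ : IrrCharacter (Subgroup.normalizer (K : Set G)),
      (ncoef (fun n : Subgroup.normalizer (K : Set G) => A n) ξ : ℂ) *
        ξ.1 ⟨k, Subgroup.le_normalizer hk⟩ :=
    character_eq_sum_ncoef hRc ⟨k, Subgroup.le_normalizer hk⟩
  have e2 : A 1 = ∑ ξ : IrrCharacter (Subgroup.normalizer (K : Set G)),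
      (ncoef (fun n : Subgroup.normalizer (K : Set G) => A n) ξ : ℂ) * ξ.1 1 :=
    character_eq_sum_ncoef hRc 1
  rw [e1, e2]
  refine Finset.sum_congr rfl fun ξ _ => ?_
  by_cases hξ : InExc K ξ
  · have : (ncoef (fun n : Subgroup.normalizer (K : Set G) => A n) ξ : ℂ) = 0 := by
      rw [← classInner_excInd_eq_ncoef K ξ hA]
      exact h0 ξ hξ
    rw [this, zero_mul, zero_mul]
  · congr 1
    by_contra hne
    exact hξ ⟨⟨k, Subgroup.le_normalizer hk⟩, hk, hne⟩

include hC in
/-- A character whose only constituent on the normalizer is `ζ₀`. -/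
theorem restrict_eq_of_coef {A : G → ℂ} (hA : IsCharacter G A)
    (ζ₀ : IrrCharacter (Subgroup.normalizer (K : Set G)))
    (h1 : classInner (indFun (Subgroup.normalizer (K : Set G)) ζ₀.1) A = 1)
    (h0 : ∀ ξ : IrrCharacter (Subgroup.normalizer (K : Set G)), InExc K ξ → ξ ≠ ζ₀ →
      classInner (indFun (Subgroup.normalizer (K : Set G)) ξ.1) A = 0)
    (hT : classInner (indFun K (fun _ => (1 : ℂ))) A = 0)
    (n : Subgroup.normalizer (K : Set G)) : A n = ζ₀.1 n := by
  classical
  haveI : Fintype ↥(Subgroup.normalizer (K : Set G)) := Fintype.ofFinite _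
  letI := fintypeIrr (Subgroup.normalizer (K : Set G))
  have hRc : IsCharacter (Subgroup.normalizer (K : Set G))
      (fun n : Subgroup.normalizer (K : Set G) => A n) := isCharacter_restrict _ hA
  have e1 : A n = ∑ ξ : IrrCharacter (Subgroup.normalizer (K : Set G)),
      (ncoef (fun n : Subgroup.normalizer (K : Set G) => A n) ξ : ℂ) * ξ.1 n :=
    character_eq_sum_ncoef hRc n
  have hT' := classInner_kerInd_eq K hC hA
  rw [hT] at hT'
  -- degrees as naturals
  have hdeg : ∀ ξ : IrrCharacter (Subgroup.normalizer (K : Set G)),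
      ∃ d : ℕ, 0 < d ∧ ξ.1 1 = d := fun ξ => irr_one_eq_natCast ξ
  choose d hd0 hd using hdeg
  have hT2 : ∑ ξ : IrrCharacter (Subgroup.normalizer (K : Set G)), (if InExc K ξ then 0 else
      ncoef (fun n : Subgroup.normalizer (K : Set G) => A n) ξ * d ξ) = 0 := by
    have : ((∑ ξ : IrrCharacter (Subgroup.normalizer (K : Set G)), (if InExc K ξ then 0 else
      ncoef (fun n : Subgroup.normalizer (K : Set G) => A n) ξ * d ξ) : ℕ) : ℂ) = 0 := by
      rw [hT']
      push_cast
      refine Finset.sum_congr rfl fun ξ _ => ?_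
      by_cases hξ : InExc K ξ
      · simp [hξ]
      · simp [hξ, hd ξ]
    exact_mod_cast this
  rw [Finset.sum_eq_zero_iff] at hT2
  rw [e1, Finset.sum_eq_single ζ₀]
  · rw [← classInner_excInd_eq_ncoef K ζ₀ hA, h1, one_mul]
  · intro ξ _ hne
    by_cases hξ : InExc K ξ
    · rw [← classInner_excInd_eq_ncoef K ξ hA, h0 ξ hξ hne, zero_mul]
    · have := hT2 ξ (Finset.mem_univ _)
      rw [if_neg hξ] at this
      have hm : ncoef (fun n : Subgroup.normalizer (K : Set G) => A n) ξ = 0 := by
        rcases Nat.mul_eq_zero.mp this with h | h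
        · exact h
        · exact absurd h (hd0 ξ).ne'
      rw [hm, Nat.cast_zero, zero_mul]
  · intro hc
    exact absurd (Finset.mem_univ _) hc

end Restr

end Cfsg.Agent.H19
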