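import Mathlib
import Cfsg.Agent.H19.FeitAb3
import Cfsg.Agent.H4.CharBasic

/-!
# Feit's theorem on Zassenhaus groups, abelian kernel: simplicity, class count, arithmetic
(helper19)
-/

set_option autoImplicit false
set_option linter.unusedSectionVars false
set_option linter.style.haveILetI false

namespace Cfsg.Agent.H19

open Cfsg Cfsg.Agent.H4 Cfsg.Agent.H5
open scoped ComplexConjugate

universe u

section Simple

variable {G : Type u} [Group G] [Finite G]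

/-- In a simple group, an irreducible character taking its degree at a non-identity element is
trivial. -/
theorem irr_eq_one_of_const [IsSimpleGroup G] {χ : G → ℂ} (hχ : IsIrrCharacter G χ) (k : G)
    (hk1 : k ≠ 1) (hk : χ k = χ 1) : χ = fun _ => 1 := by
  obtain ⟨n, ρ, hirr, rfl⟩ := hχ
  haveI := hirr
  have h1 : ρ.character 1 = (Module.finrank ℂ (Fin n → ℂ) : ℂ) := by
    rw [Representation.character, map_one]
    exact LinearMap.trace_one ℂ (Fin n → ℂ)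
  have h2 : ρ k = LinearMap.id := (character_eq_finrank_iff ρ k).mp (by rw [hk, h1])
  have hker : ∀ x : G, x ∈ (Representation.asGroupHom ρ).ker ↔ ρ x = LinearMap.id := by
    intro x
    rw [MonoidHom.mem_ker]
    constructor
    · intro h
      have := congrArg Units.val h
      rw [Representation.asGroupHom_apply] at this
      exact this
    · intro h
      apply Units.ext
      rw [Representation.asGroupHom_apply]
      exact h
  have hkmem : k ∈ (Representation.asGroupHom ρ).ker := (hker k).mpr h2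
  have htop : (Representation.asGroupHom ρ).ker = ⊤ := by
    rcases (Representation.asGroupHom ρ).normal_ker.eq_bot_or_eq_top with h | h
    · rw [h, Subgroup.mem_bot] at hkmem
      exact absurd hkmem hk1
    · exact h
  apply character_eq_one_of_trivial
  intro x
  rw [← hker, htop]
  exact Subgroup.mem_top x

/-- Classes meeting `K♯`, classes missing `K`, and the class of the identity are disjoint. -/
theorem card_classes_split (K : Subgroup G) :
    Nat.card {C : ConjClasses G // ∃ k ∈ K, k ≠ 1 ∧ ConjClasses.mk k = C} +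
      Nat.card {C : ConjClasses G // ∀ g : G, ConjClasses.mk g = C → g ∉ K} + 1 ≤
      Nat.card (ConjClasses G) := by
  classical
  have key : Nat.card ({C : ConjClasses G // ∃ k ∈ K, k ≠ 1 ∧ ConjClasses.mk k = C} ⊕
      ({C : ConjClasses G // ∀ g : G, ConjClasses.mk g = C → g ∉ K} ⊕ Unit)) ≤
      Nat.card (ConjClasses G) := by
    apply Nat.card_le_card_of_injective (fun x => Sum.elim (fun c => c.1)
      (Sum.elim (fun c => c.1) (fun _ => ConjClasses.mk (1 : G))) x)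
    rintro (x | x | x) (y | y | y) hxy
    · exact congrArg Sum.inl (Subtype.ext hxy)
    · exfalso
      obtain ⟨k, hk, -, hkx⟩ := x.2
      exact y.2 k (hkx.trans hxy) hk
    · exfalso
      obtain ⟨k, hk, hk1, hkx⟩ := x.2
      have h1 : ConjClasses.mk k = ConjClasses.mk (1 : G) := hkx.trans hxy
      rw [ConjClasses.mk_eq_mk_iff_isConj] at h1
      exact hk1 (isConj_one_left.mp h1)
    · exfalso
      obtain ⟨k, hk, -, hky⟩ := y.2
      exact x.2 k (hky.trans hxy.symm) hk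
    · exact congrArg Sum.inr (congrArg Sum.inl (Subtype.ext hxy))
    · exfalso
      exact x.2 1 hxy.symm K.one_mem
    · exfalso
      obtain ⟨k, hk, hk1, hky⟩ := y.2
      have h1 : ConjClasses.mk k = ConjClasses.mk (1 : G) := hky.trans hxy.symm
      rw [ConjClasses.mk_eq_mk_iff_isConj] at h1
      exact hk1 (isConj_one_left.mp h1)
    · exfalso
      exact y.2 1 hxy K.one_mem
    · rfl
  rw [Nat.card_sum, Nat.card_sum] at key
  have hu : Nat.card Unit = 1 := Nat.card_unique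
  omega

end Simple

section ClassCount

variable {G : Type u} [Group G] [Fintype G] (K : Subgroup G)

/-- Each class of `G` meets `K♯` in at most `e = |N_G(K) : K|` elements, for abelian T.I. `K`. -/
theorem card_ker_classes
    (hTI : ∀ g : G, g ∉ Subgroup.normalizer (K : Set G) → ∀ k ∈ K, g * k * g⁻¹ ∈ K → k = 1)
    (hab : ∀ a ∈ K, ∀ b ∈ K, a * b = b * a) (h e : ℕ) (hK : Nat.card K = h)
    (hN : Nat.card (Subgroup.normalizer (K : Set G)) = h * e)
    (hG : Nat.card G = (h + 1) * (h * e)) (hh : 0 < h) (he : 0 < e) :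
    h - 1 ≤ e * Nat.card {C : ConjClasses G // ∃ k ∈ K, k ≠ 1 ∧ ConjClasses.mk k = C} := by
  classical
  haveI : Fintype K := Fintype.ofFinite _
  haveI : Fintype {C : ConjClasses G // ∃ k ∈ K, k ≠ 1 ∧ ConjClasses.mk k = C} :=
    Fintype.ofFinite _
  -- the map from `K♯` to classes
  let φ : {k : K // k ≠ 1} → {C : ConjClasses G // ∃ k ∈ K, k ≠ 1 ∧ ConjClasses.mk k = C} :=
    fun k => ⟨ConjClasses.mk (k.1 : G), (k.1 : G), k.1.2,
      fun hc => k.2 (Subtype.ext hc), rfl⟩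
  have hcardX : Fintype.card {k : K // k ≠ 1} = h - 1 := by
    rw [Fintype.card_subtype_compl, Fintype.card_subtype_eq, ← Nat.card_eq_fintype_card, hK]
  have hidx := (feit_index K h e hK hN hG hh he).1
  -- fibers have at most `e` elements
  have hfib : ∀ C ∈ (Finset.univ : Finset {k : K // k ≠ 1}).image φ,
      ((Finset.univ : Finset {k : K // k ≠ 1}).filter (fun x => φ x = C)).card ≤ e := by
    intro C hC
    obtain ⟨k₀, -, rfl⟩ := Finset.mem_image.mp hC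
    have hconj : ∀ x : {k : K // k ≠ 1}, φ x = φ k₀ →
        ∃ g : Subgroup.normalizer (K : Set G), (g : G) * (k₀.1 : G) * (g : G)⁻¹ = (x.1 : G) := by
      intro x hx
      have h1 : ConjClasses.mk (x.1 : G) = ConjClasses.mk (k₀.1 : G) := congrArg Subtype.val hx
      rw [ConjClasses.mk_eq_mk_iff_isConj] at h1
      obtain ⟨g, hg⟩ := isConj_iff.mp h1.symm
      have hgN : g ∈ Subgroup.normalizer (K : Set G) := by
        by_contra hgN
        have := hTI g hgN (k₀.1 : G) k₀.1.2 (by rw [hg]; exact x.1.2)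
        exact k₀.2 (Subtype.ext this)
      exact ⟨⟨g, hgN⟩, hg⟩
    -- injection of the fiber into the quotient `N / K`
    have hinj : ((Finset.univ : Finset {k : K // k ≠ 1}).filter (fun x => φ x = φ k₀)).card ≤
        Nat.card (↥(Subgroup.normalizer (K : Set G)) ⧸
          K.subgroupOf (Subgroup.normalizer (K : Set G))) := by
      rw [← Fintype.card_coe, ← Nat.card_eq_fintype_card]
      apply Nat.card_le_card_of_injective
        (fun x : ((Finset.univ : Finset {k : K // k ≠ 1}).filter (fun x => φ x = φ k₀)) =>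
          (QuotientGroup.mk (Classical.choose (hconj x.1 (Finset.mem_filter.mp x.2).2)) :
            ↥(Subgroup.normalizer (K : Set G)) ⧸ K.subgroupOf (Subgroup.normalizer (K : Set G))))
      intro x y hxy
      have hx := Classical.choose_spec (hconj x.1 (Finset.mem_filter.mp x.2).2)
      have hy := Classical.choose_spec (hconj y.1 (Finset.mem_filter.mp y.2).2)
      simp only at hxy
      rw [QuotientGroup.eq, Subgroup.mem_subgroupOf] at hxy
      set gx := Classical.choose (hconj x.1 (Finset.mem_filter.mp x.2).2) with hgx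
      set gy := Classical.choose (hconj y.1 (Finset.mem_filter.mp y.2).2) with hgy
      have hu : (gx : G)⁻¹ * (gy : G) ∈ K := by simpa using hxy
      have hcomm := hab _ hu _ k₀.1.2
      apply Subtype.ext
      apply Subtype.ext
      apply Subtype.ext
      rw [← hx, ← hy]
      have h2 : (gy : G) = (gx : G) * ((gx : G)⁻¹ * (gy : G)) := by group
      rw [h2]
      calc (gx : G) * (k₀.1 : G) * (gx : G)⁻¹
          = (gx : G) * ((k₀.1 : G) * ((gx : G)⁻¹ * (gy : G)) * ((gx : G)⁻¹ * (gy : G))⁻¹) *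
            (gx : G)⁻¹ := by group
        _ = (gx : G) * (((gx : G)⁻¹ * (gy : G)) * (k₀.1 : G) * ((gx : G)⁻¹ * (gy : G))⁻¹) *
            (gx : G)⁻¹ := by rw [hcomm]
        _ = (gx : G) * ((gx : G)⁻¹ * (gy : G)) * (k₀.1 : G) *
            ((gx : G) * ((gx : G)⁻¹ * (gy : G)))⁻¹ := by group
    have hq : Nat.card (↥(Subgroup.normalizer (K : Set G)) ⧸
        K.subgroupOf (Subgroup.normalizer (K : Set G))) = e := by
      rw [← hidx]
      rfl
    rw [hq] at hinj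
    exact hinj
  have h1 := Finset.card_le_mul_card_image (Finset.univ : Finset {k : K // k ≠ 1}) e hfib
  rw [Finset.card_univ, hcardX] at h1
  have h2 : ((Finset.univ : Finset {k : K // k ≠ 1}).image φ).card ≤
      Nat.card {C : ConjClasses G // ∃ k ∈ K, k ≠ 1 ∧ ConjClasses.mk k = C} := by
    rw [Nat.card_eq_fintype_card]
    exact Finset.card_le_univ _
  exact le_trans h1 (Nat.mul_le_mul_left e h2)

end ClassCount

section Arith

set_option maxHeartbeats 1600000 in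
/-- The arithmetic core of Feit's theorem for abelian kernels. -/
theorem feit_arith {S I : Type*} [Fintype S] [Fintype I] [DecidableEq S] [DecidableEq I]
    (e h : ℕ) (b : S → I → ℕ) (f p n deg : I → ℕ) (one : I) (fexc : S → I)
    (hinj : Function.Injective fexc) (ε : ℤ) (hε : ε = 1 ∨ ε = -1) (ζ₁ : S)
    (hS : Fintype.card S * e + 1 = h) (hs3 : 3 ≤ Fintype.card S) (he3 : 3 ≤ e)
    (hI : Fintype.card S + e + 1 ≤ Fintype.card I)
    (R1 : ∀ ζ, ∑ χ, b ζ χ ^ 2 = e + 1)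
    (R2 : ∑ χ, f χ ^ 2 = 2 * e)
    (R3 : ∀ ζ, ∑ χ, f χ * b ζ χ = e)
    (R4 : ∀ χ, deg χ = e * ∑ ζ, b ζ χ + f χ)
    (R5 : ∀ ζ ξ χ, (b ζ χ : ℤ) - b ξ χ =
      ε * ((if χ = fexc ζ then 1 else 0) - (if χ = fexc ξ then 1 else 0)))
    (A : ∀ χ, (∀ ζ, b ζ χ = 0) → χ = one)
    (A1 : ∀ ζ, b ζ one = 0) (A2 : f one = 1)
    (B1 : ∀ χ, χ ≠ one → f χ = 1 → (∀ ζ, b ζ χ = 1) → p χ = 1)
    (B2 : ∑ χ, p χ * deg χ = h + 1)
    (C1 : b ζ₁ (fexc ζ₁) = 1 → (∀ ξ, ξ ≠ ζ₁ → b ξ (fexc ζ₁) = 0) → f (fexc ζ₁) = 0 →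
      n one = 1 ∧ ∑ χ, f χ * n χ = e ∧ ∑ χ, n χ * deg χ = e ^ 2) : False := by
  classical
  haveI : Nontrivial S := Fintype.one_lt_card_iff_nontrivial.mp (by omega)
  set E : Finset I := Finset.univ.image fexc with hE
  set Ψ : Finset I := (Finset.univ \ E).erase one with hΨ
  have hmemE : ∀ χ, χ ∈ E ↔ ∃ ξ, fexc ξ = χ := by
    intro χ
    simp [hE]
  -- step 1
  have hΨb : ∀ χ, χ ∉ E → ∀ ζ ξ, b ζ χ = b ξ χ := by
    intro χ hχ ζ ξ
    have h1 : χ ≠ fexc ζ := fun hc => hχ ((hmemE χ).mpr ⟨ζ, hc.symm⟩)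
    have h2 : χ ≠ fexc ξ := fun hc => hχ ((hmemE χ).mpr ⟨ξ, hc.symm⟩)
    have := R5 ζ ξ χ
    rw [if_neg h1, if_neg h2] at this
    have h3 : (b ζ χ : ℤ) = b ξ χ := by linarith
    exact_mod_cast h3
  have hε0 : ε ≠ 0 := by
    rcases hε with h | h <;> rw [h] <;> norm_num
  -- step 2
  have hone : one ∉ E := by
    intro hc
    obtain ⟨ζ₀, hζ₀⟩ := (hmemE one).mp hc
    obtain ⟨ξ, hξ⟩ : ∃ ξ : S, ξ ≠ ζ₀ := exists_ne ζ₀
    have h3 : ε = 0 := by
      have := R5 ζ₀ ξ one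
      rw [if_pos hζ₀.symm, if_neg (fun hc' => hξ (hinj (hc'.symm.trans hζ₀.symm))), A1, A1] at this
      push_cast at this
      linarith
    exact hε0 h3
  have hsplit : ∀ g : I → ℕ, ∑ χ, g χ = g one + ∑ χ ∈ Ψ, g χ + ∑ ξ, g (fexc ξ) := by
    intro g
    have h1 : ∑ χ ∈ Finset.univ \ E, g χ + ∑ χ ∈ E, g χ = ∑ χ, g χ :=
      Finset.sum_sdiff (Finset.subset_univ E)
    have h2 : g one + ∑ χ ∈ Ψ, g χ = ∑ χ ∈ Finset.univ \ E, g χ :=
      Finset.add_sum_erase _ g (by simp [hone])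
    have h3 : ∑ χ ∈ E, g χ = ∑ ξ, g (fexc ξ) :=
      Finset.sum_image (fun x _ y _ hxy => hinj hxy)
    rw [← h1, ← h2, h3]
  have hcardΨ₀ : e ≤ Ψ.card := by
    have h1 := hsplit (fun _ => 1)
    simp only [Finset.sum_const, Finset.card_univ, smul_eq_mul, mul_one] at h1
    omega
  have hΨmem : ∀ χ ∈ Ψ, χ ≠ one ∧ χ ∉ E := by
    intro χ hχ
    rw [hΨ, Finset.mem_erase, Finset.mem_sdiff] at hχ
    exact ⟨hχ.1, hχ.2.2⟩
  have hb1 : ∀ χ ∈ Ψ, ∀ ζ, 1 ≤ b ζ χ := by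
    intro χ hχ ζ
    obtain ⟨hne, hnE⟩ := hΨmem χ hχ
    by_contra hlt
    have h0 : b ζ χ = 0 := by omega
    exact hne (A χ (fun ξ => by rw [hΨb χ hnE ξ ζ, h0]))
  -- step 4
  have hsq : ∀ ζ, ∑ χ ∈ Ψ, b ζ χ ^ 2 + ∑ ξ, b ζ (fexc ξ) ^ 2 = e + 1 := by
    intro ζ
    have h1 := hsplit (fun χ => b ζ χ ^ 2)
    rw [R1 ζ, A1 ζ] at h1
    omega
  have hΨle : ∀ ζ, Ψ.card ≤ ∑ χ ∈ Ψ, b ζ χ ^ 2 := by
    intro ζ
    have := Finset.card_nsmul_le_sum Ψ (fun χ => b ζ χ ^ 2) 1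
      (fun χ hχ => Nat.one_le_pow _ _ (hb1 χ hχ ζ))
    simpa using this
  have hspade : ∀ ζ, ∑ ξ, b ζ (fexc ξ) ^ 2 ≤ 1 := by
    intro ζ
    have h1 := hsq ζ
    have h2 := hΨle ζ
    omega
  -- step 5
  have hε1 : ε = 1 := by
    rcases hε with h | h
    · exact h
    · exfalso
      have hge : ∀ ξ, ξ ≠ ζ₁ → 1 ≤ b ζ₁ (fexc ξ) := by
        intro ξ hξ
        have := R5 ζ₁ ξ (fexc ξ)
        rw [if_neg (fun hc => hξ (hinj hc)), if_pos rfl, h] at this
        have h3 : (b ζ₁ (fexc ξ) : ℤ) = b ξ (fexc ξ) + 1 := by linarith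
        have h4 : b ζ₁ (fexc ξ) = b ξ (fexc ξ) + 1 := by exact_mod_cast h3
        omega
      have h4 : (Finset.univ.erase ζ₁).card ≤ ∑ ξ ∈ Finset.univ.erase ζ₁, b ζ₁ (fexc ξ) ^ 2 := by
        have := Finset.card_nsmul_le_sum (Finset.univ.erase ζ₁) (fun ξ => b ζ₁ (fexc ξ) ^ 2) 1
          (fun ξ hξ => Nat.one_le_pow _ _ (hge ξ (Finset.ne_of_mem_erase hξ)))
        simpa using this
      have h5 : ∑ ξ ∈ Finset.univ.erase ζ₁, b ζ₁ (fexc ξ) ^ 2 ≤ ∑ ξ, b ζ₁ (fexc ξ) ^ 2 :=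
        Finset.sum_le_sum_of_subset (Finset.erase_subset _ _)
      have h6 : (Finset.univ.erase ζ₁).card = Fintype.card S - 1 := by
        rw [Finset.card_erase_of_mem (Finset.mem_univ _), Finset.card_univ]
      have h7 := hspade ζ₁
      omega
  rw [hε1] at R5
  -- step 6
  have hdiag : ∀ ζ, b ζ (fexc ζ) = 1 := by
    intro ζ
    obtain ⟨ξ, hξ⟩ : ∃ ξ : S, ξ ≠ ζ := exists_ne ζ
    have := R5 ζ ξ (fexc ζ)
    rw [if_pos rfl, if_neg (fun hc => hξ (hinj hc).symm)] at this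
    have h3 : (b ζ (fexc ζ) : ℤ) = b ξ (fexc ζ) + 1 := by linarith
    have h4 : b ζ (fexc ζ) = b ξ (fexc ζ) + 1 := by exact_mod_cast h3
    have h5 : b ζ (fexc ζ) ^ 2 ≤ ∑ ξ, b ζ (fexc ξ) ^ 2 :=
      Finset.single_le_sum (f := fun ξ => b ζ (fexc ξ) ^ 2) (fun _ _ => Nat.zero_le _)
        (Finset.mem_univ ζ)
    have h6 := hspade ζ
    have h7 : b ζ (fexc ζ) ^ 2 ≤ 1 := le_trans h5 h6
    have h8 : b ζ (fexc ζ) ≤ 1 := by
      by_contra hlt
      have : 2 ≤ b ζ (fexc ζ) := by omega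
      nlinarith
    omega
  have hoff : ∀ ζ ξ, ξ ≠ ζ → b ζ (fexc ξ) = 0 := by
    intro ζ ξ hξ
    have h5 : ∑ x ∈ ({ζ, ξ} : Finset S), b ζ (fexc x) ^ 2 ≤ ∑ x, b ζ (fexc x) ^ 2 :=
      Finset.sum_le_sum_of_subset (Finset.subset_univ _)
    rw [Finset.sum_pair hξ.symm, hdiag ζ] at h5
    have h6 := hspade ζ
    have h7 : b ζ (fexc ξ) ^ 2 = 0 := by omega
    exact pow_eq_zero_iff (two_ne_zero) |>.mp h7
  -- step 7
  have hΨsum : ∀ ζ, ∑ χ ∈ Ψ, b ζ χ ^ 2 = e := by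
    intro ζ
    have h1 := hsq ζ
    have h2 : ∑ ξ, b ζ (fexc ξ) ^ 2 = 1 := by
      rw [Finset.sum_eq_single ζ (fun ξ _ hξ => by rw [hoff ζ ξ hξ]; rfl)
        (fun hc => absurd (Finset.mem_univ _) hc), hdiag ζ]
      rfl
    omega
  have hcardΨ : Ψ.card = e := by
    have h1 := hΨle ζ₁
    have h2 := hΨsum ζ₁
    omega
  have hbΨ : ∀ χ ∈ Ψ, ∀ ζ, b ζ χ = 1 := by
    intro χ hχ ζ
    have h1 := eq_one_of_sum_le_card Ψ (fun χ => b ζ χ ^ 2)
      (fun x hx => Nat.one_le_pow _ _ (hb1 x hx ζ)) (by rw [hΨsum ζ, hcardΨ]) χ hχ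
    have h2 := hb1 χ hχ ζ
    by_contra hne
    have : 2 ≤ b ζ χ := by omega
    nlinarith
  -- step 8
  have hf1 : ∀ ζ, ∑ χ ∈ Ψ, f χ + f (fexc ζ) = e := by
    intro ζ
    have h1 := hsplit (fun χ => f χ * b ζ χ)
    rw [R3 ζ, A1 ζ, mul_zero, zero_add] at h1
    have h2 : ∑ χ ∈ Ψ, f χ * b ζ χ = ∑ χ ∈ Ψ, f χ :=
      Finset.sum_congr rfl (fun χ hχ => by rw [hbΨ χ hχ ζ, mul_one])
    have h3 : ∑ ξ, f (fexc ξ) * b ζ (fexc ξ) = f (fexc ζ) := by
      rw [Finset.sum_eq_single ζ (fun ξ _ hξ => by rw [hoff ζ ξ hξ, mul_zero])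
        (fun hc => absurd (Finset.mem_univ _) hc), hdiag ζ, mul_one]
    omega
  obtain ⟨c, hc⟩ : ∃ c, c = f (fexc ζ₁) := ⟨_, rfl⟩
  have hfc : ∀ ζ, f (fexc ζ) = c := by
    intro ζ
    have h1 := hf1 ζ
    have h2 := hf1 ζ₁
    omega
  -- step 9
  have hR2 : 1 + ∑ χ ∈ Ψ, f χ ^ 2 + Fintype.card S * c ^ 2 = 2 * e := by
    have h1 := hsplit (fun χ => f χ ^ 2)
    rw [R2, A2] at h1
    have h2 : ∑ ξ, f (fexc ξ) ^ 2 = Fintype.card S * c ^ 2 := by
      rw [Finset.sum_congr rfl (fun ξ _ => by rw [hfc ξ]), Finset.sum_const, Finset.card_univ,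
        smul_eq_mul]
    rw [h2] at h1
    rw [h1]
    norm_num
  -- step 10
  have hse : e * Fintype.card S = h - 1 := by
    rw [mul_comm]
    omega
  have hh10 : 10 ≤ h := by nlinarith
  have hdegΨ : ∀ χ ∈ Ψ, deg χ = (h - 1) + f χ := by
    intro χ hχ
    rw [R4 χ, Finset.sum_congr rfl (fun ζ _ => hbΨ χ hχ ζ), Finset.sum_const, Finset.card_univ,
      smul_eq_mul, mul_one, hse]
  have hW : (Ψ.filter (fun χ => f χ = 1)).card ≤ 1 := by
    rw [Finset.card_le_one]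
    intro x hx y hy
    by_contra hne
    rw [Finset.mem_filter] at hx hy
    have hpx := B1 x (hΨmem x hx.1).1 hx.2 (hbΨ x hx.1)
    have hpy := B1 y (hΨmem y hy.1).1 hy.2 (hbΨ y hy.1)
    have h1 : ∑ χ ∈ ({x, y} : Finset I), p χ * deg χ ≤ ∑ χ, p χ * deg χ :=
      Finset.sum_le_sum_of_subset (Finset.subset_univ _)
    rw [Finset.sum_pair hne, B2, hpx, hpy, hdegΨ x hx.1, hdegΨ y hy.1, hx.2, hy.2] at h1
    omega
  -- step 11
  have hterm : ∀ χ ∈ Ψ, 2 * f χ ≤ f χ ^ 2 + (if f χ = 1 then 1 else 0) := by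
    intro χ _
    by_cases h1 : f χ = 1
    · rw [if_pos h1, h1]
      norm_num
    · rw [if_neg h1]
      rcases Nat.lt_or_ge (f χ) 1 with h0 | h2
      · have : f χ = 0 := by omega
        rw [this]
        norm_num
      · have : 2 ≤ f χ := by omega
        nlinarith
  have hsum11 : 2 * ∑ χ ∈ Ψ, f χ ≤ ∑ χ ∈ Ψ, f χ ^ 2 + 1 := by
    have h1 : ∑ χ ∈ Ψ, 2 * f χ ≤ ∑ χ ∈ Ψ, (f χ ^ 2 + (if f χ = 1 then 1 else 0)) :=
      Finset.sum_le_sum hterm
    rw [← Finset.mul_sum, Finset.sum_add_distrib, ← Finset.card_filter] at h1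
    omega
  have hc0 : c = 0 := by
    have h1 := hf1 ζ₁
    rw [← hc] at h1
    by_contra hne
    have hc1 : 1 ≤ c := by omega
    have h3 : 3 * c ≤ Fintype.card S * c ^ 2 := by nlinarith
    linarith
  -- step 12
  have hFs : ∑ χ ∈ Ψ, f χ = e := by
    have h1 := hf1 ζ₁
    rw [← hc, hc0] at h1
    omega
  have hFq : 1 + ∑ χ ∈ Ψ, f χ ^ 2 = 2 * e := by
    rw [hc0] at hR2
    simpa using hR2
  have hf2 : ∀ χ ∈ Ψ, f χ ≤ 2 := by
    intro χ₀ hχ₀
    by_contra hlt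
    have h3 : 3 ≤ f χ₀ := by omega
    have hterm' : ∀ χ ∈ Ψ, 2 * f χ + (if χ = χ₀ then 3 else 0) ≤
        f χ ^ 2 + (if f χ = 1 then 1 else 0) := by
      intro χ hχ
      by_cases hχ0 : χ = χ₀
      · rw [if_pos hχ0, hχ0, if_neg (by omega)]
        nlinarith
      · rw [if_neg hχ0, add_zero]
        exact hterm χ hχ
    have h1 := Finset.sum_le_sum hterm'
    rw [Finset.sum_add_distrib, Finset.sum_add_distrib, ← Finset.mul_sum, ← Finset.card_filter,
      Finset.sum_ite_eq', if_pos hχ₀] at h1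
    omega
  -- step C
  obtain ⟨hn1, hfn, hnd⟩ := C1 (hdiag ζ₁) (fun ξ hξ => hoff ξ ζ₁ hξ.symm) (by rw [← hc]; exact hc0)
  have h13 : e ≤ 1 + 2 * ∑ χ ∈ Ψ, n χ := by
    have h1 := hsplit (fun χ => f χ * n χ)
    rw [hfn, A2, hn1] at h1
    have h2 : ∑ ξ, f (fexc ξ) * n (fexc ξ) = 0 :=
      Finset.sum_eq_zero (fun ξ _ => by rw [hfc ξ, hc0, zero_mul])
    have h3 : ∑ χ ∈ Ψ, f χ * n χ ≤ ∑ χ ∈ Ψ, 2 * n χ :=
      Finset.sum_le_sum (fun χ hχ => Nat.mul_le_mul_right _ (hf2 χ hχ))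
    rw [← Finset.mul_sum] at h3
    omega
  have h14 : 1 + (∑ χ ∈ Ψ, n χ) * (h - 1) ≤ e ^ 2 := by
    have h1 := hsplit (fun χ => n χ * deg χ)
    rw [hnd, hn1] at h1
    have hdeg1 : deg one = 1 := by
      rw [R4 one, Finset.sum_eq_zero (fun ζ _ => A1 ζ), A2]
      norm_num
    have h2 : ∑ χ ∈ Ψ, n χ * (h - 1) ≤ ∑ χ ∈ Ψ, n χ * deg χ :=
      Finset.sum_le_sum (fun χ hχ => Nat.mul_le_mul_left _ (by rw [hdegΨ χ hχ]; omega))
    rw [← Finset.sum_mul] at h2
    rw [hdeg1] at h1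
    omega
  -- final contradiction
  obtain ⟨Nn, hNn⟩ : ∃ Nn, Nn = ∑ χ ∈ Ψ, n χ := ⟨_, rfl⟩
  rw [← hNn] at h13 h14
  rw [← hse] at h14
  have h15 : 3 * e ≤ e * Fintype.card S := by nlinarith
  have h16 : Nn * (3 * e) ≤ Nn * (e * Fintype.card S) := Nat.mul_le_mul_left _ h15
  have h17 : e * e ≤ e * (1 + 2 * Nn) := Nat.mul_le_mul_left _ h13
  have h18 : 3 * e ≤ e * e := Nat.mul_le_mul_right e he3
  have h19 : e ^ 2 = e * e := sq e
  have h20 : Nn * (3 * e) = 3 * (e * Nn) := by ring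
  have h21 : e * (1 + 2 * Nn) = e + 2 * (e * Nn) := by ring
  rw [h19] at h14
  rw [h20] at h16
  rw [h21] at h17
  omega

end Arith

end Cfsg.Agent.H19
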