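import Mathlib
import Cfsg.Agent.H19.FeitAb4

/-!
# Feit's theorem on Zassenhaus groups, abelian kernel: character-theoretic inputs (helper19)
-/

set_option autoImplicit false
set_option linter.unusedSectionVars false
set_option linter.style.haveILetI false

namespace Cfsg.Agent.H19

open Cfsg Cfsg.Agent.H4 Cfsg.Agent.H5
open scoped ComplexConjugate

universe u

section Inputs

variable {G : Type u} [Group G] [Fintype G] (K : Subgroup G)

/-- Multiplicity of the trivial character in a character induced from the normalizer. -/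
theorem classInner_indFun_trivial [Fintype ↥(Subgroup.normalizer (K : Set G))]
    (ξ : IrrCharacter (Subgroup.normalizer (K : Set G))) :
    classInner (indFun (Subgroup.normalizer (K : Set G)) ξ.1) (fun _ => (1 : ℂ)) =
      if trivialIrr (Subgroup.normalizer (K : Set G)) = ξ then 1 else 0 := by
  have h1 := classInner_excInd_eq_ncoef K ξ (isCharacter_of_isIrrCharacter (trivialIrr G).2)
  have h2 := ncoef_irr (trivialIrr (Subgroup.normalizer (K : Set G))) ξ
  change classInner (indFun (Subgroup.normalizer (K : Set G)) ξ.1) (fun _ => (1 : ℂ)) =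
    (ncoef (trivialIrr (Subgroup.normalizer (K : Set G))).1 ξ : ℂ) at h1
  rw [h1, h2]
  push_cast
  rfl

theorem exists_ne_one_of_card (h : ℕ) (hK : Nat.card K = h) (hh2 : 2 ≤ h) :
    ∃ k ∈ K, k ≠ 1 := by
  by_contra hcon
  push Not at hcon
  have : K = ⊥ := (Subgroup.eq_bot_iff_forall K).mpr hcon
  rw [this, Subgroup.card_bot] at hK
  omega

variable (hTI : ∀ g : G, g ∉ Subgroup.normalizer (K : Set G) → ∀ k ∈ K, g * k * g⁻¹ ∈ K → k = 1)
  (hC : ∀ k ∈ K, k ≠ 1 → Subgroup.centralizer ({k} : Set G) ≤ K)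
  (hab : ∀ a ∈ K, ∀ b ∈ K, a * b = b * a)
  (h e : ℕ) (hK : Nat.card K = h)
  (hN : Nat.card (Subgroup.normalizer (K : Set G)) = h * e)
  (hG : Nat.card G = (h + 1) * (h * e)) (hh : 0 < h) (he : 0 < e)

include hTI hC hab hK hN hG hh he in
/-- The number of exceptional characters. -/
theorem feit_card_exc
    [Fintype {ξ : IrrCharacter (Subgroup.normalizer (K : Set G)) // InExc K ξ}] :
    Fintype.card {ξ : IrrCharacter (Subgroup.normalizer (K : Set G)) // InExc K ξ} * e + 1 = h := by
  classical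
  have hT : IsCharacter G (indFun K (fun _ => (1 : ℂ))) :=
    isCharacter_indFun K _ (isCharacter_of_isIrrCharacter (trivialIrr K).2)
  have h1 := degree_formula K hC hab h e hK hN hG hh he hT
  rw [kerInd_one K h e hK hN hG hh he, kerInd_norm K hTI h e hK hN hG hh he] at h1
  have h2 : ∀ ζ : {ξ : IrrCharacter (Subgroup.normalizer (K : Set G)) // InExc K ξ},
      classInner (indFun (Subgroup.normalizer (K : Set G)) ζ.1.1)
        (indFun K (fun _ => (1 : ℂ))) = e := by
    intro ζ
    rw [← classInner_conj_symm, kerInd_excInd K hTI hC hab h e hK hN hG hh he ζ.2,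
      Complex.conj_natCast]
  rw [Finset.sum_congr rfl (fun ζ _ => h2 ζ), Finset.sum_const, Finset.card_univ,
    nsmul_eq_mul] at h1
  have h3 : (h + 1) * e =
      e * (Fintype.card {ξ : IrrCharacter (Subgroup.normalizer (K : Set G)) // InExc K ξ} * e) +
        2 * e := by
    exact_mod_cast h1
  have h4 : e * (h + 1) = e *
      (Fintype.card {ξ : IrrCharacter (Subgroup.normalizer (K : Set G)) // InExc K ξ} * e + 2) := by
    linarith
  have h5 := Nat.eq_of_mul_eq_mul_left he h4
  omega

include hC hab hK hN hG hh he in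
/-- A non-exceptional-type constituent with `⟨1_K^G, χ⟩ = 1` of degree `h` is a constituent of the
permutation character. -/
theorem feit_perm_constituent [IsSimpleGroup G] (he2 : 2 ≤ e) (hh2 : 2 ≤ h)
    [Fintype {ξ : IrrCharacter (Subgroup.normalizer (K : Set G)) // InExc K ξ}]
    (hS : Fintype.card {ξ : IrrCharacter (Subgroup.normalizer (K : Set G)) // InExc K ξ} * e + 1
      = h)
    (χ : IrrCharacter G)
    (hf : classInner (indFun K (fun _ => (1 : ℂ))) χ.1 = 1)
    (hb : ∀ ζ : {ξ : IrrCharacter (Subgroup.normalizer (K : Set G)) // InExc K ξ},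
      classInner (indFun (Subgroup.normalizer (K : Set G)) ζ.1.1) χ.1 = 1) :
    classInner (indFun (Subgroup.normalizer (K : Set G)) (fun _ => (1 : ℂ))) χ.1 = 1 := by
  classical
  haveI : Fintype ↥(Subgroup.normalizer (K : Set G)) := Fintype.ofFinite _
  letI := fintypeIrr (Subgroup.normalizer (K : Set G))
  letI := fintypeIrr G
  have hχc := isCharacter_of_isIrrCharacter χ.2
  have hdegN : ∀ ξ : IrrCharacter (Subgroup.normalizer (K : Set G)),
      ∃ d : ℕ, 0 < d ∧ ξ.1 1 = d := fun ξ => irr_one_eq_natCast ξ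
  choose dN hdN0 hdN using hdegN
  have hdegG : ∀ ξ : IrrCharacter G, ∃ d : ℕ, 0 < d ∧ ξ.1 1 = d := fun ξ => irr_one_eq_natCast ξ
  choose dG hdG0 hdG using hdegG
  have hZ : ∀ ζ : {ξ : IrrCharacter (Subgroup.normalizer (K : Set G)) // InExc K ξ},
      IsCharacter G (indFun (Subgroup.normalizer (K : Set G)) ζ.1.1) :=
    fun ζ => isCharacter_indFun _ _ (isCharacter_of_isIrrCharacter ζ.1.2)
  have hT : IsCharacter G (indFun K (fun _ => (1 : ℂ))) :=
    isCharacter_indFun K _ (isCharacter_of_isIrrCharacter (trivialIrr K).2)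
  obtain ⟨m, hm⟩ : ∃ m : IrrCharacter (Subgroup.normalizer (K : Set G)) → ℕ,
      m = fun ξ => ncoef (fun n : Subgroup.normalizer (K : Set G) => χ.1 n) ξ := ⟨_, rfl⟩
  -- (i)
  have h1 := classInner_kerInd_eq K hC hχc
  rw [hf] at h1
  have h2 : ∑ ξ : IrrCharacter (Subgroup.normalizer (K : Set G)),
      (if InExc K ξ then 0 else m ξ * dN ξ) = 1 := by
    have : ((∑ ξ : IrrCharacter (Subgroup.normalizer (K : Set G)),
        (if InExc K ξ then 0 else m ξ * dN ξ) : ℕ) : ℂ) = 1 := by
      rw [h1]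
      push_cast
      refine Finset.sum_congr rfl fun ξ _ => ?_
      by_cases hξ : InExc K ξ
      · simp [hξ]
      · simp [hξ, hdN ξ, hm]
    exact_mod_cast this
  -- (ii)
  obtain ⟨ξ₀, hξ₀, hmξ₀, hdξ₀⟩ : ∃ ξ₀ : IrrCharacter (Subgroup.normalizer (K : Set G)),
      ¬ InExc K ξ₀ ∧ m ξ₀ = 1 ∧ dN ξ₀ = 1 := by
    obtain ⟨ξ₀, -, hne⟩ := Finset.exists_ne_zero_of_sum_ne_zero
      (show ∑ ξ : IrrCharacter (Subgroup.normalizer (K : Set G)),
        (if InExc K ξ then 0 else m ξ * dN ξ) ≠ 0 by rw [h2]; exact one_ne_zero)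
    have hle : (if InExc K ξ₀ then 0 else m ξ₀ * dN ξ₀) ≤ 1 := by
      have := Finset.single_le_sum
        (f := fun ξ : IrrCharacter (Subgroup.normalizer (K : Set G)) =>
          if InExc K ξ then 0 else m ξ * dN ξ) (fun _ _ => Nat.zero_le _) (Finset.mem_univ ξ₀)
      rwa [h2] at this
    by_cases hξ : InExc K ξ₀
    · rw [if_pos hξ] at hne
      exact absurd rfl hne
    · rw [if_neg hξ] at hne hle
      have h3 : m ξ₀ * dN ξ₀ = 1 := by omega
      exact ⟨ξ₀, hξ, Nat.eq_one_of_mul_eq_one_right h3, Nat.eq_one_of_mul_eq_one_left h3⟩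
  -- (iii)
  have hP : IsCharacter G (indFun (Subgroup.normalizer (K : Set G)) ξ₀.1) :=
    isCharacter_indFun _ _ (isCharacter_of_isIrrCharacter ξ₀.2)
  have hPχ : ncoef (indFun (Subgroup.normalizer (K : Set G)) ξ₀.1) χ = 1 := by
    have h3 := ncoef_cast hP χ
    rw [classInner_excInd_eq_ncoef K ξ₀ hχc] at h3
    have h4 : ncoef (indFun (Subgroup.normalizer (K : Set G)) ξ₀.1) χ = m ξ₀ := by
      rw [hm]
      exact_mod_cast h3
    rw [h4, hmξ₀]
  -- (iv), (v)
  have hP1 : ∑ χ' : IrrCharacter G,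
      ncoef (indFun (Subgroup.normalizer (K : Set G)) ξ₀.1) χ' * dG χ' = h + 1 := by
    have h3 := character_eq_sum_ncoef hP 1
    rw [indFun_one_eq, (feit_index K h e hK hN hG hh he).2.1, hdN ξ₀, hdξ₀] at h3
    simp only [hdG] at h3
    have : ((∑ χ' : IrrCharacter G,
        ncoef (indFun (Subgroup.normalizer (K : Set G)) ξ₀.1) χ' * dG χ' : ℕ) : ℂ) =
        ((h + 1 : ℕ) : ℂ) := by
      push_cast
      rw [← h3]
      push_cast
      ring
    exact_mod_cast this
  -- (vi)
  have hdχ : dG χ = h := by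
    have h3 := degree_formula K hC hab h e hK hN hG hh he hχc
    rw [Finset.sum_congr rfl (fun ζ _ => hb ζ), Finset.sum_const, Finset.card_univ, nsmul_eq_mul,
      mul_one, hf, hdG χ] at h3
    have h4 : dG χ = e * Fintype.card
        {ξ : IrrCharacter (Subgroup.normalizer (K : Set G)) // InExc K ξ} + 1 := by
      exact_mod_cast h3
    rw [h4, mul_comm]
    exact hS
  -- (vii)
  have h4 : ∑ χ' ∈ Finset.univ.erase χ,
      ncoef (indFun (Subgroup.normalizer (K : Set G)) ξ₀.1) χ' * dG χ' = 1 := by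
    have h5 := Finset.add_sum_erase Finset.univ
      (fun χ' => ncoef (indFun (Subgroup.normalizer (K : Set G)) ξ₀.1) χ' * dG χ')
      (Finset.mem_univ χ)
    rw [hP1] at h5
    simp only [hPχ, hdχ] at h5
    omega
  obtain ⟨χ'', hχ''mem, hne⟩ := Finset.exists_ne_zero_of_sum_ne_zero
    (show ∑ χ' ∈ Finset.univ.erase χ,
      ncoef (indFun (Subgroup.normalizer (K : Set G)) ξ₀.1) χ' * dG χ' ≠ 0 by
        rw [h4]; exact one_ne_zero)
  have hle : ncoef (indFun (Subgroup.normalizer (K : Set G)) ξ₀.1) χ'' * dG χ'' ≤ 1 := by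
    have := Finset.single_le_sum
      (f := fun χ' => ncoef (indFun (Subgroup.normalizer (K : Set G)) ξ₀.1) χ' * dG χ')
      (fun _ _ => Nat.zero_le _) hχ''mem
    rwa [h4] at this
  have h5 : ncoef (indFun (Subgroup.normalizer (K : Set G)) ξ₀.1) χ'' * dG χ'' = 1 := by omega
  have hP''1 := Nat.eq_one_of_mul_eq_one_right h5
  have hP''2 := Nat.eq_one_of_mul_eq_one_left h5
  -- (viii)
  have hχ''1 : χ'' = trivialIrr G := by
    have h3 := degree_formula K hC hab h e hK hN hG hh he (isCharacter_of_isIrrCharacter χ''.2)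
    rw [Finset.sum_congr rfl (fun ζ _ => (ncoef_cast (hZ ζ) χ'').symm), ← ncoef_cast hT χ'',
      hdG χ'', hP''2] at h3
    have h6 : 1 = e * ∑ ζ : {ξ : IrrCharacter (Subgroup.normalizer (K : Set G)) // InExc K ξ},
        ncoef (indFun (Subgroup.normalizer (K : Set G)) ζ.1.1) χ'' +
        ncoef (indFun K (fun _ => (1 : ℂ))) χ'' := by
      exact_mod_cast h3
    have h7 : ∑ ζ : {ξ : IrrCharacter (Subgroup.normalizer (K : Set G)) // InExc K ξ},
        ncoef (indFun (Subgroup.normalizer (K : Set G)) ζ.1.1) χ'' = 0 := by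
      by_contra hc
      have : 1 ≤ ∑ ζ : {ξ : IrrCharacter (Subgroup.normalizer (K : Set G)) // InExc K ξ},
        ncoef (indFun (Subgroup.normalizer (K : Set G)) ζ.1.1) χ'' := Nat.one_le_iff_ne_zero.mpr hc
      nlinarith
    rw [Finset.sum_eq_zero_iff] at h7
    obtain ⟨k, hk, hk1⟩ := exists_ne_one_of_card K h hK hh2
    have hconst := const_on_ker_of_orth K (isCharacter_of_isIrrCharacter χ''.2) (fun ξ hξ => by
      rw [← ncoef_cast (hZ ⟨ξ, hξ⟩) χ'', h7 ⟨ξ, hξ⟩ (Finset.mem_univ _), Nat.cast_zero]) k hk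
    exact Subtype.ext (irr_eq_one_of_const χ''.2 k hk1 hconst)
  -- (ix)
  have h7 : trivialIrr (Subgroup.normalizer (K : Set G)) = ξ₀ := by
    have h8 := ncoef_cast hP χ''
    rw [hP''1, hχ''1] at h8
    have h9 := classInner_indFun_trivial K ξ₀
    change classInner (indFun (Subgroup.normalizer (K : Set G)) ξ₀.1) (trivialIrr G).1 = _ at h9
    rw [← h8] at h9
    by_contra hc
    rw [if_neg hc] at h9
    norm_num at h9
  -- (x)
  have h12 := ncoef_cast hP χ
  rw [hPχ, ← h7] at h12
  change classInner (indFun (Subgroup.normalizer (K : Set G))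
    (trivialIrr (Subgroup.normalizer (K : Set G))).1) χ.1 = 1
  rw [← h12]
  norm_num

include hC hab hK hN hG hh he in
/-- The character `χ₁ * conj χ₁` for an irreducible `χ₁` restricting to an exceptional `ζ₁`. -/
theorem feit_product {ζ₁ : IrrCharacter (Subgroup.normalizer (K : Set G))} (hζ₁ : InExc K ζ₁)
    (χ₁ : IrrCharacter G)
    (hres : ∀ n : Subgroup.normalizer (K : Set G), χ₁.1 n = ζ₁.1 n) :
    IsCharacter G (χ₁.1 * fun g => conj (χ₁.1 g)) ∧
    classInner (χ₁.1 * fun g => conj (χ₁.1 g)) (fun _ => (1 : ℂ)) = 1 ∧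
    classInner (indFun K (fun _ => (1 : ℂ))) (χ₁.1 * fun g => conj (χ₁.1 g)) = e ∧
    (χ₁.1 * fun g => conj (χ₁.1 g)) 1 = (e : ℂ) * e := by
  classical
  haveI : Fintype ↥(Subgroup.normalizer (K : Set G)) := Fintype.ofFinite _
  haveI : Fintype K := Fintype.ofFinite _
  have hχc := isCharacter_of_isIrrCharacter χ₁.2
  have hPi : IsCharacter G (χ₁.1 * fun g => conj (χ₁.1 g)) :=
    isCharacter_mul hχc (isCharacter_conj hχc)
  refine ⟨hPi, ?_, ?_, ?_⟩
  · have := irr_inner_self χ₁
    unfold classInner at this ⊢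
    simp only [Pi.mul_apply, map_one, mul_one]
    exact this
  · rw [frobenius_reciprocity K _ _ (isClassFunction_of_isCharacter hPi)]
    unfold classInner
    have key : ∀ k : K, (1 : ℂ) * conj ((χ₁.1 * fun g => conj (χ₁.1 g)) (k : G)) =
        ζ₁.1 ⟨(k : G), Subgroup.le_normalizer k.2⟩ *
          conj (ζ₁.1 ⟨(k : G), Subgroup.le_normalizer k.2⟩) := by
      intro k
      have h1 := hres ⟨(k : G), Subgroup.le_normalizer k.2⟩
      change χ₁.1 (k : G) = _ at h1
      simp only [Pi.mul_apply, one_mul, map_mul, Complex.conj_conj]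
      rw [← h1]
      ring
    simp only [key]
    rw [← sum_normalizer_eq_sum_ker K (fun n => ζ₁.1 n * conj (ζ₁.1 n))
      (fun n hn => by rw [exc_vanish K hC hζ₁ n hn, zero_mul])]
    have hself := irr_inner_self ζ₁
    unfold classInner at hself
    have hNne : (Nat.card (Subgroup.normalizer (K : Set G)) : ℂ) ≠ 0 :=
      (neZero_card_complex _).out
    have hsum : ∑ n : Subgroup.normalizer (K : Set G), ζ₁.1 n * conj (ζ₁.1 n) =
        (Nat.card (Subgroup.normalizer (K : Set G)) : ℂ) := by
      field_simp at hself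
      exact hself
    rw [hsum, hK, hN]
    have h1 : (h : ℂ) ≠ 0 := by exact_mod_cast hh.ne'
    push_cast
    field_simp
  · simp only [Pi.mul_apply]
    have h1 := hres 1
    change χ₁.1 (1 : G) = ζ₁.1 1 at h1
    rw [h1, exc_one_eq' K hC hab h e hK hN hG hh he hζ₁]
    simp

include hTI hC hab hK hN hG hh in
/-- **Feit's theorem for abelian kernels**, abstract T.I. form: `G` simple, `K` an abelian T.I.
subgroup of order `h` containing the centralizers of its non-identity elements, with normalizer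
of order `h e` and `|G| = (h + 1) h e`, `e ≥ 3`, and at least `e` classes of `G` missing `K`.
Then `h - 1 ≤ 2 e`. -/
theorem feit_abelian_core [IsSimpleGroup G] (hlt : K < Subgroup.normalizer (K : Set G))
    (he3 : 3 ≤ e)
    (hcl : e ≤ Nat.card {C : ConjClasses G // ∀ g : G, ConjClasses.mk g = C → g ∉ K}) :
    h - 1 ≤ 2 * e := by
  classical
  by_contra hcon
  push Not at hcon
  have he : 0 < e := by omega
  haveI : Fintype ↥(Subgroup.normalizer (K : Set G)) := Fintype.ofFinite _
  letI := fintypeIrr (Subgroup.normalizer (K : Set G))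
  letI := fintypeIrr G
  have hS := feit_card_exc K hTI hC hab h e hK hN hG hh he
  have hs3 : 3 ≤ Fintype.card
      {ξ : IrrCharacter (Subgroup.normalizer (K : Set G)) // InExc K ξ} := by
    by_contra hlt3
    have h1 : Fintype.card
      {ξ : IrrCharacter (Subgroup.normalizer (K : Set G)) // InExc K ξ} ≤ 2 := by omega
    have h2 := Nat.mul_le_mul_right e h1
    omega
  have hh2 : 2 ≤ h := by omega
  have hT : IsCharacter G (indFun K (fun _ => (1 : ℂ))) :=
    isCharacter_indFun K _ (isCharacter_of_isIrrCharacter (trivialIrr K).2)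
  have hZ : ∀ ζ : {ξ : IrrCharacter (Subgroup.normalizer (K : Set G)) // InExc K ξ},
      IsCharacter G (indFun (Subgroup.normalizer (K : Set G)) ζ.1.1) :=
    fun ζ => isCharacter_indFun _ _ (isCharacter_of_isIrrCharacter ζ.1.2)
  have hπ : IsCharacter G (indFun (Subgroup.normalizer (K : Set G)) (fun _ => (1 : ℂ))) :=
    isCharacter_indFun _ _
      (isCharacter_of_isIrrCharacter (trivialIrr (Subgroup.normalizer (K : Set G))).2)
  have hdegG : ∀ ξ : IrrCharacter G, ∃ d : ℕ, 0 < d ∧ ξ.1 1 = d := fun ξ => irr_one_eq_natCast ξ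
  choose dG hdG0 hdG using hdegG
  have hF2 : Fintype.card {ξ : IrrCharacter (Subgroup.normalizer (K : Set G)) // InExc K ξ} +
      e + 1 ≤ Fintype.card (IrrCharacter G) := by
    have h1 := card_ker_classes K hTI hab h e hK hN hG hh he
    have h2 := card_classes_split K
    have h3 : Nat.card (IrrCharacter G) = Nat.card (ConjClasses G) := card_irr_eq_card_conjClasses
    rw [Nat.card_eq_fintype_card] at h3
    have h4 : Fintype.card {ξ : IrrCharacter (Subgroup.normalizer (K : Set G)) // InExc K ξ} ≤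
        Nat.card {C : ConjClasses G // ∃ k ∈ K, k ≠ 1 ∧ ConjClasses.mk k = C} := by
      have h5 : Fintype.card {ξ : IrrCharacter (Subgroup.normalizer (K : Set G)) // InExc K ξ} * e
          ≤ Nat.card {C : ConjClasses G // ∃ k ∈ K, k ≠ 1 ∧ ConjClasses.mk k = C} * e := by
        rw [mul_comm (Nat.card {C : ConjClasses G // ∃ k ∈ K, k ≠ 1 ∧ ConjClasses.mk k = C})]
        omega
      exact Nat.le_of_mul_le_mul_right h5 he
    omega
  rcases Cfsg.Agent.S0851.result K hTI hlt hC hab with ⟨h1, -⟩ | ⟨ε, fexc, hε, hinj, hcoh⟩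
  · have h2 : Fintype.card
        {ξ : IrrCharacter (Subgroup.normalizer (K : Set G)) // InExc K ξ} = 1 := by
      rw [← Nat.card_eq_fintype_card]
      exact h1
    rw [h2] at hS
    omega
  · obtain ⟨ζ₁⟩ : Nonempty {ξ : IrrCharacter (Subgroup.normalizer (K : Set G)) // InExc K ξ} :=
      Fintype.card_pos_iff.mp (by omega)
    refine feit_arith e h
      (fun ζ χ => ncoef (indFun (Subgroup.normalizer (K : Set G)) ζ.1.1) χ)
      (fun χ => ncoef (indFun K (fun _ => (1 : ℂ))) χ)
      (fun χ => ncoef (indFun (Subgroup.normalizer (K : Set G)) (fun _ => (1 : ℂ))) χ)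
      (fun χ => ncoef ((fexc ζ₁).1 * fun g => conj ((fexc ζ₁).1 g)) χ) dG (trivialIrr G) fexc hinj
      (if ε = 1 then 1 else -1) ?_ ζ₁ hS hs3 he3 hF2 ?_ ?_ ?_ ?_ ?_ ?_ ?_ ?_ ?_ ?_ ?_
    · split_ifs <;> simp
    · -- R1
      intro ζ
      have h1 := classInner_eq_sum_ncoef (hZ ζ) (hZ ζ)
      rw [excInd_norm K hTI hC hab h e hK hN hG hh he ζ.2] at h1
      have h2 : (∑ χ : IrrCharacter G,
          ncoef (indFun (Subgroup.normalizer (K : Set G)) ζ.1.1) χ *
            ncoef (indFun (Subgroup.normalizer (K : Set G)) ζ.1.1) χ) = e + 1 := by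
        exact_mod_cast h1.symm
      rw [← h2]
      exact Finset.sum_congr rfl (fun χ _ => sq _)
    · -- R2
      have h1 := classInner_eq_sum_ncoef hT hT
      rw [kerInd_norm K hTI h e hK hN hG hh he] at h1
      have h2 : (∑ χ : IrrCharacter G,
          ncoef (indFun K (fun _ => (1 : ℂ))) χ * ncoef (indFun K (fun _ => (1 : ℂ))) χ) =
          2 * e := by
        exact_mod_cast h1.symm
      rw [← h2]
      exact Finset.sum_congr rfl (fun χ _ => sq _)
    · -- R3
      intro ζ
      have h1 := classInner_eq_sum_ncoef hT (hZ ζ)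
      rw [kerInd_excInd K hTI hC hab h e hK hN hG hh he ζ.2] at h1
      exact_mod_cast h1.symm
    · -- R4
      intro χ
      have h3 := degree_formula K hC hab h e hK hN hG hh he (isCharacter_of_isIrrCharacter χ.2)
      rw [Finset.sum_congr rfl (fun ζ _ => (ncoef_cast (hZ ζ) χ).symm), ← ncoef_cast hT χ,
        hdG χ] at h3
      exact_mod_cast h3
    · -- R5
      intro ζ ξ χ
      have h1 := hcoh ζ ξ
      rw [indFun_sub] at h1
      have h2 := congrArg (fun F => classInner F χ.1) h1
      rw [classInner_sub_left, classInner_smul_left, classInner_sub_left, irr_inner, irr_inner,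
        ← ncoef_cast (hZ ζ) χ, ← ncoef_cast (hZ ξ) χ] at h2
      have e1 : (if fexc ζ = χ then (1 : ℂ) else 0) = ((if χ = fexc ζ then 1 else 0 : ℤ) : ℂ) := by
        by_cases hc : χ = fexc ζ
        · rw [if_pos hc, if_pos hc.symm]
          norm_num
        · rw [if_neg hc, if_neg (fun h => hc h.symm)]
          norm_num
      have e2 : (if fexc ξ = χ then (1 : ℂ) else 0) = ((if χ = fexc ξ then 1 else 0 : ℤ) : ℂ) := by
        by_cases hc : χ = fexc ξ
        · rw [if_pos hc, if_pos hc.symm]
          norm_num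
        · rw [if_neg hc, if_neg (fun h => hc h.symm)]
          norm_num
      have e3 : ε = ((if ε = 1 then 1 else -1 : ℤ) : ℂ) := by
        rcases hε with h | h
        · rw [if_pos h, h]
          norm_num
        · have : ¬ (ε = 1) := by
            rw [h]
            norm_num
          rw [if_neg this, h]
          norm_num
      rw [e1, e2, e3] at h2
      exact_mod_cast h2
    · -- A
      intro χ h0
      obtain ⟨k, hk, hk1⟩ := exists_ne_one_of_card K h hK hh2
      have hconst := const_on_ker_of_orth K (isCharacter_of_isIrrCharacter χ.2) (fun ξ hξ => by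
        rw [← ncoef_cast (hZ ⟨ξ, hξ⟩) χ, h0 ⟨ξ, hξ⟩, Nat.cast_zero]) k hk
      exact Subtype.ext (irr_eq_one_of_const χ.2 k hk1 hconst)
    · -- A1
      intro ζ
      have h1 := ncoef_cast (hZ ζ) (trivialIrr G)
      have h2 := classInner_indFun_trivial K ζ.1
      change classInner (indFun (Subgroup.normalizer (K : Set G)) ζ.1.1) (trivialIrr G).1 = _ at h2
      rw [h2, if_neg (by
        intro hc
        obtain ⟨k, -, hk⟩ := ζ.2
        rw [← hc] at hk
        exact hk rfl)] at h1
      exact_mod_cast h1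
    · -- A2
      have h1 := ncoef_cast hT (trivialIrr G)
      have h2 : classInner (indFun K (fun _ => (1 : ℂ))) (trivialIrr G).1 = 1 := by
        haveI : Fintype K := Fintype.ofFinite _
        rw [frobenius_reciprocity K _ _ (irr_isClassFunction _)]
        exact irr_inner_self (trivialIrr K)
      rw [h2] at h1
      exact_mod_cast h1
    · -- B1
      intro χ _ hf hb
      have h1 := feit_perm_constituent K hC hab h e hK hN hG hh he (by omega) hh2 hS χ
        (by rw [← ncoef_cast hT χ, hf, Nat.cast_one])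
        (fun ζ => by rw [← ncoef_cast (hZ ζ) χ, hb ζ, Nat.cast_one])
      have h2 := ncoef_cast hπ χ
      rw [h1] at h2
      exact_mod_cast h2
    · -- B2
      have h3 := character_eq_sum_ncoef hπ 1
      rw [indFun_one_eq, (feit_index K h e hK hN hG hh he).2.1, mul_one] at h3
      simp only [hdG] at h3
      have h4 : ((∑ χ : IrrCharacter G,
          ncoef (indFun (Subgroup.normalizer (K : Set G)) (fun _ => (1 : ℂ))) χ * dG χ : ℕ) : ℂ) =
          ((h + 1 : ℕ) : ℂ) := by
        push_cast
        rw [← h3]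
        push_cast
        rfl
      exact_mod_cast h4
    · -- C1
      intro hb1 hb0 hf0
      have hres := restrict_eq_of_coef K hC (isCharacter_of_isIrrCharacter (fexc ζ₁).2) ζ₁.1
        (by rw [← ncoef_cast (hZ ζ₁) _, hb1, Nat.cast_one])
        (fun ξ hξ hne => by
          rw [← ncoef_cast (hZ ⟨ξ, hξ⟩) _,
            hb0 ⟨ξ, hξ⟩ (fun hc => hne (congrArg Subtype.val hc)), Nat.cast_zero])
        (by rw [← ncoef_cast hT _, hf0, Nat.cast_zero])
      obtain ⟨hPi, hPi1, hPiT, hPid⟩ :=
        feit_product K hC hab h e hK hN hG hh he ζ₁.2 (fexc ζ₁) hres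
      refine ⟨?_, ?_, ?_⟩
      · have h1 := ncoef_cast hPi (trivialIrr G)
        change _ = classInner ((fexc ζ₁).1 * fun g => conj ((fexc ζ₁).1 g)) (fun _ => (1 : ℂ)) at h1
        rw [hPi1] at h1
        exact_mod_cast h1
      · have h1 := classInner_eq_sum_ncoef hT hPi
        rw [hPiT] at h1
        exact_mod_cast h1.symm
      · have h3 := character_eq_sum_ncoef hPi 1
        rw [hPid] at h3
        simp only [hdG] at h3
        have h4 : ((∑ χ : IrrCharacter G,
            ncoef ((fexc ζ₁).1 * fun g => conj ((fexc ζ₁).1 g)) χ * dG χ : ℕ) : ℂ) =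
            ((e ^ 2 : ℕ) : ℂ) := by
          push_cast
          rw [← h3]
          ring
        exact_mod_cast h4

end Inputs

end Cfsg.Agent.H19
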