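import Mathlib

/-!
# helper19: involutions (dihedral arguments) and nilpotent groups

* `invol_conj_of_odd` : two involutions whose product has odd order are conjugate
* `invol_central_of_even` : if the product of two involutions has even order `2k`, the power
  `(x y)^k` is an involution commuting with both
* `mem_sylow_of_nilpotent`, `exists_invol_commute_of_nilpotent`,
  `central_of_nilpotent_of_commute_sylow`
-/

set_option autoImplicit false
set_option linter.style.haveILetI false

namespace Cfsg.Agent.H19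

variable {K : Type*} [Group K]

theorem invol_conj_pow {x w : K} (hx : x * x = 1) (hw : x * w * x⁻¹ = w⁻¹) (k : ℕ) :
    x * w ^ k = (w ^ k)⁻¹ * x := by
  have hxinv : x⁻¹ = x := inv_eq_of_mul_eq_one_left hx
  have h1 : x * w ^ k * x⁻¹ = (w ^ k)⁻¹ := by rw [← conj_pow, hw, inv_pow]
  rw [← h1, hxinv, mul_assoc, hx, mul_one]

/-- Two involutions whose product has odd order are conjugate (by a power of the product). -/
theorem invol_conj_of_odd {x y : K} (hx : x * x = 1) (hy : y * y = 1) {k : ℕ}
    (hk : (x * y) ^ (2 * k + 1) = 1) : (x * y) ^ k * x * ((x * y) ^ k)⁻¹ = y := by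
  have hxinv : x⁻¹ = x := inv_eq_of_mul_eq_one_left hx
  have hyinv : y⁻¹ = y := inv_eq_of_mul_eq_one_left hy
  have winv : (x * y)⁻¹ = y * x := by rw [mul_inv_rev, hxinv, hyinv]
  have hconj : x * (x * y) * x⁻¹ = (x * y)⁻¹ := by
    rw [winv, hxinv, ← mul_assoc, hx, one_mul]
  have h1 := invol_conj_pow hx hconj k
  have h2 : (x * y) ^ (2 * k) = (x * y)⁻¹ := by
    apply eq_inv_of_mul_eq_one_left
    rw [← pow_succ]; exact hk
  have h3 : x * ((x * y) ^ k)⁻¹ = (x * y) ^ k * x := by
    have := congrArg (fun z => (x * y) ^ k * z * ((x * y) ^ k)⁻¹) h1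
    simp only [mul_assoc, mul_inv_cancel, mul_one] at this
    rw [← mul_assoc, ← mul_assoc, mul_inv_cancel, one_mul] at this
    exact this.symm
  rw [mul_assoc, h3, ← mul_assoc, ← pow_add, ← two_mul, h2, winv, mul_assoc, hx, mul_one]

/-- If the product of two involutions has even order `2k`, then `(x y)^k` is an involution
commuting with both. -/
theorem invol_central_of_even {x y : K} (hx : x * x = 1) (hy : y * y = 1) {k : ℕ}
    (hk : orderOf (x * y) = 2 * k) (hk0 : 0 < k) :
    orderOf ((x * y) ^ k) = 2 ∧ (x * y) ^ k * x = x * (x * y) ^ k ∧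
      (x * y) ^ k * y = y * (x * y) ^ k := by
  have hxinv : x⁻¹ = x := inv_eq_of_mul_eq_one_left hx
  have hyinv : y⁻¹ = y := inv_eq_of_mul_eq_one_left hy
  have winv : (x * y)⁻¹ = y * x := by rw [mul_inv_rev, hxinv, hyinv]
  have hconjx : x * (x * y) * x⁻¹ = (x * y)⁻¹ := by
    rw [winv, hxinv, ← mul_assoc, hx, one_mul]
  have hconjy : y * (x * y) * y⁻¹ = (x * y)⁻¹ := by
    rw [winv, hyinv, mul_assoc, mul_assoc, hy, mul_one]
  have ht2 : (x * y) ^ k * (x * y) ^ k = 1 := by
    rw [← pow_add, ← two_mul, ← hk, pow_orderOf_eq_one]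
  have htinv : ((x * y) ^ k)⁻¹ = (x * y) ^ k := inv_eq_of_mul_eq_one_left ht2
  have ht1 : (x * y) ^ k ≠ 1 := by
    apply pow_ne_one_of_lt_orderOf hk0.ne'
    omega
  refine ⟨?_, ?_, ?_⟩
  · haveI : Fact (Nat.Prime 2) := ⟨Nat.prime_two⟩
    exact orderOf_eq_prime (by rw [pow_two]; exact ht2) ht1
  · have := invol_conj_pow hx hconjx k
    rw [htinv] at this
    exact this.symm
  · have := invol_conj_pow hy hconjy k
    rw [htinv] at this
    exact this.symm

section Nilpotent

variable [Finite K] [Group.IsNilpotent K]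

theorem mem_sylow_of_nilpotent {p : ℕ} [Fact p.Prime] (S : Sylow p K) {y : K} {k : ℕ}
    (hy : orderOf y = p ^ k) : y ∈ S := by
  have hpg : IsPGroup p (Subgroup.zpowers y) := IsPGroup.of_card (n := k) (by rw [Nat.card_zpowers, hy])
  obtain ⟨Q, hQ⟩ := hpg.exists_le_sylow
  haveI := Sylow.unique_of_normal S inferInstance
  have : Q = S := Subsingleton.elim _ _
  rw [← this]
  exact hQ (Subgroup.mem_zpowers y)

/-- A `p`-element of a finite nilpotent group commuting with all elements of the Sylow
`p`-subgroup is central. -/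
theorem central_of_nilpotent_of_commute_sylow {p : ℕ} [Fact p.Prime] (S : Sylow p K) (z : K)
    (hz : z ∈ S) (hcomm : ∀ y ∈ S, z * y = y * z) (y : K) : z * y = y * z := by
  classical
  have hle : ∀ (q : ℕ) [Fact q.Prime] (Q : Sylow q K),
      (Q : Subgroup K) ≤ Subgroup.centralizer {z} := by
    intro q _ Q y hy
    rw [Subgroup.mem_centralizer_iff]
    intro w hw
    rw [Set.mem_singleton_iff] at hw
    rw [hw]
    by_cases hqp : q = p
    · subst hqp
      haveI := Sylow.unique_of_normal S inferInstance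
      have : Q = S := Subsingleton.elim _ _
      rw [this] at hy
      exact hcomm y hy
    · have hdis : Disjoint (S : Subgroup K) (Q : Subgroup K) :=
        IsPGroup.disjoint_of_ne p q (Ne.symm hqp) _ _ S.isPGroup' Q.isPGroup'
      exact (Subgroup.commute_of_normal_of_disjoint _ _ inferInstance inferInstance hdis z y
        hz hy).eq
  have hdvd : Nat.card K ∣ Nat.card (Subgroup.centralizer ({z} : Set K)) := by
    rw [← Nat.factorization_prime_le_iff_dvd Nat.card_pos.ne' Nat.card_pos.ne']
    intro q hq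
    haveI : Fact q.Prime := ⟨hq⟩
    obtain ⟨Q⟩ : Nonempty (Sylow q K) := inferInstance
    have h1 := Subgroup.card_dvd_of_le (hle q Q)
    rw [Sylow.card_eq_multiplicity] at h1
    exact (hq.pow_dvd_iff_le_factorization Nat.card_pos.ne').mp h1
  have htop : Subgroup.centralizer ({z} : Set K) = ⊤ := by
    apply Subgroup.eq_top_of_le_card
    exact Nat.le_of_dvd Nat.card_pos hdvd
  have hy : y ∈ Subgroup.centralizer ({z} : Set K) := htop ▸ Subgroup.mem_top y
  rw [Subgroup.mem_centralizer_iff] at hy
  exact hy z rfl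

/-- In a finite nilpotent group of even order there is an involution commuting with every
element of the Sylow 2-subgroup. -/
theorem exists_invol_commute_of_nilpotent (h2 : 2 ∣ Nat.card K) (S : Sylow 2 K) :
    ∃ z : K, orderOf z = 2 ∧ z ∈ S ∧ ∀ y ∈ S, z * y = y * z := by
  classical
  haveI : Fact (Nat.Prime 2) := ⟨Nat.prime_two⟩
  have hScard : Nat.card S = 2 ^ (Nat.card K).factorization 2 := Sylow.card_eq_multiplicity S
  have hpos : 0 < (Nat.card K).factorization 2 :=
    Nat.Prime.factorization_pos_of_dvd Nat.prime_two Nat.card_pos.ne' h2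
  haveI : Nontrivial S := by
    rw [← Finite.one_lt_card_iff_nontrivial, hScard]
    exact Nat.one_lt_two_pow hpos.ne'
  haveI : Nontrivial (Subgroup.center S) := IsPGroup.center_nontrivial S.isPGroup'
  have hcp : IsPGroup 2 (Subgroup.center S) := S.isPGroup'.to_subgroup _
  obtain ⟨m, hm⟩ := IsPGroup.iff_card.mp hcp
  have hm0 : m ≠ 0 := by
    rintro rfl
    have : 1 < Nat.card (Subgroup.center S) := Finite.one_lt_card
    omega
  have h2c : 2 ∣ Nat.card (Subgroup.center S) := by
    rw [hm]; exact dvd_pow_self 2 hm0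
  obtain ⟨z, hz⟩ := exists_prime_orderOf_dvd_card' 2 h2c
  refine ⟨((z : S) : K), ?_, (z : S).2, ?_⟩
  · rw [Subgroup.orderOf_coe, Subgroup.orderOf_coe]; exact hz
  · intro y hy
    have := Subgroup.mem_center_iff.mp z.2 ⟨y, hy⟩
    have h3 := congrArg (Subtype.val : S → K) this
    simp only [Subgroup.coe_mul] at h3
    exact h3.symm

end Nilpotent

end Cfsg.Agent.H19
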