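import Cfsg.Agent.H26.SE2

set_option autoImplicit false

universe u

namespace Cfsg.Agent.H19.Jz

variable {G : Type*} [Group G] [Finite G]

/-- A strongly embedded subgroup has an involution of the group outside it. -/
theorem se_exists_inv_not_mem {H : Subgroup G} (hH : Cfsg.IsStronglyEmbedded H) :
    ∃ u : G, orderOf u = 2 ∧ u ∉ H := by
  obtain ⟨t, ht, htH⟩ := Cfsg.Agent.H26.se_exists_inv hH
  have hne : ∃ g : G, g ∉ H := by
    by_contra hcon
    exact hH.1 (eq_top_iff.mpr fun x _ => by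
      by_contra hx
      exact hcon ⟨x, hx⟩)
  obtain ⟨g, hg⟩ := hne
  refine ⟨g * t * g⁻¹, ?_, ?_⟩
  · rw [Cfsg.Agent.H26.orderOf_conj_eq]; exact ht
  · intro hmem
    -- then `g * t * g⁻¹ ∈ H ∩ gHg⁻¹`, forcing `g ∈ H`
    have h2 : orderOf (g * t * g⁻¹) = 2 := by
      rw [Cfsg.Agent.H26.orderOf_conj_eq]; exact ht
    have h3 : g⁻¹ * (g * t * g⁻¹) * g ∈ H := by
      have : g⁻¹ * (g * t * g⁻¹) * g = t := by group
      rw [this]; exact htH
    exact hg (Cfsg.Agent.H26.se_mem_of_inv_mem_inter hH h2 hmem h3)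

/-- (G2) A strongly embedded subgroup is transitive on its involutions. -/
theorem se_trans {H : Subgroup G} (hH : Cfsg.IsStronglyEmbedded H) {s t : G}
    (hs : orderOf s = 2) (hsH : s ∈ H) (ht : orderOf t = 2) (htH : t ∈ H) :
    ∃ d ∈ H, d * s * d⁻¹ = t := by
  obtain ⟨u, hu, huH⟩ := se_exists_inv_not_mem hH
  obtain ⟨d, hd, hdst⟩ := Cfsg.Agent.H26.se_D_trans hH hu huH hs hsH ht htH
  exact ⟨d, (Subgroup.mem_inf.mp hd).1, hdst⟩

/-- (G2), closed form: in a finite group, a strongly embedded subgroup is transitive on its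
involutions. -/
def StSeTrans : Prop :=
  ∀ {G : Type u} [Group G] [Finite G] (H : Subgroup G), Cfsg.IsStronglyEmbedded H →
    ∀ s t : G, orderOf s = 2 → s ∈ H → orderOf t = 2 → t ∈ H → ∃ d ∈ H, d * s * d⁻¹ = t

theorem seTrans : StSeTrans.{u} := by
  intro G _ _ H hH s t hs hsH ht htH
  exact se_trans hH hs hsH ht htH

example : StSeTrans.{u} := seTrans

end Cfsg.Agent.H19.Jz
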