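import Cfsg.Agent.H43.MCDefs

/-!
# S3905-CF (piece of helper43's team project): a chief factor `B/A` which is an `r`-group is
elementary abelian.
-/

set_option autoImplicit false

namespace Cfsg.Agent.H19.MC

open Cfsg.Agent.H43.MC

universe u

theorem cf : StCF.{u} := by
  intro G _ _ r hr A B hA hB hAB hpow hmin
  by_cases hBA : B ≤ A
  · exact ⟨fun a ha b hb => A.mul_mem (A.mul_mem (A.mul_mem (hBA ha) (hBA hb))
      (A.inv_mem (hBA ha))) (A.inv_mem (hBA hb)), fun b hb => A.pow_mem (hBA hb) r⟩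
  obtain ⟨b₀, hb₀B, hb₀A⟩ := SetLike.not_le_iff_exists.mp hBA
  haveI : Fact r.Prime := ⟨hr⟩
  -- (i) commutators
  have hcomm : ∀ a ∈ B, ∀ b ∈ B, a * b * a⁻¹ * b⁻¹ ∈ A := by
    let T : Subgroup G :=
      { carrier := {b | b ∈ B ∧ ∀ b' ∈ B, b * b' * b⁻¹ * b'⁻¹ ∈ A}
        one_mem' := ⟨B.one_mem, fun b' _ => by simp⟩
        mul_mem' := by
          rintro a b ⟨ha, ha'⟩ ⟨hb, hb'⟩
          refine ⟨B.mul_mem ha hb, fun c hc => ?_⟩
          have h1 : a * (b * c * b⁻¹ * c⁻¹) * a⁻¹ ∈ A := hA.conj_mem _ (hb' c hc) a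
          have h2 := ha' c hc
          have hrew : a * b * c * (a * b)⁻¹ * c⁻¹ =
              (a * (b * c * b⁻¹ * c⁻¹) * a⁻¹) * (a * c * a⁻¹ * c⁻¹) := by group
          rw [hrew]; exact A.mul_mem h1 h2
        inv_mem' := by
          rintro a ⟨ha, ha'⟩
          refine ⟨B.inv_mem ha, fun c hc => ?_⟩
          have h1 : a⁻¹ * (a * c * a⁻¹ * c⁻¹)⁻¹ * a⁻¹⁻¹ ∈ A :=
            hA.conj_mem _ (A.inv_mem (ha' c hc)) a⁻¹
          have hrew : a⁻¹ * c * a⁻¹⁻¹ * c⁻¹ = a⁻¹ * (a * c * a⁻¹ * c⁻¹)⁻¹ * a⁻¹⁻¹ := by group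
          rw [hrew]; exact h1 }
    have hmemT : ∀ b, b ∈ T ↔ b ∈ B ∧ ∀ b' ∈ B, b * b' * b⁻¹ * b'⁻¹ ∈ A := fun b => Iff.rfl
    have hTn : T.Normal := by
      constructor
      intro b hb g
      rw [hmemT] at hb ⊢
      refine ⟨hB.conj_mem b hb.1 g, fun c hc => ?_⟩
      have h1 : g⁻¹ * c * g ∈ B := by simpa using hB.conj_mem c hc g⁻¹
      have h2 := hA.conj_mem _ (hb.2 _ h1) g
      have hrew : g * b * g⁻¹ * c * (g * b * g⁻¹)⁻¹ * c⁻¹ =
          g * (b * (g⁻¹ * c * g) * b⁻¹ * (g⁻¹ * c * g)⁻¹) * g⁻¹ := by group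
      rw [hrew]; exact h2
    have hAT : A ≤ T := by
      intro a ha
      rw [hmemT]
      refine ⟨hAB ha, fun c hc => ?_⟩
      have h1 := hA.conj_mem _ (A.inv_mem ha) c
      have hrew : a * c * a⁻¹ * c⁻¹ = a * (c * a⁻¹ * c⁻¹) := by group
      rw [hrew]; exact A.mul_mem ha h1
    have hTB : T ≤ B := fun b hb => ((hmemT b).mp hb).1
    rcases hmin T hTn hAT hTB with hT | hT
    · exfalso
      have hQp : IsPGroup r (↥B ⧸ A.subgroupOf B) := by
        intro q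
        obtain ⟨b, rfl⟩ := QuotientGroup.mk_surjective q
        obtain ⟨k, hk⟩ := hpow b b.2
        refine ⟨k, ?_⟩
        rw [← QuotientGroup.mk_pow, QuotientGroup.eq_one_iff, Subgroup.mem_subgroupOf]
        simpa using hk
      haveI : Nontrivial (↥B ⧸ A.subgroupOf B) := by
        refine nontrivial_of_ne (QuotientGroup.mk ⟨b₀, hb₀B⟩ : ↥B ⧸ A.subgroupOf B) 1 ?_
        rw [Ne, QuotientGroup.eq_one_iff, Subgroup.mem_subgroupOf]
        exact hb₀A
      haveI := hQp.center_nontrivial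
      obtain ⟨⟨q, hq⟩, hq1⟩ := exists_ne (1 : Subgroup.center (↥B ⧸ A.subgroupOf B))
      obtain ⟨b, rfl⟩ := QuotientGroup.mk_surjective q
      have hbA : (b : G) ∉ A := by
        intro hbA
        apply hq1
        apply Subtype.ext
        show (QuotientGroup.mk b : ↥B ⧸ A.subgroupOf B) = 1
        rw [QuotientGroup.eq_one_iff, Subgroup.mem_subgroupOf]; exact hbA
      have hbT : (b : G) ∈ T := by
        rw [hmemT]
        refine ⟨b.2, fun c hc => ?_⟩
        have h1 := Subgroup.mem_center_iff.mp hq (QuotientGroup.mk ⟨c, hc⟩)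
        have h2 : (QuotientGroup.mk (b * ⟨c, hc⟩ * b⁻¹ * (⟨c, hc⟩ : ↥B)⁻¹) :
            ↥B ⧸ A.subgroupOf B) = 1 := by
          rw [QuotientGroup.mk_mul, QuotientGroup.mk_mul, QuotientGroup.mk_mul,
            QuotientGroup.mk_inv, QuotientGroup.mk_inv, ← h1]
          group
        rw [QuotientGroup.eq_one_iff, Subgroup.mem_subgroupOf] at h2
        simpa using h2
      rw [hT] at hbT
      exact hbA hbT
    · intro a ha b hb
      have haT : a ∈ T := by rw [hT]; exact ha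
      exact ((hmemT a).mp haT).2 b hb
  refine ⟨hcomm, ?_⟩
  -- (ii) r-th powers
  have hφ : ∀ g : G, QuotientGroup.mk' A g = 1 ↔ g ∈ A := fun g => QuotientGroup.eq_one_iff g
  let T2 : Subgroup G :=
    { carrier := {b | b ∈ B ∧ b ^ r ∈ A}
      one_mem' := ⟨B.one_mem, by simp [A.one_mem]⟩
      mul_mem' := by
        rintro a b ⟨ha, ha'⟩ ⟨hb, hb'⟩
        refine ⟨B.mul_mem ha hb, ?_⟩
        have h1 := (hφ _).mpr (hcomm a ha b hb)
        simp only [map_mul, map_inv] at h1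
        have hc : Commute (QuotientGroup.mk' A a) (QuotientGroup.mk' A b) :=
          mul_inv_eq_iff_eq_mul.mp (mul_inv_eq_one.mp h1)
        rw [← hφ, map_pow, map_mul, hc.mul_pow, ← map_pow, ← map_pow, (hφ _).mpr ha',
          (hφ _).mpr hb', one_mul]
      inv_mem' := by
        rintro a ⟨ha, ha'⟩
        refine ⟨B.inv_mem ha, ?_⟩
        rw [inv_pow]; exact A.inv_mem ha' }
  have hmemT2 : ∀ b, b ∈ T2 ↔ b ∈ B ∧ b ^ r ∈ A := fun b => Iff.rfl
  have hT2n : T2.Normal := by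
    constructor
    intro b hb g
    rw [hmemT2] at hb ⊢
    refine ⟨hB.conj_mem b hb.1 g, ?_⟩
    rw [conj_pow]; exact hA.conj_mem _ hb.2 g
  have hAT2 : A ≤ T2 := fun a ha => (hmemT2 a).mpr ⟨hAB ha, A.pow_mem ha r⟩
  have hT2B : T2 ≤ B := fun b hb => ((hmemT2 b).mp hb).1
  rcases hmin T2 hT2n hAT2 hT2B with hT | hT
  · exfalso
    have hex := hpow b₀ hb₀B
    classical
    have hk : b₀ ^ (r ^ Nat.find hex) ∈ A := Nat.find_spec hex
    have hk0 : Nat.find hex ≠ 0 := by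
      intro h0
      rw [h0] at hk
      simp at hk; exact hb₀A hk
    obtain ⟨j, hj⟩ := Nat.exists_eq_succ_of_ne_zero hk0
    have hc : b₀ ^ (r ^ j) ∈ T2 := by
      rw [hmemT2]
      refine ⟨B.pow_mem hb₀B _, ?_⟩
      rw [← pow_mul, ← pow_succ]
      rw [hj] at hk; exact hk
    rw [hT] at hc
    exact Nat.find_min hex (by omega : j < Nat.find hex) hc
  · intro b hb
    have hbT : b ∈ T2 := by rw [hT]; exact hb
    exact ((hmemT2 b).mp hbT).2

example : StCF.{u} := cf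

end Cfsg.Agent.H19.MC
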