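import Cfsg.Agent.H19.PgNzKey

/-!
# PG-NZ (helper19, for helper34, S3663): a non-constant function of `IsW`.

`f x = L (hh x a) - L (hh x b)` for isotropic `x` with both forms non-zero, where `a`, `b` is a
hyperbolic pair and `L` the discrete logarithm modulo 5.  The line sums reduce to a scalar
identity over `K⁴` under the Gram-determinant constraint (four vectors in a 3-dimensional
space).
-/

set_option autoImplicit false

namespace Cfsg.Agent.H19.PG

open Cfsg.Agent.H34.PG Matrix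

/-! ### sesquilinearity of `hh` -/

theorem hh_def (u v : E) : hh u v = u 0 * v 0 ^ 4 + u 1 * v 1 ^ 4 + u 2 * v 2 ^ 4 := by
  simp [hh, Cfsg.hermForm, Fin.sum_univ_three]

theorem hh_add_left (x y z : E) : hh (x + y) z = hh x z + hh y z := by
  rw [hh_def, hh_def, hh_def]
  simp only [Pi.add_apply]
  ring

theorem hh_smul_left (t : K) (x z : E) : hh (t • x) z = t * hh x z := by
  rw [hh_def, hh_def]
  simp only [Pi.smul_apply, smul_eq_mul]
  ring

theorem hh_conj (x y : E) : hh x y = (hh y x) ^ 4 := by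
  rw [hh_def, hh_def, frob_add, frob_add, mul_pow, mul_pow, mul_pow, pow16, pow16, pow16]
  ring

theorem hh_zero_right (z : E) : hh z 0 = 0 := by
  rw [hh_def]
  simp

/-! ### the Gram constraint -/

theorem det_mul_zero (X : Matrix (Fin 2 ⊕ Fin 2) (Fin 3) K)
    (Z : Matrix (Fin 3) (Fin 2 ⊕ Fin 2) K) : (X * Z).det = 0 := by
  by_contra h
  have hu : IsUnit (X * Z) := (Matrix.isUnit_iff_isUnit_det _).mpr (isUnit_iff_ne_zero.mpr h)
  have h1 := Matrix.rank_of_isUnit (X * Z) hu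
  have h2 := Matrix.rank_mul_le_left X Z
  have h3 := Matrix.rank_le_card_width X
  rw [h1] at h2
  simp at h2 h3
  omega

theorem gram_constraint (u v a b : E) (huu : hh u u = 0) (hvv : hh v v = 0) (huv : hh u v = 1)
    (haa : hh a a = 0) (hbb : hh b b = 0) (hab : hh a b = 1) :
    (hh u a ^ 4 * hh v a + hh v a ^ 4 * hh u a) * (hh u b ^ 4 * hh v b + hh v b ^ 4 * hh u b) =
      (1 + hh u a ^ 4 * hh v b + hh v a ^ 4 * hh u b) *
        (1 + hh u b ^ 4 * hh v a + hh v b ^ 4 * hh u a) := by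
  obtain ⟨α, hα⟩ : ∃ α : K, α = hh u a := ⟨_, rfl⟩
  obtain ⟨β, hβ⟩ : ∃ β : K, β = hh v a := ⟨_, rfl⟩
  obtain ⟨α', hα'⟩ : ∃ α' : K, α' = hh u b := ⟨_, rfl⟩
  obtain ⟨β', hβ'⟩ : ∃ β' : K, β' = hh v b := ⟨_, rfl⟩
  rw [← hα, ← hβ, ← hα', ← hβ']
  have hvu : hh v u = 1 := by rw [hh_conj, huv, one_pow]
  have hba : hh b a = 1 := by rw [hh_conj, hab, one_pow]
  have hau : hh a u = α ^ 4 := by rw [hα]; exact hh_conj a u
  have hav : hh a v = β ^ 4 := by rw [hβ]; exact hh_conj a v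
  have hbu : hh b u = α' ^ 4 := by rw [hα']; exact hh_conj b u
  have hbv : hh b v = β' ^ 4 := by rw [hβ']; exact hh_conj b v
  obtain ⟨X, hX⟩ : ∃ X : Matrix (Fin 2 ⊕ Fin 2) (Fin 3) K,
      X = Matrix.of (Sum.elim ![u, v] ![a, b]) := ⟨_, rfl⟩
  obtain ⟨Z, hZ⟩ : ∃ Z : Matrix (Fin 3) (Fin 2 ⊕ Fin 2) K,
      Z = Matrix.of (fun k i => (Sum.elim ![u, v] ![a, b] i k) ^ 4) := ⟨_, rfl⟩
  have hij : ∀ i j, (X * Z) i j =
      hh (Sum.elim ![u, v] ![a, b] i) (Sum.elim ![u, v] ![a, b] j) := by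
    intro i j
    rw [hh_def, Matrix.mul_apply, Fin.sum_univ_three, hX, hZ]
    rfl
  have hG : X * Z = Matrix.fromBlocks !![0, 1; 1, 0] !![α, α'; β, β']
      !![α ^ 4, β ^ 4; α' ^ 4, β' ^ 4] !![0, 1; 1, 0] := by
    ext i j
    rw [hij]
    rcases i with i | i <;> rcases j with j | j <;> fin_cases i <;> fin_cases j <;>
      simp [huu, hvv, huv, hvu, haa, hbb, hab, hba, hau, hav, hbu, hbv, ← hα, ← hβ, ← hα', ← hβ']
  have hdet := det_mul_zero X Z
  rw [hG] at hdet
  have hAA : (!![0, 1; 1, 0] : Matrix (Fin 2) (Fin 2) K) * !![0, 1; 1, 0] = 1 := by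
    rw [Matrix.mul_fin_two, Matrix.one_fin_two]
    simp
  haveI : Invertible (!![0, 1; 1, 0] : Matrix (Fin 2) (Fin 2) K) := ⟨!![0, 1; 1, 0], hAA, hAA⟩
  rw [Matrix.det_fromBlocks₁₁] at hdet
  have hinv : ⅟(!![0, 1; 1, 0] : Matrix (Fin 2) (Fin 2) K) = !![0, 1; 1, 0] :=
    invOf_eq_right_inv hAA
  rw [hinv] at hdet
  have hA : (!![0, 1; 1, 0] : Matrix (Fin 2) (Fin 2) K).det = -1 := by
    simp [Matrix.det_fin_two]
  have hS : (!![0, 1; 1, 0] - !![α ^ 4, β ^ 4; α' ^ 4, β' ^ 4] * !![0, 1; 1, 0] *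
      !![α, α'; β, β'] : Matrix (Fin 2) (Fin 2) K).det =
      (α ^ 4 * β + β ^ 4 * α) * (α' ^ 4 * β' + β' ^ 4 * α') -
        (1 - (α ^ 4 * β' + β ^ 4 * α')) * (1 - (α' ^ 4 * β + β' ^ 4 * α)) := by
    rw [Matrix.det_fin_two]
    simp
    ring
  rw [hA, hS] at hdet
  have h0 : (α ^ 4 * β + β ^ 4 * α) * (α' ^ 4 * β' + β' ^ 4 * α') =
      (1 - (α ^ 4 * β' + β ^ 4 * α')) * (1 - (α' ^ 4 * β + β' ^ 4 * α)) := by
    have := (mul_eq_zero.mp hdet).resolve_left (by simp)
    exact sub_eq_zero.mp this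
  rw [h0, sub_eq_add_neg, sub_eq_add_neg, neg_K, neg_K]
  ring

/-! ### the function -/

/-- the first base vector -/
def va : E := ![kk 0, kk 1, kk 1]

/-- the second base vector -/
def vb : E := ![kk 0, kk 2, kk 3]

theorem va_iso : hh va va = 0 := by decide +kernel

theorem vb_iso : hh vb vb = 0 := by decide +kernel

theorem va_vb : hh va vb = 1 := by decide +kernel

/-- the non-constant function of `IsW` -/
def fw (x : E) : ZMod 5 := if IsoV x then gg (hh x va) (hh x vb) else 0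

theorem isoV_smul (c : K) (v : E) (hc : c ≠ 0) : IsoV (c • v) ↔ IsoV v := by
  have key : hh (c • v) (c • v) = c * (c * hh v v) ^ 4 := by
    rw [hh_smul_left, hh_conj v (c • v), hh_smul_left]
  unfold IsoV
  rw [key]
  constructor
  · rintro ⟨h1, h2⟩
    refine ⟨(smul_ne_zero_iff.mp h1).2, ?_⟩
    have h3 := (mul_eq_zero.mp h2).resolve_left hc
    have h4 := pow4_eq_zero _ h3
    exact (mul_eq_zero.mp h4).resolve_left hc
  · rintro ⟨h1, h2⟩
    refine ⟨smul_ne_zero hc h1, ?_⟩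
    rw [h2]
    simp

theorem isoV_line (u v : E) (hu : IsoV u) (hv : IsoV v) (huv : hh u v = 1) (t : K)
    (ht : t ^ 4 = t) : IsoV (v + t • u) := by
  have h1 : hh u (v + t • u) = 1 := by
    rw [hh_conj, hh_add_left, hh_smul_left, hu.2, mul_zero, add_zero, ← hh_conj, huv]
  have h2 : hh v (v + t • u) = t := by
    rw [hh_conj, hh_add_left, hh_smul_left, hv.2, huv, zero_add, mul_one, ht]
  refine ⟨?_, ?_⟩
  · intro h0
    rw [h0, hh_zero_right] at h1
    exact zero_ne_one h1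
  · rw [hh_add_left, hh_smul_left, h1, h2, mul_one]
    exact add_self_K t

theorem fw_line (u v : E) (hu : IsoV u) (hv : IsoV v) (huv : hh u v = 1) (t : K)
    (ht : t ^ 4 = t) :
    fw (v + t • u) = gg (hh v va + t * hh u va) (hh v vb + t * hh u vb) := by
  unfold fw
  rw [if_pos (isoV_line u v hu hv huv t ht), hh_add_left, hh_smul_left, hh_add_left,
    hh_smul_left]

theorem isW_fw : IsW fw := by
  refine ⟨fun v hv => if_neg hv, fun c v hc => ?_, fun u v hu hv huv => ?_⟩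
  · unfold fw
    by_cases hv : IsoV v
    · rw [if_pos hv, if_pos ((isoV_smul c v hc).mpr hv), hh_smul_left, hh_smul_left,
        gg_smul c _ _ hc]
    · rw [if_neg hv, if_neg (fun h => hv ((isoV_smul c v hc).mp h))]
  · rw [F4s_eq, Finset.sum_insert (by decide +kernel), Finset.sum_insert (by decide +kernel),
      Finset.sum_insert (by decide +kernel), Finset.sum_singleton,
      fw_line u v hu hv huv 0 (by decide +kernel), fw_line u v hu hv huv 1 (by decide +kernel),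
      fw_line u v hu hv huv (kk 6) (by decide +kernel),
      fw_line u v hu hv huv (kk 7) (by decide +kernel)]
    have hfu : fw u = gg (hh u va) (hh u vb) := if_pos hu
    rw [hfu, zero_mul, zero_mul, add_zero, add_zero, one_mul, one_mul]
    exact scalar_key (hh u va) (hh v va) (hh u vb) (hh v vb)
      (gram_constraint u v va vb hu.2 hv.2 huv va_iso vb_iso va_vb)

theorem nz : StNz := by
  refine ⟨fw, isW_fw, va, ![kk 1, kk 0, kk 1], ?_, ?_, ?_⟩
  · decide +kernel
  · decide +kernel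
  · decide +kernel

example : Cfsg.Agent.H34.PG.StNz := nz

end Cfsg.Agent.H19.PG
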