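import Cfsg.Agent.H34.PgDefs

/-!
# PG-NZ (helper19, for helper34, S3663): scalar computations in the field with 16 elements.
-/

set_option autoImplicit false

namespace Cfsg.Agent.H19.PG

open Cfsg.Agent.H34.PG

/-- table of the discrete logarithm modulo 5 (index = bit pattern) -/
def Ltab : List (ZMod 5) := [0, 0, 1, 4, 2, 3, 0, 0, 3, 4, 4, 2, 1, 3, 1, 2]

/-- the bit pattern of an element of `K` -/
def idx (x : K) : ℕ :=
  (if x.c0 then 1 else 0) + (if x.c1 then 2 else 0) + (if x.c2 then 4 else 0) +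
    (if x.c3 then 8 else 0)

/-- `L 0 = 0`, `L (ζ ^ i) = i mod 5`. -/
def L (x : K) : ZMod 5 := Ltab.getD (idx x) 0

/-- the difference of logarithms, `0` if one argument vanishes -/
def gg (x y : K) : ZMod 5 := if x ≠ 0 ∧ y ≠ 0 then L x - L y else 0

theorem frob_add : ∀ s t : K, (s + t) ^ 4 = s ^ 4 + t ^ 4 := by decide +kernel

theorem pow16 : ∀ s : K, (s ^ 4) ^ 4 = s := by decide +kernel

theorem add_self_K : ∀ s : K, s + s = 0 := by decide +kernel

theorem neg_K : ∀ s : K, -s = s := by decide +kernel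

theorem pow4_eq_zero : ∀ s : K, s ^ 4 = 0 → s = 0 := by decide +kernel

theorem gg_smul : ∀ c x y : K, c ≠ 0 → gg (c * x) (c * y) = gg x y := by decide +kernel

theorem F4s_eq : F4s = {0, 1, kk 6, kk 7} := by decide +kernel

set_option maxRecDepth 100000 in
theorem scalar_key : ∀ α β α' β' : K,
    (α ^ 4 * β + β ^ 4 * α) * (α' ^ 4 * β' + β' ^ 4 * α') =
      (1 + α ^ 4 * β' + β ^ 4 * α') * (1 + α' ^ 4 * β + β' ^ 4 * α) →
    gg α α' + (gg β β' + (gg (β + α) (β' + α') + (gg (β + kk 6 * α) (β' + kk 6 * α') +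
      gg (β + kk 7 * α) (β' + kk 7 * α')))) = 0 := by
  decide +kernel

end Cfsg.Agent.H19.PG
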