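import Cfsg.Agent.H7.PsDefs

/-!
# PS-TW13 (piece for helper7's S3664 project): over a field with 8 elements, if `g ∈ Mat₄` has
`g ^ 13 = 1` and fixes no non-zero vector, the only `X` with `g X = X g⁽²⁾` is `0`
-/

set_option autoImplicit false

namespace Cfsg.Agent.H19.Ps

open Matrix

/-- A non-zero additive subgroup of `F⁴` (`|F| = 8`) invariant under `g` of order 13 without fixed
points is everything. -/
theorem inv_sub {F : Type} [Field F] [Fintype F] (hF : Fintype.card F = 8)
    (g : Matrix (Fin 4) (Fin 4) F) (hg : g ^ 13 = 1)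
    (hfix : ∀ v : Fin 4 → F, g.mulVec v = v → v = 0)
    (W : AddSubgroup (Fin 4 → F)) (hW : ∀ w ∈ W, g.mulVec w ∈ W) (hne : W ≠ ⊥) : W = ⊤ := by
  classical
  let f : Function.End W := fun w => ⟨g.mulVec w.1, hW w.1 w.2⟩
  have hpow : ∀ (n : ℕ) (w : W), ((f ^ n) w).1 = (g ^ n).mulVec w.1 := by
    intro n
    induction n with
    | zero =>
      intro w
      rw [pow_zero, pow_zero, Matrix.one_mulVec]
      rfl
    | succ n ih =>
      intro w
      rw [pow_succ]
      show ((f ^ n) (f w)).1 = _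
      rw [ih, pow_succ, ← Matrix.mulVec_mulVec]
  have hf : f ^ 13 ^ 1 = 1 := by
    funext w
    apply Subtype.ext
    rw [pow_one, hpow, hg, Matrix.one_mulVec]
    rfl
  haveI : Fact (Nat.Prime 13) := ⟨by norm_num⟩
  have h1 := Equiv.Perm.card_fixedPoints_modEq (p := 13) (n := 1) hf
  have hfp : Fintype.card (Function.fixedPoints f) = 1 := by
    rw [Fintype.card_eq_one_iff]
    refine ⟨⟨0, ?_⟩, ?_⟩
    · show f 0 = 0
      apply Subtype.ext
      show g.mulVec 0 = 0
      simp
    · rintro ⟨w, hw⟩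
      apply Subtype.ext
      have h2 : g.mulVec w.1 = w.1 := congrArg Subtype.val hw
      exact Subtype.ext (hfix _ h2)
  rw [hfp] at h1
  have hV : Nat.card (Fin 4 → F) = 2 ^ 12 := by
    rw [Nat.card_eq_fintype_card, Fintype.card_fun, hF]
    norm_num
  have hdvd : Nat.card W ∣ 2 ^ 12 := hV ▸ AddSubgroup.card_addSubgroup_dvd_card W
  obtain ⟨e, he, hcard⟩ := (Nat.dvd_prime_pow Nat.prime_two).mp hdvd
  rw [← Nat.card_eq_fintype_card, hcard] at h1
  have h3 : e = 0 ∨ e = 12 := by
    interval_cases e <;> simp [Nat.ModEq] at h1 <;> simp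
  rcases h3 with rfl | rfl
  · exact absurd (AddSubgroup.eq_bot_of_card_eq W (by simpa using hcard)) hne
  · exact AddSubgroup.eq_top_of_card_eq W (by rw [hcard, hV])

theorem tw13 : Cfsg.Agent.H7.Ps.StTw13 := by
  intro F _ _ hF g hg hfix X hX
  classical
  have h2 : (2 : F) = 0 := by
    have h8 : ((Fintype.card F : ℕ) : F) = 0 := FiniteField.cast_card_eq_zero F
    rw [hF] at h8
    have h9 : (2 : F) ^ 3 = 0 := by
      have : ((8 : ℕ) : F) = (2 : F) ^ 3 := by norm_num
      rw [← this]; exact h8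
    exact pow_eq_zero_iff (by norm_num) |>.mp h9
  have hsq_add : ∀ x y : F, (x + y) ^ 2 = x ^ 2 + y ^ 2 := by
    intro x y
    have : (x + y) ^ 2 = x ^ 2 + y ^ 2 + 2 * (x * y) := by ring
    rw [this, h2, zero_mul, add_zero]
  let φ : F →+* F :=
    { toFun := fun x => x ^ 2
      map_one' := one_pow 2
      map_mul' := fun x y => mul_pow x y 2
      map_zero' := by simp
      map_add' := hsq_add }
  let Θ : (Fin 4 → F) →+ (Fin 4 → F) :=
    { toFun := fun v => X.mulVec (fun i => (v i) ^ 2)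
      map_zero' := by
        have : (fun i : Fin 4 => ((0 : Fin 4 → F) i) ^ 2) = 0 := by funext i; simp
        rw [this, Matrix.mulVec_zero]
      map_add' := fun v w => by
        rw [← Matrix.mulVec_add]
        congr 1
        funext i
        exact hsq_add _ _ }
  have hΘg : ∀ v, Θ (g.mulVec v) = g.mulVec (Θ v) := by
    intro v
    show X.mulVec (fun i => (g.mulVec v i) ^ 2) = g.mulVec (X.mulVec (fun i => (v i) ^ 2))
    rw [Matrix.mulVec_mulVec, hX, ← Matrix.mulVec_mulVec]
    congr 1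
    funext i
    exact RingHom.map_mulVec φ g v i
  have hΘc : ∀ (c : F) v, Θ (c • v) = c ^ 2 • Θ v := by
    intro c v
    show X.mulVec (fun i => ((c • v) i) ^ 2) = c ^ 2 • X.mulVec (fun i => (v i) ^ 2)
    rw [← Matrix.mulVec_smul]
    congr 1
    funext i
    simp [mul_pow]
  suffices hΘ : ∀ v, Θ v = 0 by
    ext i j
    have hw : (fun k => ((Pi.single j 1 : Fin 4 → F) k) ^ 2) = Pi.single j 1 := by
      funext k
      by_cases h : k = j <;> simp [h]
    have h3 := congrFun (hΘ (Pi.single j 1)) i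
    change (X.mulVec (fun k => ((Pi.single j 1 : Fin 4 → F) k) ^ 2)) i = 0 at h3
    rw [hw] at h3
    simpa using h3
  obtain ⟨c, hc0, hc1⟩ : ∃ c : F, c ≠ 0 ∧ c ≠ 1 := by
    by_contra hcon
    push Not at hcon
    have : Fintype.card F ≤ 2 := by
      calc Fintype.card F = (Finset.univ : Finset F).card := rfl
        _ ≤ ({0, 1} : Finset F).card := Finset.card_le_card (fun c _ => by
            by_cases h : c = 0
            · simp [h]
            · simp [hcon c h])
        _ ≤ 2 := Finset.card_le_two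
    omega
  let v₀ : Fin 4 → F := fun _ => 1
  have hv₀ : v₀ ≠ 0 := fun h => one_ne_zero (congrFun h 0)
  let γ : (Fin 4 → F) →+ (Fin 4 → F) := (Matrix.mulVecLin g).toAddMonoidHom
  let P : AddSubgroup ((Fin 4 → F) →+ (Fin 4 → F)) :=
    { carrier := {T | (∀ v, T (g.mulVec v) = g.mulVec (T v)) ∧ ∀ v, T (c • v) = c • T v}
      zero_mem' := ⟨fun v => by simp, fun v => by simp⟩
      add_mem' := fun {S T} hS hT =>
        ⟨fun v => by simp [hS.1 v, hT.1 v, Matrix.mulVec_add], fun v => by simp [hS.2 v, hT.2 v]⟩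
      neg_mem' := fun {T} hT =>
        ⟨fun v => by simp [hT.1 v, Matrix.mulVec_neg], fun v => by simp [hT.2 v]⟩ }
  let W₀ : AddSubgroup (Fin 4 → F) := P.map (AddMonoidHom.eval v₀)
  have hW₀ : W₀ = ⊤ := by
    apply inv_sub hF g hg hfix
    · rintro w ⟨T, hT, rfl⟩
      refine ⟨γ.comp T, ⟨?_, ?_⟩, rfl⟩
      · intro v
        show g.mulVec (T (g.mulVec v)) = g.mulVec (g.mulVec (T v))
        rw [hT.1]
      · intro v
        show g.mulVec (T (c • v)) = c • g.mulVec (T v)
        rw [hT.2, Matrix.mulVec_smul]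
    · intro h
      have h3 : v₀ ∈ W₀ := ⟨AddMonoidHom.id _, ⟨fun v => rfl, fun v => rfl⟩, rfl⟩
      rw [h] at h3
      exact hv₀ (AddSubgroup.mem_bot.mp h3)
  obtain ⟨T, hT, hTv⟩ : Θ v₀ ∈ W₀ := by rw [hW₀]; trivial
  have hTv' : T v₀ = Θ v₀ := hTv
  have hS : ∀ v, (Θ - T) v = 0 := by
    have hker : (Θ - T).ker = ⊤ := by
      apply inv_sub hF g hg hfix
      · intro w hw
        rw [AddMonoidHom.mem_ker] at hw ⊢
        have h3 : Θ w - T w = 0 := hw
        show Θ (g.mulVec w) - T (g.mulVec w) = 0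
        rw [hΘg, hT.1, ← Matrix.mulVec_sub, h3, Matrix.mulVec_zero]
      · intro h
        have h3 : v₀ ∈ (Θ - T).ker := by
          rw [AddMonoidHom.mem_ker]
          show Θ v₀ - T v₀ = 0
          rw [hTv', sub_self]
        rw [h] at h3
        exact hv₀ (AddSubgroup.mem_bot.mp h3)
    intro v
    have h3 : v ∈ (Θ - T).ker := by rw [hker]; trivial
    exact AddMonoidHom.mem_ker.mp h3
  intro v
  have e1 : Θ v = T v := sub_eq_zero.mp (hS v)
  have e2 : Θ (c • v) = T (c • v) := sub_eq_zero.mp (hS (c • v))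
  have e3 : c ^ 2 • Θ v = c • Θ v := by rw [← hΘc, e2, hT.2, e1]
  have e4 : (c ^ 2 - c) • Θ v = 0 := by rw [sub_smul, e3, sub_self]
  have e5 : c ^ 2 - c ≠ 0 := by
    have : c ^ 2 - c = c * (c - 1) := by ring
    rw [this]
    exact mul_ne_zero hc0 (sub_ne_zero.mpr hc1)
  exact (smul_eq_zero.mp e4).resolve_left e5

example : Cfsg.Agent.H7.Ps.StTw13 := tw13

end Cfsg.Agent.H19.Ps
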