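import Cfsg.Agent.H45.R2Defs

/-!
# Small Ree groups: conjugation of Ree words by `h(-1,-1)` (piece R8 of helper45's project; helper19)
-/

set_option autoImplicit false
open Cfsg Cfsg.Lie Cfsg.Agent.H22 Cfsg.Agent.H22.GEx Cfsg.Agent.H22.Ree Cfsg.Agent.H45.R2 Matrix

namespace Cfsg.Agent.H19.R2

variable {K : Type*} [Field K] [CharP K 3] {e : ℕ} (C : Ctx K e)

theorem conjR : ConjRStmt C := by
  intro t u v
  rw [USys.R_eq_E (signs_pos K C.θ), USys.R_eq_E (signs_pos K C.θ),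
    C.hh_mul_E _ _ (neg_ne_zero.mpr one_ne_zero) (neg_ne_zero.mpr one_ne_zero)]
  obtain ⟨v6, v7, v8, v9, v10, v11⟩ := chi_vals (-1 : K) (-1)
  rw [v6, v7, v8, v9, v10, v11]
  have a6 : (-1 : K) ^ (-3 : ℤ) * (-1 : K) ^ (2 : ℤ) = -1 := by
    rw [_root_.zpow_neg, zpow_ofNat, zpow_ofNat]; norm_num
  have a7 : (-1 : K) ^ (2 : ℤ) * (-1 : K) ^ (-1 : ℤ) = -1 := by
    rw [_root_.zpow_neg, zpow_one, zpow_ofNat]; norm_num
  have a8 : (-1 : K) ^ (-1 : ℤ) * (-1 : K) ^ (1 : ℤ) = 1 := by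
    rw [_root_.zpow_neg, zpow_one]; norm_num
  have a9 : (-1 : K) ^ (1 : ℤ) * (-1 : K) ^ (0 : ℤ) = -1 := by
    rw [zpow_one, zpow_zero]; norm_num
  have a10 : (-1 : K) ^ (3 : ℤ) * (-1 : K) ^ (-1 : ℤ) = 1 := by
    rw [_root_.zpow_neg, zpow_one, zpow_ofNat]; norm_num
  have a11 : (-1 : K) ^ (0 : ℤ) * (-1 : K) ^ (1 : ℤ) = -1 := by
    rw [zpow_one, zpow_zero]; norm_num
  rw [a6, a7, a8, a9, a10, a11]
  simp only [map_neg]
  congr 1
  congr 1 <;> ring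

example : ConjRStmt C := conjR C

end Cfsg.Agent.H19.R2
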