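import Cfsg.Agent.H45.R2Defs

/-!
# Small Ree groups: the elements of `U¹` commuting with `h(-1,-1)` (piece R9 of helper45's
project; helper19)
-/

set_option autoImplicit false
open Cfsg Cfsg.Lie Cfsg.Agent.H22 Cfsg.Agent.H22.GEx Cfsg.Agent.H22.Ree Cfsg.Agent.H45.R2 Matrix

namespace Cfsg.Agent.H19.R2

variable {K : Type*} [Field K] [CharP K 3] {e : ℕ} (C : Ctx K e)

theorem ufix (h8 : ConjRStmt C) : UFixStmt C := by
  intro x hx hcomm
  obtain ⟨⟨t, u, v⟩, hq⟩ := C.reeEl_bij.2 ⟨x, hx⟩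
  have hxR : x = (C.SP.R C.τ t u v : GL chevG2.Idx K) :=
    (congrArg (fun z : ↥(chevG2.posUnipotent K ⊓ twistedG2 K e) => (z : GL chevG2.Idx K)) hq).symm
  rw [hxR] at hcomm
  have h1 : C.hh (-1) (-1) * C.SP.R C.τ t u v = C.SP.R C.τ t u v * C.hh (-1) (-1) :=
    Subtype.ext hcomm
  rw [h8 t u v] at h1
  have h2 : C.SP.R C.τ (-t) u (-v) = C.SP.R C.τ t u v := mul_right_cancel h1
  obtain ⟨ht, -, hv⟩ := USys.R_inj (signs_pos K C.θ) C.τ C.E_inj _ _ _ _ _ _ h2
  have h20 : (2 : K) ≠ 0 := by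
    intro h
    have h3 : ((2 : ℕ) : K) = 0 := by exact_mod_cast h
    have h4 := (CharP.cast_eq_zero_iff K 3 2).mp h3
    omega
  have ht0 : t = 0 := by
    have h5 : (2 : K) * t = 0 := by linear_combination -ht
    rcases mul_eq_zero.mp h5 with h6 | h6
    · exact absurd h6 h20
    · exact h6
  have hv0 : v = 0 := by
    have h5 : (2 : K) * v = 0 := by linear_combination -hv
    rcases mul_eq_zero.mp h5 with h6 | h6
    · exact absurd h6 h20
    · exact h6
  refine ⟨u, ?_⟩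
  rw [hxR, ht0, hv0]

example (h8 : ConjRStmt C) : UFixStmt C := ufix C h8

end Cfsg.Agent.H19.R2
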