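import Mathlib
import Cfsg.Agent.H7.RCDefs0

/-!
# S1156 team project, piece RC-BLOCKHOM
-/

set_option autoImplicit false

open Cfsg.Agent.H7.RC Matrix

namespace Cfsg.Agent.H19.RC

universe u v

/-- RC-BLOCKHOM. -/
theorem blockHom : StBlockHom.{u, v} := by
  intro n _ _ K _ b H hH k
  let φ : ↥H →* Matrix {i : n // b i = k} {i : n // b i = k} K :=
    { toFun := fun g => Matrix.of (fun i j => ((g : GL n K) : Matrix n n K) i.1 j.1)
      map_one' := by
        ext i j
        simp [Matrix.one_apply, Subtype.ext_iff]
      map_mul' := by
        intro g h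
        ext i j
        simp only [Matrix.of_apply, Subgroup.coe_mul, Units.val_mul, Matrix.mul_apply]
        have hg := hH g g.2
        have hh := hH h h.2
        rw [← Finset.sum_subtype (Finset.univ.filter (fun l => b l = k)) (by simp)
          (fun l => ((g : GL n K) : Matrix n n K) i.1 l * ((h : GL n K) : Matrix n n K) l j.1)]
        rw [Finset.sum_filter]
        apply Finset.sum_congr rfl
        intro l _
        split_ifs with hl
        · rfl
        · rcases lt_or_gt_of_ne hl with h1 | h1
          · have h0 : ((g : GL n K) : Matrix n n K) i.1 l = 0 := hg (by rw [i.2]; exact h1)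
            rw [h0, zero_mul]
          · have h0 : ((h : GL n K) : Matrix n n K) l j.1 = 0 := hh (by rw [j.2]; exact h1)
            rw [h0, mul_zero] }
  refine ⟨φ.toHomUnits, ?_⟩
  intro g i j
  rfl

example : StBlockHom.{u, v} := blockHom

end Cfsg.Agent.H19.RC
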