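import Mathlib
import Cfsg.Agent.H7.RCDefs0

/-!
# S1156 team project, piece RC-NTA
-/

set_option autoImplicit false

open Cfsg.Agent.H7.RC Matrix

namespace Cfsg.Agent.H19.RC

/-- RC-NTA. -/
theorem nta : StNTA := by
  intro q p hq hp hp3 hpq
  obtain ⟨k, rfl⟩ : ∃ k, q = k + 2 := ⟨q - 2, by omega⟩
  have hq1 : k + 2 - 1 = k + 1 := by omega
  have hpq3 : ¬ p ∣ (k + 2) ^ 3 := fun h => hpq (hp.dvd_of_dvd_pow h)
  have hfac : (k + 2) ^ 3 + 1 = (k + 3) * ((k + 2) ^ 2 - (k + 2) + 1) := by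
    have e : (k + 2) ^ 2 - (k + 2) + 1 = k ^ 2 + 3 * k + 3 := by
      have : (k + 2) ^ 2 = k ^ 2 + 3 * k + 2 + (k + 2) := by ring
      omega
    rw [e]
    ring
  have hp2 : ¬ p ∣ 2 := fun h => by
    have := Nat.le_of_dvd (by norm_num) h
    omega
  have hp3' : ¬ p ∣ 3 := fun h => by
    have := Nat.le_of_dvd (by norm_num) h
    omega
  have hne1 : (k + 2) ^ 3 ≠ 0 := by positivity
  have hne2 : k + 1 ≠ 0 := by omega
  have hne3 : (k + 2) ^ 3 + 1 ≠ 0 := by positivity
  have hsplit : ((k + 2) ^ 3 * (k + 1) * ((k + 2) ^ 3 + 1)).factorization p =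
      ((k + 2) ^ 3).factorization p + (k + 1).factorization p +
        ((k + 2) ^ 3 + 1).factorization p := by
    rw [Nat.factorization_mul (Nat.mul_ne_zero hne1 hne2) hne3,
      Nat.factorization_mul hne1 hne2]
    rfl
  have h0 : ((k + 2) ^ 3).factorization p = 0 := Nat.factorization_eq_zero_of_not_dvd hpq3
  rw [hq1]
  refine ⟨?_, ?_, ?_⟩
  · intro hd
    have hnd : ¬ p ∣ (k + 2) ^ 3 + 1 := by
      intro h
      have e : (k + 2) ^ 3 + 1 = (k + 1) * ((k + 2) ^ 2 + (k + 2) + 1) + 2 := by ring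
      rw [e] at h
      exact hp2 ((Nat.dvd_add_right (Dvd.dvd.mul_right hd _)).mp h)
    rw [hsplit, h0, Nat.factorization_eq_zero_of_not_dvd hnd]
    omega
  · intro hd
    have hd' : p ∣ k + 3 := hd
    have hnd1 : ¬ p ∣ k + 1 := by
      intro h
      have e : k + 3 = (k + 1) + 2 := by ring
      rw [e] at hd'
      exact hp2 ((Nat.dvd_add_right h).mp hd')
    have hnd2 : ¬ p ∣ (k + 2) ^ 2 - (k + 2) + 1 := by
      intro h
      have e : (k + 2) ^ 2 - (k + 2) + 1 = (k + 3) * k + 3 := by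
        have : (k + 2) ^ 2 = (k + 3) * k + 2 + (k + 2) := by ring
        omega
      rw [e] at h
      exact hp3' ((Nat.dvd_add_right (Dvd.dvd.mul_right hd' _)).mp h)
    have hne4 : k + 3 ≠ 0 := by omega
    have hne5 : (k + 2) ^ 2 - (k + 2) + 1 ≠ 0 := by omega
    have e1 : ((k + 2) ^ 3 + 1).factorization p = (k + 3).factorization p := by
      rw [hfac, Nat.factorization_mul hne4 hne5]
      simp only [Finsupp.coe_add, Pi.add_apply]
      rw [Nat.factorization_eq_zero_of_not_dvd hnd2, add_zero]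
    have e2 : (k + 2) ^ 2 - 1 = (k + 1) * (k + 3) := by
      have : (k + 2) ^ 2 = (k + 1) * (k + 3) + 1 := by ring
      omega
    have e3 : ((k + 2) * ((k + 2) ^ 2 - 1)).factorization p = (k + 3).factorization p := by
      rw [e2, Nat.factorization_mul (by omega) (Nat.mul_ne_zero hne2 hne4),
        Nat.factorization_mul hne2 hne4]
      simp only [Finsupp.coe_add, Pi.add_apply]
      rw [Nat.factorization_eq_zero_of_not_dvd hpq, Nat.factorization_eq_zero_of_not_dvd hnd1]
      omega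
    rw [hsplit, h0, e1, e3, Nat.factorization_eq_zero_of_not_dvd hnd1]
    omega
  · intro hd
    rcases (Nat.Prime.dvd_mul hp).mp hd with h1 | h1
    · rcases (Nat.Prime.dvd_mul hp).mp h1 with h2 | h2
      · exact absurd h2 hpq3
      · exact Or.inl h2
    · rw [hfac] at h1
      rcases (Nat.Prime.dvd_mul hp).mp h1 with h2 | h2
      · exact Or.inr (Or.inl h2)
      · exact Or.inr (Or.inr h2)

example : StNTA := nta

end Cfsg.Agent.H19.RC
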