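import Mathlib
import Cfsg.Agent.H9.S77Defs

/-!
# S0429 team project, piece K33
-/

set_option autoImplicit false
open Finset Classical Cfsg.Agent.H9.S77

namespace Cfsg.Agent.H19.S77

universe u

theorem tc_le_four {V : Type u} [Fintype V] {G : SimpleGraph V} (h : Hyp G) {u v : V}
    (huv : NA G u v) (w : V) : tc G u v w ≤ 4 := by
  unfold tc
  calc (nb G u ∩ nb G v ∩ nb G w).card ≤ (nb G u ∩ nb G v).card :=
        Finset.card_le_card Finset.inter_subset_left
    _ = 4 := h.mu u v huv.1 huv.2

/-- S0429-K33. -/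
theorem k33 : Cfsg.Agent.H9.S77.PieceK33.{u} := by
  intro V _ G h hC hN u v huv
  obtain ⟨h47, h56, h80⟩ := hC u v huv
  have hN' := hN u v huv
  have ht4 : ∀ w, tc G u v w ≤ 4 := fun w => tc_le_four h huv w
  show (∀ w ∈ Wset G u v, tc G u v w ≤ 2) ∧
    ((Wset G u v).filter (fun w => tc G u v w = 0)).card = 3 ∧
    ((Wset G u v).filter (fun w => tc G u v w = 1)).card = 32 ∧
    ((Wset G u v).filter (fun w => tc G u v w = 2)).card = 12
  generalize Wset G u v = W at *
  generalize tc G u v = t at *
  have hmaps : ∀ w ∈ W, t w ∈ Finset.range 5 := fun w _ =>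
    Finset.mem_range.mpr (by have := ht4 w; omega)
  have hsum : ∀ f : ℕ → ℕ, ∑ w ∈ W, f (t w) =
      ∑ i ∈ Finset.range 5, (W.filter (fun w => t w = i)).card * f i := by
    intro f
    rw [← Finset.sum_fiberwise_of_maps_to hmaps]
    apply Finset.sum_congr rfl
    intro i _
    have e : ∀ x ∈ W.filter (fun w => t w = i), f (t x) = f i := by
      intro x hx
      rw [(Finset.mem_filter.mp hx).2]
    rw [Finset.sum_congr rfl e, Finset.sum_const, smul_eq_mul]
  have e47 := hsum (fun _ => 1)
  have e56 := hsum (fun i => i)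
  have e80 := hsum (fun i => i ^ 2)
  simp only [Finset.sum_range_succ, Finset.sum_range_zero, Finset.sum_const, smul_eq_mul,
    mul_one] at e47 e56 e80
  rw [h47] at e47
  rw [h56] at e56
  rw [h80] at e80
  have hp0 : (W.filter (fun w => t w = 0)).card ≤ 3 := by omega
  have hle2 : ∀ w ∈ W, t w ≤ 2 := by
    intro w hw
    by_contra hcon
    obtain ⟨hc, hs⟩ := hN' w hw
    have hSW : nb G w ∩ W ⊆ W := Finset.inter_subset_right
    generalize nb G w ∩ W = S at *
    have h1 : (S.filter (fun x => ¬ t x = 0)).card ≤ ∑ x ∈ S, t x := by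
      rw [Finset.card_eq_sum_ones, Finset.sum_filter]
      apply Finset.sum_le_sum
      intro x _
      split_ifs with hx
      · exact Nat.zero_le _
      · omega
    have h2 : (S.filter (fun x => t x = 0)).card ≤ (W.filter (fun w => t w = 0)).card := by
      apply Finset.card_le_card
      intro x hx
      rw [Finset.mem_filter] at hx ⊢
      exact ⟨hSW hx.1, hx.2⟩
    have h3 := Finset.card_filter_add_card_filter_not (s := S) (fun x => t x = 0)
    have h4 : 4 * (4 - t w) ≤ 4 := by have := ht4 w; omega
    omega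
  have hp3 : (W.filter (fun w => t w = 3)).card = 0 := by
    rw [Finset.card_eq_zero, Finset.filter_eq_empty_iff]
    intro w hw hcon
    have := hle2 w hw
    omega
  have hp4 : (W.filter (fun w => t w = 4)).card = 0 := by
    rw [Finset.card_eq_zero, Finset.filter_eq_empty_iff]
    intro w hw hcon
    have := hle2 w hw
    omega
  refine ⟨hle2, ?_, ?_, ?_⟩ <;> omega

example : Cfsg.Agent.H9.S77.PieceK33.{u} := k33

end Cfsg.Agent.H19.S77
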