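import Cfsg.Agent.H19.S8ArBase

/-!
# S8-AR1 and S8-AR4 (pieces of helper45's S1158 project): a single class is impossible; the
count of the elements of order dividing `M`.
-/

set_option autoImplicit false

namespace Cfsg.Agent.H19.S8

open Cfsg.Agent.H45.S8

theorem arOne : StArOne := by
  intro m n τ hm hMn hn6 hτ h3
  obtain ⟨j, rfl⟩ := hMn
  have hMpos : 0 < MM m := by have := MM_pos m; omega
  have hj6 : j ∣ 6 := by
    have h' : MM m * j ∣ MM m * 6 := by rw [mul_comm (MM m) 6]; exact hn6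
    exact Nat.dvd_of_mul_dvd_mul_left hMpos h'
  have hjle : j ≤ 6 := Nat.le_of_dvd (by norm_num) hj6
  have hjpos : 0 < j := Nat.pos_of_dvd_of_pos hj6 (by norm_num)
  have hq := qq_ge m hm
  have e1 : (τ : ℤ) * ((MM m : ℤ) * j) = (GG m : ℤ) * ((MM m : ℤ) - 1) := by
    have h1 : 1 ≤ MM m := hMpos
    have h' := congrArg (Nat.cast : ℕ → ℤ) hτ
    push_cast [Nat.cast_sub h1] at h'
    exact h'
  have e2 : 3 * (τ : ℤ) = (TT m : ℤ) := by exact_mod_cast h3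
  rw [GG_int, MM_int] at e1
  rw [TT_int] at e2
  obtain ⟨Q, hQ⟩ : ∃ Q : ℤ, Q = (qq m : ℤ) := ⟨_, rfl⟩
  rw [← hQ] at e1 e2
  have hQ27 : (27 : ℤ) ≤ Q := by rw [hQ]; exact_mod_cast hq
  have key : 3 * (Q - 1) = (j : ℤ) * (Q - 2) := by
    have hne : Q ^ 4 * (Q - 1) * (Q + 1) * (Q ^ 2 - Q + 1) ≠ 0 := by
      have h1 : 0 < Q ^ 4 := by positivity
      have h2 : 0 < Q - 1 := by linarith
      have h3 : 0 < Q + 1 := by linarith
      have h4 : 0 < Q ^ 2 - Q + 1 := by nlinarith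
      exact (mul_pos (mul_pos (mul_pos h1 h2) h3) h4).ne'
    apply mul_left_cancel₀ hne
    linear_combination (-3) * e1 + ((Q ^ 2 - Q + 1) * j) * e2
  interval_cases j <;> push_cast at key <;> linarith

theorem arT : StArT := by
  intro m n₀ t γ hm h1 h2 h3
  have hq := qq_ge m hm
  have hA : 2 * qq m ^ 2 ≤ qq m ^ 3 := by nlinarith
  have hB : 1 ≤ qq m ^ 3 - 2 * qq m ^ 2 := by
    have : 2 * qq m ^ 2 + 1 ≤ qq m ^ 3 := by nlinarith
    omega
  have h31 : 1 ≤ qq m := by omega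
  have h33 : 3 ≤ qq m := by omega
  have e1 : 2 * (n₀ : ℤ) =
      (qq m : ℤ) ^ 3 * ((qq m : ℤ) - 1) * ((qq m : ℤ) ^ 3 - 2 * (qq m : ℤ) ^ 2 - 1) := by
    have h' := congrArg (Nat.cast : ℕ → ℤ) h1
    push_cast [Nat.cast_sub hA, Nat.cast_sub hB, Nat.cast_sub h31] at h'
    exact h'
  have e2 : (n₀ : ℤ) = (t : ℤ) + γ := by exact_mod_cast h2
  have e3 : 6 * ((qq m : ℤ) + 1) * (γ : ℤ) = (GG m : ℤ) * ((qq m : ℤ) - 3) := by
    have h' := congrArg (Nat.cast : ℕ → ℤ) h3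
    push_cast [Nat.cast_sub h33] at h'
    exact h'
  rw [GG_int] at e3
  have goal : 3 * (t : ℤ) = (TT m : ℤ) := by
    rw [TT_int]
    obtain ⟨Q, hQ⟩ : ∃ Q : ℤ, Q = (qq m : ℤ) := ⟨_, rfl⟩
    rw [← hQ] at e1 e3 ⊢
    have hQ27 : (27 : ℤ) ≤ Q := by rw [hQ]; exact_mod_cast hq
    have hne : 2 * (Q + 1) ≠ 0 := by
      have : 0 < 2 * (Q + 1) := by linarith
      exact this.ne'
    apply mul_left_cancel₀ hne
    linear_combination 3 * (Q + 1) * e1 - e3 - 6 * (Q + 1) * e2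
  exact_mod_cast goal

example : StArOne := arOne
example : StArT := arT

end Cfsg.Agent.H19.S8
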