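import Cfsg.Agent.H19.S8ArBase

/-!
# S8-AR3 and S8-AR2 (pieces of helper45's S1158 project): three classes are impossible; two
classes have orders `q ∓ r + 1` and normalisers of index 6.
-/

set_option autoImplicit false

namespace Cfsg.Agent.H19.S8

open Cfsg.Agent.H45.S8

theorem dvd_six_of (a j : ℕ) (ha : 0 < a) (h : a * j ∣ 6 * a) : j ∣ 6 := by
  have h' : a * j ∣ a * 6 := by rw [mul_comm a 6]; exact h
  exact Nat.dvd_of_mul_dvd_mul_left ha h'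

theorem tau_bound (τ a n g : ℕ) (ha : 7 ≤ a) (han : a ∣ n) (hn : n ∣ 6 * a)
    (h : τ * n = g * (a - 1)) : g ≤ 7 * τ := by
  obtain ⟨j, rfl⟩ := han
  have hj6 : j ∣ 6 := dvd_six_of a j (by omega) hn
  have hjle : j ≤ 6 := Nat.le_of_dvd (by norm_num) hj6
  obtain ⟨b, rfl⟩ : ∃ b, a = b + 1 := ⟨a - 1, by omega⟩
  simp only [Nat.add_sub_cancel] at h
  by_contra hlt
  push Not at hlt
  have h1 : (7 * τ + 1) * b ≤ g * b := Nat.mul_le_mul_right b hlt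
  have h2 : τ * ((b + 1) * j) ≤ τ * ((b + 1) * 6) :=
    Nat.mul_le_mul_left τ (Nat.mul_le_mul_left (b + 1) hjle)
  have h3 : τ * 6 ≤ τ * b := Nat.mul_le_mul_left τ (by omega)
  nlinarith

theorem arThree : StArThree := by
  intro m a₁ a₂ a₃ n₁ n₂ n₃ τ₁ τ₂ τ₃ N hm h1 h2 h3 g1 g2 g3 d1 e1 d2 e2 d3 e3 t1 t2 t3 hN hT
  have b1 := tau_bound τ₁ a₁ n₁ (GG m) (seven_le_of_dvd_MM m a₁ h1 g1) d1 e1 t1
  have b2 := tau_bound τ₂ a₂ n₂ (GG m) (seven_le_of_dvd_MM m a₂ h2 g2) d2 e2 t2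
  have b3 := tau_bound τ₃ a₃ n₃ (GG m) (seven_le_of_dvd_MM m a₃ h3 g3) d3 e3 t3
  have h9 : 9 * GG m ≤ 7 * TT m := by omega
  have hz : (9 : ℤ) * (GG m : ℤ) ≤ 7 * (TT m : ℤ) := by exact_mod_cast h9
  rw [GG_int, TT_int] at hz
  have hq := qq_ge m hm
  obtain ⟨Q, hQ⟩ : ∃ Q : ℤ, Q = (qq m : ℤ) := ⟨_, rfl⟩
  rw [← hQ] at hz
  have hQ27 : (27 : ℤ) ≤ Q := by rw [hQ]; exact_mod_cast hq
  have hpos : 0 < Q ^ 3 * (Q - 1) * (Q + 1) * (2 * Q ^ 2 + 5 * Q + 9) := by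
    have p1 : 0 < Q ^ 3 := by positivity
    have p2 : 0 < Q - 1 := by linarith
    have p3 : 0 < Q + 1 := by linarith
    have p4 : 0 < 2 * Q ^ 2 + 5 * Q + 9 := by positivity
    exact mul_pos (mul_pos (mul_pos p1 p2) p3) p4
  have hid : 9 * (Q ^ 3 * (Q - 1) * (Q ^ 3 + 1)) - 7 * (Q ^ 4 * (Q - 1) * (Q - 2) * (Q + 1)) =
      Q ^ 3 * (Q - 1) * (Q + 1) * (2 * Q ^ 2 + 5 * Q + 9) := by ring
  linarith

theorem arTwo : StArTwo := by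
  intro m a₁ a₂ n₁ n₂ τ₁ τ₂ hm hM g1 g2 d1 e1 d2 e2 t1 t2 hT
  have hq := qq_ge m hm
  have ha1 : 7 ≤ a₁ := seven_le_of_dvd_MM m a₁ (Dvd.intro _ hM) g1
  have ha2 : 7 ≤ a₂ := seven_le_of_dvd_MM m a₂ (Dvd.intro_left _ hM) g2
  obtain ⟨j₁, rfl⟩ := d1
  obtain ⟨j₂, rfl⟩ := d2
  have hj1 : j₁ ∣ 6 := dvd_six_of a₁ j₁ (by omega) e1
  have hj2 : j₂ ∣ 6 := dvd_six_of a₂ j₂ (by omega) e2
  have hj1le : j₁ ≤ 6 := Nat.le_of_dvd (by norm_num) hj1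
  have hj2le : j₂ ≤ 6 := Nat.le_of_dvd (by norm_num) hj2
  have hj1pos : 0 < j₁ := Nat.pos_of_dvd_of_pos hj1 (by norm_num)
  have hj2pos : 0 < j₂ := Nat.pos_of_dvd_of_pos hj2 (by norm_num)
  have E1 : (τ₁ : ℤ) * ((a₁ : ℤ) * j₁) = (GG m : ℤ) * ((a₁ : ℤ) - 1) := by
    have h' := congrArg (Nat.cast : ℕ → ℤ) t1
    push_cast [Nat.cast_sub (show 1 ≤ a₁ by omega)] at h'
    exact h'
  have E2 : (τ₂ : ℤ) * ((a₂ : ℤ) * j₂) = (GG m : ℤ) * ((a₂ : ℤ) - 1) := by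
    have h' := congrArg (Nat.cast : ℕ → ℤ) t2
    push_cast [Nat.cast_sub (show 1 ≤ a₂ by omega)] at h'
    exact h'
  have E3 : 3 * ((τ₁ : ℤ) + τ₂) = (TT m : ℤ) := by exact_mod_cast hT
  have EM : (a₁ : ℤ) * a₂ = (MM m : ℤ) := by exact_mod_cast hM
  have ER : ((rr m : ℕ) : ℤ) ^ 2 = 3 * (qq m : ℤ) := by
    have := rr_sq m
    exact_mod_cast this
  have hrq := rr_lt m hm
  rw [GG_int] at E1 E2
  rw [TT_int] at E3
  rw [MM_int] at EM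
  obtain ⟨Q, hQ⟩ : ∃ Q : ℤ, Q = (qq m : ℤ) := ⟨_, rfl⟩
  obtain ⟨R, hR⟩ : ∃ R : ℤ, R = (rr m : ℤ) := ⟨_, rfl⟩
  obtain ⟨A₁, hA₁⟩ : ∃ A : ℤ, A = (a₁ : ℤ) := ⟨_, rfl⟩
  obtain ⟨A₂, hA₂⟩ : ∃ A : ℤ, A = (a₂ : ℤ) := ⟨_, rfl⟩
  rw [← hQ, ← hA₁] at E1
  rw [← hQ, ← hA₂] at E2
  rw [← hQ] at E3
  rw [← hQ, ← hA₁, ← hA₂] at EM
  rw [← hQ, ← hR] at ER
  have hQ27 : (27 : ℤ) ≤ Q := by rw [hQ]; exact_mod_cast hq
  have hA1 : (7 : ℤ) ≤ A₁ := by rw [hA₁]; exact_mod_cast ha1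
  have hA2 : (7 : ℤ) ≤ A₂ := by rw [hA₂]; exact_mod_cast ha2
  have key : 3 * (j₂ : ℤ) * A₂ * (A₁ - 1) + 3 * (j₁ : ℤ) * A₁ * (A₂ - 1) =
      (j₁ : ℤ) * j₂ * Q * (Q - 2) := by
    have hne : A₁ * A₂ * (Q ^ 3 * (Q - 1) * (Q + 1)) ≠ 0 := by
      have p1 : 0 < Q ^ 3 := by positivity
      have p2 : 0 < Q - 1 := by linarith
      have p3 : 0 < Q + 1 := by linarith
      have p4 : 0 < A₁ := by linarith
      have p5 : 0 < A₂ := by linarith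
      exact (mul_pos (mul_pos p4 p5) (mul_pos (mul_pos p1 p2) p3)).ne'
    apply mul_left_cancel₀ hne
    linear_combination (Q ^ 3 * (Q - 1) * (Q + 1) *
        (3 * (j₂ : ℤ) * A₂ * (A₁ - 1) + 3 * (j₁ : ℤ) * A₁ * (A₂ - 1))) * EM -
      3 * (j₂ : ℤ) * A₂ * E1 - 3 * (j₁ : ℤ) * A₁ * E2 + (j₁ : ℤ) * j₂ * A₁ * A₂ * E3
  have hprodA : 0 ≤ (A₁ - 7) * (A₂ - 7) := mul_nonneg (by linarith) (by linarith)
  have hprodQ : 0 ≤ Q * (Q - 27) := mul_nonneg (by linarith) (by linarith)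
  have hd : ∀ j : ℕ, j ∣ 6 → j = 1 ∨ j = 2 ∨ j = 3 ∨ j = 6 := by
    intro j hj
    have hle : j ≤ 6 := Nat.le_of_dvd (by norm_num) hj
    interval_cases j <;> revert hj <;> decide
  have hj66 : j₁ = 6 ∧ j₂ = 6 := by
    rcases hd j₁ hj1 with rfl | rfl | rfl | rfl <;>
      rcases hd j₂ hj2 with rfl | rfl | rfl | rfl <;>
      first
        | exact ⟨rfl, rfl⟩
        | (exfalso; push_cast at key; linarith)
  obtain ⟨rfl, rfl⟩ := hj66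
  push_cast at key
  have hsum : A₁ + A₂ = 2 * Q + 2 := by linarith
  have hprod : (A₁ - A₂ - 2 * R) * (A₁ - A₂ + 2 * R) = 0 := by
    linear_combination (A₁ + A₂ + 2 * Q + 2) * hsum - 4 * EM - 4 * ER
  refine ⟨by ring, by ring, ?_⟩
  rcases mul_eq_zero.mp hprod with h | h
  · right
    have h1 : A₁ = Q + R + 1 := by linarith
    have h2 : A₂ = Q - R + 1 := by linarith
    rw [hA₁, hQ, hR] at h1
    rw [hA₂, hQ, hR] at h2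
    constructor <;> omega
  · left
    have h1 : A₁ = Q - R + 1 := by linarith
    have h2 : A₂ = Q + R + 1 := by linarith
    rw [hA₁, hQ, hR] at h1
    rw [hA₂, hQ, hR] at h2
    constructor <;> omega

example : StArThree := arThree
example : StArTwo := arTwo

end Cfsg.Agent.H19.S8
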