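import Cfsg.Agent.H19.S8ArBase

/-!
# S8-AR5 (piece of helper45's S1158 project): coprimality facts for `q = 3^(2m+1)`,
`M = q² - q + 1`, `k = (q+1)/4`, `(q-1)/2`.
-/

set_option autoImplicit false

namespace Cfsg.Agent.H19.S8

open Cfsg.Agent.H45.S8

theorem cop_succ (a b c : ℕ) (h : a = b * c + 1) : Nat.Coprime a b := by
  apply Nat.coprime_of_dvd'
  intro p _ hpa hpb
  rw [h] at hpa
  exact (Nat.dvd_add_right (Dvd.dvd.mul_right hpb c)).mp hpa

theorem cop_odd (a b c : ℕ) (hodd : a % 2 = 1) (hac : a ∣ c) (h : c = b + 2 ∨ b = c + 2) :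
    Nat.Coprime a b := by
  apply Nat.coprime_of_dvd
  intro p hp hpa hpb
  have hpc : p ∣ c := hpa.trans hac
  have hp2 : p ∣ 2 := by
    rcases h with h | h
    · rw [h] at hpc; exact (Nat.dvd_add_right hpb).mp hpc
    · rw [h] at hpb; exact (Nat.dvd_add_right hpc).mp hpb
  have hp2' : p = 2 := (Nat.prime_dvd_prime_iff_eq hp Nat.prime_two).mp hp2
  subst hp2'
  omega

theorem cop_two (a : ℕ) (h : a % 2 = 1) : Nat.Coprime a 2 := by
  rw [Nat.coprime_comm, Nat.Prime.coprime_iff_not_dvd Nat.prime_two]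
  omega

theorem cop_four (a : ℕ) (h : a % 2 = 1) : Nat.Coprime a 4 := by
  have h2 := (cop_two a h).pow_right 2
  simpa using h2

theorem prime_gt_three (n p : ℕ) (h2 : n % 2 = 1) (h3 : n % 3 = 1) (hp : p.Prime)
    (hpn : p ∣ n) : 3 < p := by
  by_contra hle
  have h2le := hp.two_le
  have hp23 : p = 2 ∨ p = 3 := by omega
  rcases hp23 with rfl | rfl <;> omega

theorem arCop : StArCop := by
  intro m hm
  have hq := qq_ge m hm
  have hq8 := qq_mod8 m
  have hq30 := qq_mod30 m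
  have hM30 := MM_mod30 m
  have hMeq := MM_eq m
  have hMpos : 0 < MM m := by have := MM_pos m; omega
  have hM1lt : 1 < MM m := by have := MM_pos m; omega
  have hMm2 : MM m % 2 = 1 := by omega
  have hMm3 : MM m % 3 = 1 := by omega
  have hGG := GG_eq m
  have hk4 : 4 * kk m = qq m + 1 := by unfold kk; omega
  have hkodd : kk m % 2 = 1 := by omega
  have hk3 : kk m % 3 = 1 := by omega
  have hkpos : 0 < kk m := by omega
  have hk1lt : 1 < kk m := by omega
  have hkdvd : kk m ∣ qq m + 1 := Dvd.intro 4 (by omega)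
  obtain ⟨h, hh⟩ : ∃ h, (qq m - 1) / 2 = h := ⟨_, rfl⟩
  rw [hh]
  have hh2 : 2 * h = qq m - 1 := by omega
  have hhodd : h % 2 = 1 := by omega
  have hh3 : h % 3 = 1 := by omega
  have hhpos : 0 < h := by omega
  have hh1lt : 1 < h := by omega
  have hhdvd : h ∣ qq m - 1 := Dvd.intro_left 2 hh2
  obtain ⟨s, hs⟩ : ∃ s, qq m = s + 2 := ⟨qq m - 2, by omega⟩
  have e1 : qq m - 1 = s + 1 := by omega
  have e2 : qq m - 2 = s := by omega
  have hMs : MM m = s ^ 2 + 3 * s + 3 := by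
    rw [hs] at hMeq
    nlinarith
  have hM1 : MM m = qq m * (qq m - 1) + 1 := by rw [e1, hs, hMs]; ring
  have hM1' : MM m = (qq m - 1) * qq m + 1 := by rw [e1, hs, hMs]; ring
  have hM3 : MM m = (qq m + 1) * (qq m - 2) + 3 := by rw [e2, hs, hMs]; ring
  have cMq : Nat.Coprime (MM m) (qq m) := cop_succ _ _ _ hM1
  have cMq1 : Nat.Coprime (MM m) (qq m - 1) := cop_succ _ _ _ hM1'
  have cMq2 : Nat.Coprime (MM m) (qq m + 1) := by
    apply Nat.coprime_of_dvd
    intro p hp hpM hpq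
    have hp3 : p ∣ 3 := by
      have hpM' := hpM
      rw [hM3] at hpM'
      exact (Nat.dvd_add_right (Dvd.dvd.mul_right hpq _)).mp hpM'
    have hp3' : p = 3 := (Nat.prime_dvd_prime_iff_eq hp Nat.prime_three).mp hp3
    subst hp3'
    clear hM1 hM1' hM3 hMs e1 e2 hs hGG hMeq hh2 hhdvd hkdvd hk4 hq30 hM30 hq8
    omega
  have hsq : qq m ^ 2 - 1 = (qq m - 1) * (qq m + 1) := by
    have e : qq m ^ 2 = (qq m - 1) * (qq m + 1) + 1 := by rw [e1, hs]; ring
    omega
  have cq1q : Nat.Coprime (qq m + 1) (qq m) := cop_succ _ _ 1 (by omega)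
  have cqq1 : Nat.Coprime (qq m) (qq m - 1) := cop_succ _ _ 1 (by omega)
  have ckM : Nat.Coprime (kk m) (MM m) := Nat.Coprime.coprime_dvd_left hkdvd cMq2.symm
  have ckq : Nat.Coprime (kk m) (qq m) := Nat.Coprime.coprime_dvd_left hkdvd cq1q
  have ckq1 : Nat.Coprime (kk m) (qq m - 1) :=
    cop_odd _ _ (qq m + 1) hkodd hkdvd (Or.inl (by omega))
  have chM : Nat.Coprime h (MM m) := Nat.Coprime.coprime_dvd_left hhdvd cMq1.symm
  have chq : Nat.Coprime h (qq m) := Nat.Coprime.coprime_dvd_left hhdvd cqq1.symm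
  have chq1 : Nat.Coprime h (qq m + 1) :=
    cop_odd _ _ (qq m - 1) hhodd hhdvd (Or.inr (by omega))
  have hG2 : GG m = (MM m * qq m ^ 3 * (qq m - 1) * 4) * kk m := by
    rw [hGG, ← hk4]; ring
  have hG3 : GG m = (MM m * qq m ^ 3 * 2 * (qq m + 1)) * h := by
    rw [hGG, ← hh2]; ring
  refine ⟨Dvd.intro _ hGG.symm, ?_, hM1lt, hk4, Nat.odd_iff.mpr hkodd, hk1lt, ckM, ?_, ?_,
    Nat.odd_iff.mpr hhodd, hh2, hh1lt, ?_, ?_, ?_, ?_⟩
  · rw [hGG, Nat.mul_div_cancel_left _ hMpos]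
    exact ((cMq.pow_right 3).mul_right cMq1).mul_right cMq2
  · rw [hG2, Nat.mul_div_cancel _ hkpos]
    exact (((ckM.mul_right (ckq.pow_right 3)).mul_right ckq1).mul_right (cop_four _ hkodd))
  · rw [hsq]
    exact cMq.mul_right (cMq1.mul_right cMq2)
  · rw [hG3, Nat.mul_div_cancel _ hhpos]
    exact (((chM.mul_right (chq.pow_right 3)).mul_right (cop_two _ hhodd)).mul_right chq1)
  · intro p hp hpM
    exact prime_gt_three (MM m) p hMm2 hMm3 hp hpM
  · intro p hp hpk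
    exact prime_gt_three (kk m) p hkodd hk3 hp hpk
  · intro p hp hph
    exact prime_gt_three h p hhodd hh3 hp hph

example : StArCop := arCop

end Cfsg.Agent.H19.S8
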