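import Cfsg.Agent.H45.S8Defs0

/-!
# S1158 (helper45's project): arithmetic of `q = 3^(2m+1)`, `r = 3^(m+1)`, `M = q² - q + 1`.
Base facts for the pieces S8-AR1 ... S8-AR5.
-/

set_option autoImplicit false

namespace Cfsg.Agent.H19.S8

open Cfsg.Agent.H45.S8

theorem qq_succ (m : ℕ) : qq (m + 1) = 9 * qq m := by
  unfold qq
  rw [show 2 * (m + 1) + 1 = (2 * m + 1) + 2 by ring, pow_add]
  norm_num
  ring

theorem qq_pos (m : ℕ) : 3 ≤ qq m := by
  induction m with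
  | zero => unfold qq; norm_num
  | succ n ih => rw [qq_succ]; omega

theorem qq_ge (m : ℕ) (hm : 1 ≤ m) : 27 ≤ qq m := by
  obtain ⟨n, rfl⟩ : ∃ n, m = n + 1 := ⟨m - 1, by omega⟩
  rw [qq_succ]
  have := qq_pos n
  omega

theorem qq_mod30 (m : ℕ) : qq m % 30 = 3 ∨ qq m % 30 = 27 := by
  induction m with
  | zero => left; unfold qq; norm_num
  | succ n ih => rw [qq_succ]; omega

theorem qq_mod8 (m : ℕ) : qq m % 8 = 3 := by
  induction m with
  | zero => unfold qq; norm_num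
  | succ n ih => rw [qq_succ]; omega

theorem rr_sq (m : ℕ) : rr m ^ 2 = 3 * qq m := by
  unfold rr qq
  rw [← pow_mul, show (m + 1) * 2 = (2 * m + 1) + 1 by ring, pow_succ]
  ring

theorem rr_lt (m : ℕ) (hm : 1 ≤ m) : rr m + 1 ≤ qq m := by
  unfold rr qq
  exact Nat.pow_lt_pow_right (by norm_num) (by omega)

theorem rr_pos (m : ℕ) : 1 ≤ rr m := by
  unfold rr
  exact Nat.one_le_pow _ _ (by norm_num)

theorem qq_le_sq (m : ℕ) : qq m ≤ qq m ^ 2 := Nat.le_self_pow (by norm_num) _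

theorem MM_eq (m : ℕ) : MM m + qq m = qq m ^ 2 + 1 := by
  have := qq_le_sq m
  unfold MM
  omega

theorem MM_mod30 (m : ℕ) : MM m % 30 = 7 ∨ MM m % 30 = 13 := by
  have h1 := MM_eq m
  have h2 : qq m ^ 2 % 30 = 9 := by
    rw [Nat.pow_mod]
    rcases qq_mod30 m with h | h <;> rw [h]
  rcases qq_mod30 m with h | h <;> omega

theorem MM_pos (m : ℕ) : 7 ≤ MM m := by
  have h1 := MM_eq m
  have h2 := qq_pos m
  nlinarith

theorem seven_le_of_dvd_MM (m a : ℕ) (ha : a ∣ MM m) (h1 : 1 < a) : 7 ≤ a := by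
  by_contra hlt
  have h30 := MM_mod30 m
  have ha6 : a ≤ 6 := by omega
  obtain ⟨c, hc⟩ := ha
  interval_cases a <;> omega

theorem MM_int (m : ℕ) : (MM m : ℤ) = (qq m : ℤ) ^ 2 - (qq m : ℤ) + 1 := by
  have h := MM_eq m
  have h' : ((MM m + qq m : ℕ) : ℤ) = ((qq m ^ 2 + 1 : ℕ) : ℤ) := by rw [h]
  push_cast at h'
  linarith

theorem GG_int (m : ℕ) : (GG m : ℤ) =
    (qq m : ℤ) ^ 3 * ((qq m : ℤ) - 1) * ((qq m : ℤ) ^ 3 + 1) := by
  have h1 : 1 ≤ qq m := by have := qq_pos m; omega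
  unfold GG
  push_cast [Nat.cast_sub h1]
  ring

theorem TT_int (m : ℕ) : (TT m : ℤ) =
    (qq m : ℤ) ^ 4 * ((qq m : ℤ) - 1) * ((qq m : ℤ) - 2) * ((qq m : ℤ) + 1) := by
  have h1 : 1 ≤ qq m := by have := qq_pos m; omega
  have h2 : 2 ≤ qq m := by have := qq_pos m; omega
  unfold TT
  push_cast [Nat.cast_sub h1, Nat.cast_sub h2]
  ring

theorem GG_eq (m : ℕ) : GG m = MM m * (qq m ^ 3 * (qq m - 1) * (qq m + 1)) := by
  have h1 : 1 ≤ qq m := by have := qq_pos m; omega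
  have hz : ((GG m : ℕ) : ℤ) = ((MM m * (qq m ^ 3 * (qq m - 1) * (qq m + 1)) : ℕ) : ℤ) := by
    rw [GG_int]
    push_cast [Nat.cast_sub h1]
    rw [MM_int]
    ring
  exact_mod_cast hz

theorem MM_factor (m : ℕ) (hm : 1 ≤ m) :
    MM m = (qq m + rr m + 1) * (qq m - rr m + 1) := by
  have h1 : rr m ≤ qq m := by have := rr_lt m hm; omega
  have h2 : ((rr m : ℕ) : ℤ) ^ 2 = 3 * (qq m : ℤ) := by
    have := rr_sq m
    exact_mod_cast this
  have hz : ((MM m : ℕ) : ℤ) = (((qq m + rr m + 1) * (qq m - rr m + 1) : ℕ) : ℤ) := by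
    rw [MM_int]
    push_cast [Nat.cast_sub h1]
    linear_combination h2
  exact_mod_cast hz

end Cfsg.Agent.H19.S8
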