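import Mathlib

/-!
# helper19: fixed point counting for (doubly) transitive actions

* `sum_card_fixedBy` : Burnside's lemma with `Nat.card`
* `card_fixedBy_prod` : `|Fix_{Ω×Ω}(g)| = |Fix_Ω(g)|^2`
* `card_orbits_of_pretransitive` : a transitive action on a nonempty set has one orbit
* `card_orbits_prod_of_two_pretransitive` : a 2-transitive action has two orbits on `Ω × Ω`
* `sum_card_fixedBy_of_pretransitive`, `sum_card_fixedBy_sq_of_two_pretransitive`
* `card_eq_of_two_pretransitive` : `|G| = (n * n - n) * |G_a ⊓ G_b|`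
-/

set_option autoImplicit false
set_option linter.style.haveILetI false

namespace Cfsg.Agent.H19

open MulAction

variable {G Ω : Type*} [Group G] [MulAction G Ω]

/-- Burnside's lemma, `Nat.card` form. -/
theorem sum_card_fixedBy (G Ω : Type*) [Group G] [MulAction G Ω] [Fintype G] [Finite Ω] :
    ∑ g : G, Nat.card (fixedBy Ω g) = Nat.card (Quotient (orbitRel G Ω)) * Nat.card G := by
  classical
  haveI : Fintype Ω := Fintype.ofFinite Ω
  haveI : ∀ g : G, Fintype (fixedBy Ω g) := fun g => Fintype.ofFinite _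
  haveI : Fintype (Quotient (orbitRel G Ω)) := Fintype.ofFinite _
  have h := MulAction.sum_card_fixedBy_eq_card_orbits_mul_card_group G Ω
  rw [Nat.card_eq_fintype_card, Nat.card_eq_fintype_card, ← h]
  apply Finset.sum_congr rfl
  intro g _
  rw [Nat.card_eq_fintype_card]

theorem card_fixedBy_prod (g : G) :
    Nat.card (fixedBy (Ω × Ω) g) = Nat.card (fixedBy Ω g) ^ 2 := by
  rw [pow_two, ← Nat.card_prod]
  apply Nat.card_congr
  refine ⟨fun p => (⟨p.1.1, ?_⟩, ⟨p.1.2, ?_⟩), fun q => ⟨(q.1.1, q.2.1), ?_⟩, ?_, ?_⟩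
  · have := p.2
    rw [mem_fixedBy, Prod.smul_def] at this
    exact congrArg Prod.fst this
  · have := p.2
    rw [mem_fixedBy, Prod.smul_def] at this
    exact congrArg Prod.snd this
  · rw [mem_fixedBy, Prod.smul_mk]
    have h1 := q.1.2
    have h2 := q.2.2
    rw [mem_fixedBy] at h1 h2
    rw [h1, h2]
  · intro p; rfl
  · intro q; rfl

theorem card_orbits_of_pretransitive [Nonempty Ω] [IsPretransitive G Ω] :
    Nat.card (Quotient (orbitRel G Ω)) = 1 := by
  haveI : Subsingleton (Quotient (orbitRel G Ω)) :=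
    (MulAction.pretransitive_iff_subsingleton_quotient G Ω).mp inferInstance
  haveI : Nonempty (Quotient (orbitRel G Ω)) := ⟨Quotient.mk _ (Classical.arbitrary Ω)⟩
  exact Nat.card_of_subsingleton (Classical.arbitrary _)

theorem card_orbits_prod_of_two_pretransitive (h2 : IsMultiplyPretransitive G Ω 2) {a b : Ω}
    (hab : a ≠ b) : Nat.card (Quotient (orbitRel G (Ω × Ω))) = 2 := by
  classical
  have h2t : ∀ {a b c d : Ω}, a ≠ b → c ≠ d → ∃ g : G, g • a = c ∧ g • b = d :=
    (MulAction.is_two_pretransitive_iff (G := G) (α := Ω)).mp h2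
  have h1t : ∀ c d : Ω, ∃ g : G, g • c = d := by
    intro c d
    by_cases hcd : c = d
    · exact ⟨1, by rw [one_smul, hcd]⟩
    · have hc' : ∃ c' : Ω, c ≠ c' := ⟨d, hcd⟩
      have hd' : ∃ d' : Ω, d ≠ d' := ⟨c, fun h => hcd h.symm⟩
      obtain ⟨c', hc'⟩ := hc'
      obtain ⟨d', hd'⟩ := hd'
      obtain ⟨g, hg, -⟩ := h2t hc' hd'
      exact ⟨g, hg⟩
  let f : Quotient (orbitRel G (Ω × Ω)) → Bool :=
    Quotient.lift (fun p : Ω × Ω => decide (p.1 = p.2)) (by
      intro p q hpq
      change p ∈ orbit G q at hpq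
      obtain ⟨g, rfl⟩ := hpq
      simp only [Prod.smul_fst, Prod.smul_snd, decide_eq_decide]
      exact ⟨fun h => smul_left_cancel g h, fun h => by rw [h]⟩)
  have hf : Function.Bijective f := by
    constructor
    · intro x y
      induction x using Quotient.inductionOn with
      | _ p =>
      induction y using Quotient.inductionOn with
      | _ q =>
      intro hxy
      change decide (p.1 = p.2) = decide (q.1 = q.2) at hxy
      rw [decide_eq_decide] at hxy
      apply Quotient.sound
      change p ∈ orbit G q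
      obtain ⟨p1, p2⟩ := p
      obtain ⟨q1, q2⟩ := q
      simp only at hxy
      by_cases hq : q1 = q2
      · have hp : p1 = p2 := hxy.mpr hq
        subst hq hp
        obtain ⟨g, hg⟩ := h1t q1 p1
        exact ⟨g, by
          change g • (q1, q1) = (p1, p1)
          rw [Prod.smul_mk, hg]⟩
      · have hp : p1 ≠ p2 := fun h => hq (hxy.mp h)
        obtain ⟨g, hg1, hg2⟩ := h2t hq hp
        exact ⟨g, by
          change g • (q1, q2) = (p1, p2)
          rw [Prod.smul_mk, hg1, hg2]⟩
    · intro t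
      cases t
      · exact ⟨Quotient.mk _ (a, b), by simp [f, hab]⟩
      · exact ⟨Quotient.mk _ (a, a), by simp [f]⟩
  rw [Nat.card_congr (Equiv.ofBijective f hf), Nat.card_eq_fintype_card, Fintype.card_bool]

theorem sum_card_fixedBy_of_pretransitive [Fintype G] [Finite Ω] [Nonempty Ω]
    [IsPretransitive G Ω] : ∑ g : G, Nat.card (fixedBy Ω g) = Nat.card G := by
  rw [sum_card_fixedBy, card_orbits_of_pretransitive, one_mul]

theorem sum_card_fixedBy_sq_of_two_pretransitive [Fintype G] [Finite Ω]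
    (h2 : IsMultiplyPretransitive G Ω 2) {a b : Ω} (hab : a ≠ b) :
    ∑ g : G, Nat.card (fixedBy Ω g) ^ 2 = 2 * Nat.card G := by
  have h := sum_card_fixedBy G (Ω × Ω)
  rw [card_orbits_prod_of_two_pretransitive h2 hab] at h
  rw [← h]
  apply Finset.sum_congr rfl
  intro g _
  rw [card_fixedBy_prod]

theorem stabilizer_prod_mk (a b : Ω) :
    stabilizer G ((a, b) : Ω × Ω) = stabilizer G a ⊓ stabilizer G b := by
  ext g
  rw [Subgroup.mem_inf, mem_stabilizer_iff, mem_stabilizer_iff, mem_stabilizer_iff, Prod.smul_mk,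
    Prod.mk.injEq]

/-- `|G| = n (n - 1) |G_{ab}|` for a doubly transitive group. -/
theorem card_eq_of_two_pretransitive [Finite G] [Finite Ω]
    (h2 : IsMultiplyPretransitive G Ω 2) {a b : Ω} (hab : a ≠ b) :
    Nat.card G = (Nat.card Ω * Nat.card Ω - Nat.card Ω) *
      Nat.card (stabilizer G a ⊓ stabilizer G b : Subgroup G) := by
  classical
  haveI : Fintype Ω := Fintype.ofFinite Ω
  have h2t : ∀ {a b c d : Ω}, a ≠ b → c ≠ d → ∃ g : G, g • a = c ∧ g • b = d :=
    (MulAction.is_two_pretransitive_iff (G := G) (α := Ω)).mp h2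
  have horb : orbit G ((a, b) : Ω × Ω) = {p : Ω × Ω | p.1 ≠ p.2} := by
    ext p
    constructor
    · rintro ⟨g, rfl⟩
      exact fun h => hab (smul_left_cancel g h)
    · intro hp
      obtain ⟨g, hg1, hg2⟩ := h2t hab hp
      exact ⟨g, by
        change g • (a, b) = p
        rw [Prod.smul_mk, hg1, hg2]⟩
  have hcard : Nat.card (orbit G ((a, b) : Ω × Ω)) = Nat.card Ω * Nat.card Ω - Nat.card Ω := by
    rw [horb, Nat.card_eq_fintype_card (α := Ω), ← Finset.card_univ (α := Ω), ← Finset.offDiag_card,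
      ← Nat.card_eq_finsetCard]
    apply Nat.card_congr
    apply Equiv.subtypeEquivRight
    intro p
    simp
  rw [← stabilizer_prod_mk, ← hcard]
  haveI : Fintype G := Fintype.ofFinite G
  haveI : Fintype (orbit G ((a, b) : Ω × Ω)) := Fintype.ofFinite _
  haveI : Fintype (stabilizer G ((a, b) : Ω × Ω)) := Fintype.ofFinite _
  have := MulAction.card_orbit_mul_card_stabilizer_eq_card_group G ((a, b) : Ω × Ω)
  rw [Nat.card_eq_fintype_card, Nat.card_eq_fintype_card, Nat.card_eq_fintype_card, this]

end Cfsg.Agent.H19
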