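import Mathlib
import Cfsg.Agent.H60.Sharp3Mob

/-!
# Identification with `PGL(2, K)` from coordinates; `PSL` under ring isomorphisms (helper19)

* `pgl_of_coords` : a group acting faithfully on `Ω = {a} ∪ pt(K)` whose point stabilizer `G_a` is
  the group of all affine maps `x ↦ ρ x + β` and which contains `t : a ↔ pt 0`, `pt x ↦ pt x⁻¹`
  is isomorphic to `PGL(2, K)`;
* `psl_mulEquiv_of_ringEquiv` : `PSL(n, K) ≃* PSL(n, L)` for isomorphic rings.
-/

set_option autoImplicit false
set_option linter.style.haveILetI false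
set_option linter.unusedSectionVars false

namespace Cfsg.Agent.H19

open Matrix OnePoint

theorem pgl_of_coords {K : Type*} [Field K] [DecidableEq K] {G : Type*} [Group G] {Ω : Type*}
    [MulAction G Ω] [FaithfulSMul G Ω]
    (a : Ω) (pt : K → Ω) (hinj : Function.Injective pt) (hne : ∀ x, pt x ≠ a)
    (hsurj : ∀ c, c ≠ a → ∃ x, pt x = c)
    (hAff : ∀ ρ β : K, ρ ≠ 0 → ∃ g : G, g • a = a ∧ ∀ x, g • pt x = pt (ρ * x + β))
    (hA : ∀ g : G, g • a = a → ∃ ρ β : K, ρ ≠ 0 ∧ ∀ x, g • pt x = pt (ρ * x + β))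
    (t : G) (hta : t • a = pt 0) (ht0 : t • pt 0 = a)
    (ht : ∀ x, x ≠ 0 → t • pt x = pt x⁻¹) :
    Nonempty (G ≃* Matrix.ProjGenLinGroup (Fin 2) K) := by
  classical
  let f : OnePoint K → Ω := fun P => Option.elim P a pt
  have hfbij : Function.Bijective f := by
    constructor
    · intro P Q hPQ
      induction P using OnePoint.rec with
      | infty =>
        induction Q using OnePoint.rec with
        | infty => rfl
        | coe y => exact absurd hPQ.symm (hne y)
      | coe x =>
        induction Q using OnePoint.rec with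
        | infty => exact absurd hPQ (hne x)
        | coe y =>
          have h1 : pt x = pt y := hPQ
          rw [hinj h1]
    · intro c
      by_cases hc : c = a
      · exact ⟨∞, hc.symm⟩
      · obtain ⟨x, hx⟩ := hsurj c hc
        exact ⟨(x : OnePoint K), hx⟩
  let ι : OnePoint K ≃ Ω := Equiv.ofBijective f hfbij
  have hιinf : ι ∞ = a := rfl
  have hιc : ∀ x : K, ι (x : OnePoint K) = pt x := fun x => rfl
  let Θ : G →* Equiv.Perm Ω := MulAction.toPermHom G Ω
  have hΘinj : Function.Injective Θ := MulAction.toPerm_injective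
  let Φ : G →* Equiv.Perm (OnePoint K) := (ι.symm.permCongrHom.toMonoidHom).comp Θ
  have hΦinj : Function.Injective Φ := fun g g' h => hΘinj (ι.symm.permCongrHom.injective h)
  have hΦ : ∀ (g : G) (P : OnePoint K), Φ g P = ι.symm (g • ι P) := fun g P => rfl
  have hΦinf : ∀ g : G, g • a = a → Φ g ∞ = ∞ := by
    intro g hg
    rw [hΦ, hιinf, hg, ← hιinf, ι.symm_apply_apply]
  have hΦc : ∀ (g : G) (x y : K), g • pt x = pt y → Φ g (x : OnePoint K) = (y : OnePoint K) := by
    intro g x y hg
    rw [hΦ, hιc, hg, ← hιc, ι.symm_apply_apply]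
  have hrange : Φ.range = Cfsg.Agent.H60.mobGroup K := by
    apply Cfsg.Agent.H60.mob_eq
    · intro ρ β hρ
      obtain ⟨g, hga, hg⟩ := hAff ρ β hρ
      exact ⟨Φ g, ⟨g, rfl⟩, hΦinf g hga, fun x => hΦc g x _ (hg x)⟩
    · rintro _ ⟨g, rfl⟩ hg
      have hga : g • a = a := by
        rw [hΦ, hιinf] at hg
        have h1 := congrArg ι hg
        rw [ι.apply_symm_apply, hιinf] at h1
        exact h1
      obtain ⟨ρ, β, hρ, hgx⟩ := hA g hga
      exact ⟨ρ, β, hρ, fun x => hΦc g x _ (hgx x)⟩
    · refine ⟨Φ t, ⟨t, rfl⟩, ?_, ?_, ?_⟩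
      · rw [hΦ, hιinf, hta, ← hιc, ι.symm_apply_apply]
      · rw [hΦ, hιc, ht0, ← hιinf, ι.symm_apply_apply]
      · intro x hx
        exact hΦc t x _ (ht x hx)
  obtain ⟨e⟩ := Cfsg.Agent.H60.nonempty_mobGroup_mulEquiv_pgl (K := K)
  exact ⟨(MonoidHom.ofInjective hΦinj).trans ((MulEquiv.subgroupCongr hrange).trans e)⟩

theorem psl_mulEquiv_of_ringEquiv {n : Type*} [DecidableEq n] [Fintype n] {K L : Type*}
    [CommRing K] [CommRing L] (e : K ≃+* L) :
    Nonempty (Matrix.ProjectiveSpecialLinearGroup n K ≃*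
      Matrix.ProjectiveSpecialLinearGroup n L) := by
  let f : SpecialLinearGroup n K →* SpecialLinearGroup n L :=
    SpecialLinearGroup.map (e : K →+* L)
  let g : SpecialLinearGroup n L →* SpecialLinearGroup n K :=
    SpecialLinearGroup.map (e.symm : L →+* K)
  have hfg : ∀ x, f (g x) = x := by
    intro x
    apply Subtype.ext
    ext i j
    change e (e.symm (x.1 i j)) = x.1 i j
    exact e.apply_symm_apply _
  have hgf : ∀ x, g (f x) = x := by
    intro x
    apply Subtype.ext
    ext i j
    change e.symm (e (x.1 i j)) = x.1 i j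
    exact e.symm_apply_apply _
  let E : SpecialLinearGroup n K ≃* SpecialLinearGroup n L :=
    { toFun := f, invFun := g, left_inv := hgf, right_inv := hfg, map_mul' := f.map_mul }
  have hE : ∀ x, E x = f x := fun x => rfl
  have hEs : ∀ x, E.symm x = g x := fun x => rfl
  refine ⟨QuotientGroup.congr _ _ E ?_⟩
  ext x
  rw [Subgroup.mem_map, Subgroup.mem_center_iff]
  constructor
  · rintro ⟨y, hy, rfl⟩ z
    rw [Subgroup.mem_center_iff] at hy
    have h1 := hy (E.symm z)
    have h2 := congrArg E h1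
    rw [map_mul, map_mul, E.apply_symm_apply] at h2
    exact h2
  · intro hx
    refine ⟨E.symm x, ?_, E.apply_symm_apply x⟩
    rw [Subgroup.mem_center_iff]
    intro z
    have h1 := hx (E z)
    have h2 := congrArg E.symm h1
    rw [map_mul, map_mul, E.symm_apply_apply] at h2
    exact h2

end Cfsg.Agent.H19
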