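import Mathlib
import Cfsg.Agent.H19.ZP1

/-!
# Sharply 3-transitive groups of degree `p + 1` are `PGL(2, p)` (helper19)

`pgl_prime_id` : a group acting faithfully on `Ω` with trivial three-point stabilizers, containing
an element `u` of prime order `p` fixing `a`, with `⟨u⟩` transitive on `Ω ∖ {a}` and normalized by
`G_a`, such that `G_ab` is transitive on `Ω ∖ {a, b}`, and an element swapping `a` and `b`, is
isomorphic to `PGL(2, ZMod p)`.
-/

set_option autoImplicit false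
set_option linter.style.haveILetI false
set_option linter.unusedSectionVars false

namespace Cfsg.Agent.H19

open MulAction

section PW

variable {G : Type*} [Group G] {p : ℕ} [Fact p.Prime]

/-- `u ^ x` for `x : ZMod p`. -/
def zpw (u : G) (x : ZMod p) : G := u ^ x.val

theorem zpw_add {u : G} (hu : orderOf u = p) (x y : ZMod p) :
    zpw u (x + y) = zpw u x * zpw u y := by
  unfold zpw
  have h := pow_mod_orderOf u (x.val + y.val)
  rw [hu] at h
  rw [ZMod.val_add, h, pow_add]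

theorem zpw_zero (u : G) : zpw u (0 : ZMod p) = 1 := by
  unfold zpw
  rw [ZMod.val_zero, pow_zero]

theorem zpw_natCast {u : G} (hu : orderOf u = p) (n : ℕ) : zpw u ((n : ZMod p)) = u ^ n := by
  unfold zpw
  rw [ZMod.val_natCast]
  have h := pow_mod_orderOf u n
  rw [hu] at h
  exact h

theorem zpw_one {u : G} (hu : orderOf u = p) : zpw u (1 : ZMod p) = u := by
  have h := zpw_natCast hu 1
  rwa [Nat.cast_one, pow_one] at h

theorem zpw_eq_one {u : G} (hu : orderOf u = p) {x : ZMod p} (h : zpw u x = 1) : x = 0 := by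
  unfold zpw at h
  have h1 : orderOf u ∣ x.val := orderOf_dvd_of_pow_eq_one h
  rw [hu] at h1
  have h2 : x.val < p := ZMod.val_lt x
  have h3 : x.val = 0 := Nat.eq_zero_of_dvd_of_lt h1 h2
  exact (ZMod.val_eq_zero x).mp h3

theorem zpw_mul_natCast {u : G} (hu : orderOf u = p) (n : ℕ) (x : ZMod p) :
    zpw u ((n : ZMod p) * x) = (zpw u x) ^ n := by
  have h1 : (n : ZMod p) * x = ((n * x.val : ℕ) : ZMod p) := by
    rw [Nat.cast_mul, ZMod.natCast_zmod_val]
  rw [h1, zpw_natCast hu]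
  unfold zpw
  rw [mul_comm, pow_mul]

theorem zpw_mul {u : G} (hu : orderOf u = p) (x y : ZMod p) :
    zpw u (x * y) = (zpw u y) ^ x.val := by
  have h := zpw_mul_natCast hu x.val y
  rwa [ZMod.natCast_zmod_val] at h

theorem zpw_neg {u : G} (hu : orderOf u = p) (x : ZMod p) : zpw u (-x) = (zpw u x)⁻¹ := by
  rw [eq_inv_iff_mul_eq_one, ← zpw_add hu, neg_add_cancel, zpw_zero]

theorem zpw_conj {u g : G} (hu : orderOf u = p) (k : ℕ) (hg : g * u * g⁻¹ = u ^ k) (x : ZMod p) :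
    g * zpw u x * g⁻¹ = zpw u ((k : ZMod p) * x) := by
  rw [zpw_mul_natCast hu]
  unfold zpw
  rw [← pow_mul, mul_comm, pow_mul, ← hg, conj_pow]

end PW

set_option maxHeartbeats 1000000 in
theorem pgl_prime_id {G : Type*} [Group G] {Ω : Type*} [MulAction G Ω] [FaithfulSMul G Ω]
    {p : ℕ} [Fact p.Prime]
    (h3 : ∀ g : G, ∀ x y z : Ω, x ≠ y → y ≠ z → x ≠ z → g • x = x → g • y = y → g • z = z → g = 1)
    {a b : Ω} (hab : a ≠ b)
    (u : G) (hu : orderOf u = p) (hua : u • a = a)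
    (hreg : ∀ c : Ω, c ≠ a → ∃ k : ℕ, u ^ k • b = c)
    (hnorm : ∀ g : G, g • a = a → ∃ k : ℕ, g * u * g⁻¹ = u ^ k)
    (htr : ∀ c : Ω, c ≠ a → c ≠ b → ∃ h : G, h • a = a ∧ h • b = b ∧ h • (u • b) = c)
    (t : G) (hta : t • a = b) (htb : t • b = a) :
    Nonempty (G ≃* Matrix.ProjGenLinGroup (Fin 2) (ZMod p)) := by
  classical
  have hp : p.Prime := Fact.out
  have hba : b ≠ a := hab.symm
  have hupow : ∀ n : ℕ, u ^ n • a = a := by
    intro n
    induction n with
    | zero => rw [pow_zero, one_smul]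
    | succ n ih => rw [pow_succ, mul_smul, hua, ih]
  have hpwa : ∀ x : ZMod p, zpw u x • a = a := fun x => hupow _
  have hu1 : u ≠ 1 := by
    rintro rfl
    rw [orderOf_one] at hu
    exact hp.one_lt.ne hu
  obtain ⟨pt, hptdef⟩ : ∃ pt : ZMod p → Ω, pt = fun x => zpw u x • b := ⟨_, rfl⟩
  have hpt : ∀ x, pt x = zpw u x • b := fun x => by rw [hptdef]
  have hpt0 : pt 0 = b := by rw [hpt, zpw_zero, one_smul]
  have hne : ∀ x, pt x ≠ a := by
    intro x h
    rw [hpt] at h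
    have h1 : zpw u x • b = zpw u x • a := by rw [h, hpwa]
    exact hba (smul_left_cancel _ h1)
  have hsurj : ∀ c, c ≠ a → ∃ x, pt x = c := by
    intro c hc
    obtain ⟨k, hk⟩ := hreg c hc
    exact ⟨(k : ZMod p), by rw [hpt, zpw_natCast hu, hk]⟩
  have hT : ∀ β x : ZMod p, zpw u β • pt x = pt (x + β) := by
    intro β x
    rw [hpt, hpt, ← mul_smul, ← zpw_add hu, add_comm]
  have hpt1 : pt 1 = u • b := by rw [hpt, zpw_one hu]
  have hsemi : ∀ x : ZMod p, zpw u x • b = b → x = 0 := by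
    intro x hx
    by_contra hx0
    have hall : ∀ y : ZMod p, pt y = b := by
      intro y
      have h1 : y = (y * x⁻¹) * x := by rw [mul_assoc, inv_mul_cancel₀ hx0, mul_one]
      rw [hpt, h1, zpw_mul hu]
      generalize (y * x⁻¹).val = n
      induction n with
      | zero => rw [pow_zero, one_smul]
      | succ n ih => rw [pow_succ, mul_smul, hx, ih]
    apply hu1
    apply FaithfulSMul.eq_of_smul_eq_smul (α := Ω)
    intro c
    rw [one_smul]
    by_cases hc : c = a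
    · rw [hc, hua]
    · obtain ⟨y, hy⟩ := hsurj c hc
      rw [← hy, hall y, ← hpt1, hall 1]
  have hinj : Function.Injective pt := by
    intro x y hxy
    have h1 : zpw u (x - y) • b = b := by
      have h2 : zpw u (-y) • pt x = zpw u (-y) • pt y := by rw [hxy]
      rw [hT, hT, add_neg_cancel, hpt0, ← sub_eq_add_neg, hpt] at h2
      exact h2
    exact sub_eq_zero.mp (hsemi _ h1)
  have hA : ∀ g : G, g • a = a → ∃ ρ β : ZMod p, ρ ≠ 0 ∧ ∀ x, g • pt x = pt (ρ * x + β) := by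
    intro g hg
    obtain ⟨k, hk⟩ := hnorm g hg
    have hgb : g • b ≠ a := by
      intro h
      have h1 : g • b = g • a := by rw [h, hg]
      exact hba (smul_left_cancel g h1)
    obtain ⟨β, hβ⟩ := hsurj _ hgb
    have hgx : ∀ x, g • pt x = pt ((k : ZMod p) * x + β) := by
      intro x
      have h1 : g • zpw u x • b = (g * zpw u x * g⁻¹) • g • b := by
        rw [← mul_smul, ← mul_smul, inv_mul_cancel_right]
      rw [hpt x, h1, zpw_conj hu k hk, ← hβ, hT, add_comm]
    refine ⟨(k : ZMod p), β, ?_, hgx⟩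
    intro hk0
    have h1 := hgx 0
    have h2 := hgx 1
    rw [hk0, zero_mul] at h1 h2
    have h4 := hinj (smul_left_cancel g (h2.trans h1.symm))
    exact one_ne_zero h4
  have hM : ∀ ρ : ZMod p, ρ ≠ 0 →
      ∃ h : G, h • a = a ∧ h • b = b ∧ ∀ x, h • pt x = pt (ρ * x) := by
    intro ρ hρ
    have hc1 : pt ρ ≠ b := by
      rw [← hpt0]
      exact fun h => hρ (hinj h)
    obtain ⟨h, hha, hhb, hh1⟩ := htr (pt ρ) (hne ρ) hc1
    obtain ⟨ρ', β', hρ', hx⟩ := hA h hha
    have e0 := hx 0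
    rw [mul_zero, zero_add, hpt0, hhb, ← hpt0] at e0
    have hβ' : β' = 0 := (hinj e0).symm
    have e1 := hx 1
    rw [mul_one, hβ', add_zero, hpt1, hh1] at e1
    have hρρ : ρ' = ρ := (hinj e1).symm
    refine ⟨h, hha, hhb, fun x => ?_⟩
    rw [hx, hβ', add_zero, hρρ]
  have hAff : ∀ ρ β : ZMod p, ρ ≠ 0 → ∃ g : G, g • a = a ∧ ∀ x, g • pt x = pt (ρ * x + β) := by
    intro ρ β hρ
    obtain ⟨h, hha, -, hh⟩ := hM ρ hρ
    refine ⟨zpw u β * h, by rw [mul_smul, hha, hpwa], fun x => ?_⟩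
    rw [mul_smul, hh, hT]
  have h10 : (1 : ZMod p) ≠ 0 := one_ne_zero
  have hm1 : (-1 : ZMod p) ≠ 0 := neg_ne_zero.mpr one_ne_zero
  -- an element swapping `a`, `b` and fixing `pt 1`
  obtain ⟨s, hsa, hsb, hs1⟩ : ∃ s : G, s • a = b ∧ s • b = a ∧ s • pt 1 = pt 1 := by
    have h1 : t⁻¹ • pt 1 ≠ a := by
      intro h
      rw [inv_smul_eq_iff, hta, ← hpt0] at h
      exact h10 (hinj h)
    obtain ⟨ρ₀, hρ₀⟩ := hsurj _ h1
    have hρ₀0 : ρ₀ ≠ 0 := by
      rintro rfl
      rw [hpt0, eq_inv_smul_iff, htb] at hρ₀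
      exact hne 1 hρ₀.symm
    obtain ⟨h, hha, hhb, hh⟩ := hM ρ₀ hρ₀0
    refine ⟨t * h, by rw [mul_smul, hha, hta], by rw [mul_smul, hhb, htb], ?_⟩
    rw [mul_smul, hh, mul_one, hρ₀, smul_inv_smul]
  have hss : s * s = 1 := by
    refine h3 _ a b (pt 1) hab ?_ (Ne.symm (hne 1)) ?_ ?_ ?_
    · rw [← hpt0]
      exact fun h => h10 (hinj h).symm
    · rw [mul_smul, hsa, hsb]
    · rw [mul_smul, hsb, hsa]
    · rw [mul_smul, hs1, hs1]
  have hs_pt : ∀ x : ZMod p, x ≠ 0 → ∃ y : ZMod p, y ≠ 0 ∧ s • pt x = pt y := by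
    intro x hx
    have h1 : s • pt x ≠ a := by
      intro h
      have h2 : pt x = pt 0 := by
        rw [hpt0, ← hsa, ← h, ← mul_smul, hss, one_smul]
      exact hx (hinj h2)
    obtain ⟨y, hy⟩ := hsurj _ h1
    refine ⟨y, ?_, hy.symm⟩
    rintro rfl
    rw [hpt0, ← hsa] at hy
    exact hne x (smul_left_cancel s hy).symm
  choose! τ hτ0 hτ using hs_pt
  have hτinv : ∀ x, x ≠ 0 → τ (τ x) = x := by
    intro x hx
    apply hinj
    rw [← hτ (τ x) (hτ0 x hx), ← hτ x hx, ← mul_smul, hss, one_smul]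
  have hτ1 : τ 1 = 1 := hinj (by rw [← hτ 1 h10, hs1])
  have hτmul : ∀ ρ x : ZMod p, ρ ≠ 0 → x ≠ 0 → τ (ρ * x) = τ ρ * τ x := by
    intro ρ x hρ hx
    obtain ⟨h, hha, hhb, hh⟩ := hM ρ hρ
    have hga : (s * h * s) • a = a := by rw [mul_smul, mul_smul, hsa, hhb, hsb]
    obtain ⟨ρ', β', hρ', hgx⟩ := hA _ hga
    have e0 := hgx 0
    rw [mul_zero, zero_add, mul_smul, mul_smul, hpt0, hsb, hha, hsa, ← hpt0] at e0
    have hβ' : β' = 0 := (hinj e0).symm
    have key : ∀ y, y ≠ 0 → τ (ρ * τ y) = ρ' * y := by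
      intro y hy
      have e := hgx y
      rw [mul_smul, mul_smul, hτ y hy, hh, hτ _ (mul_ne_zero hρ (hτ0 y hy)), hβ', add_zero] at e
      exact hinj e
    have e1 := key 1 h10
    rw [hτ1, mul_one, mul_one] at e1
    have e2 := key (τ x) (hτ0 x hx)
    rw [hτinv x hx, ← e1] at e2
    exact e2
  have hτneg1 : τ (-1) = -1 := by
    have h1 : τ (-1) * τ (-1) = 1 := by
      rw [← hτmul _ _ hm1 hm1, neg_mul_neg, mul_one, hτ1]
    rcases mul_self_eq_one_iff.mp h1 with h | h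
    · have h2 : τ (τ (-1)) = τ (τ 1) := by rw [h, hτ1, hτ1]
      rw [hτinv _ hm1, hτinv _ h10] at h2
      rw [h]
      exact h2.symm
    · exact h
  have hτinj1 : ∀ y : ZMod p, y ≠ 0 → τ y = 1 → y = 1 := by
    intro y hy h
    have h2 : τ (τ y) = τ (τ 1) := by rw [h, hτ1, hτ1]
    rwa [hτinv y hy, hτinv _ h10] at h2
  have hrel : ∀ x : ZMod p, x ≠ 0 → τ x + 1 ≠ 0 → τ (τ (τ x + 1) - 1) = -x - 1 := by
    obtain ⟨g₁, hg₁⟩ : ∃ g₁ : G, g₁ = s * zpw u (-1 : ZMod p) * s * zpw u (1 : ZMod p) * s := ⟨_, rfl⟩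
    have hg₁a : g₁ • a = a := by
      rw [hg₁]
      simp only [mul_smul]
      rw [hsa, ← hpt0, hT, zero_add, hs1, hT, add_neg_cancel, hpt0, hsb]
    obtain ⟨ρ, γ, hρ, hgx⟩ := hA g₁ hg₁a
    have e0 : g₁ • pt 0 = pt (-1) := by
      rw [hg₁]
      simp only [mul_smul]
      rw [hpt0, hsb, hpwa, hsa, ← hpt0, hT, zero_add, hτ _ hm1, hτneg1]
    have em : g₁ • pt (-1) = pt 0 := by
      rw [hg₁]
      simp only [mul_smul]
      rw [hτ _ hm1, hτneg1, hT, neg_add_cancel, hpt0, hsb, hpwa, hsa]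
    rw [hgx, mul_zero, zero_add] at e0
    have hγ : γ = -1 := hinj e0
    rw [hgx, hγ] at em
    have hρ' : ρ = -1 := by
      have h5 := hinj em
      linear_combination -h5
    intro x hx hx1
    have e := hgx x
    rw [hg₁] at e
    simp only [mul_smul] at e
    have hne1 : τ (τ x + 1) - 1 ≠ 0 := by
      intro h
      have h2 := hτinj1 _ hx1 (sub_eq_zero.mp h)
      exact hτ0 x hx (by linear_combination h2)
    rw [hτ x hx, hT, hτ _ hx1, hT, ← sub_eq_add_neg, hτ _ hne1, hρ', hγ] at e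
    have h6 := hinj e
    rw [h6]
    ring
  have hKT : ∀ y : ZMod p, y ≠ 0 → y + 1 ≠ 0 → τ (y + 1) = 1 - τ (τ y + 1) := by
    intro y hy hy1
    have hx := hτ0 y hy
    have h1 : τ (τ y) + 1 ≠ 0 := by
      rw [hτinv y hy]
      exact hy1
    have e := hrel (τ y) hx h1
    rw [hτinv y hy] at e
    have hne1 : τ (y + 1) - 1 ≠ 0 := by
      intro h
      have h2 := hτinj1 _ hy1 (sub_eq_zero.mp h)
      exact hy (by linear_combination h2)
    have e2 := congrArg τ e
    rw [hτinv _ hne1] at e2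
    have hty1 : τ y + 1 ≠ 0 := by
      intro h
      have h2 : τ y = τ (-1) := by
        rw [hτneg1]
        linear_combination h
      have h4 := congrArg τ h2
      rw [hτinv y hy, hτinv _ hm1] at h4
      exact hy1 (by rw [h4]; ring)
    have h5 : (-τ y - 1 : ZMod p) = (-1) * (τ y + 1) := by ring
    rw [h5, hτmul _ _ hm1 hty1, hτneg1] at e2
    linear_combination e2
  have hτinvmul : ∀ y : ZMod p, y ≠ 0 → τ y⁻¹ = (τ y)⁻¹ := by
    intro y hy
    have h1 : τ y * τ y⁻¹ = 1 := by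
      rw [← hτmul _ _ hy (inv_ne_zero hy), mul_inv_cancel₀ hy, hτ1]
    exact eq_inv_of_mul_eq_one_right h1
  have hind : ∀ n : ℕ, 1 ≤ n → n < p → τ (n : ZMod p) = (n : ZMod p)⁻¹ := by
    intro n hn1
    induction n, hn1 using Nat.le_induction with
    | base =>
      intro _
      rw [Nat.cast_one, hτ1, inv_one]
    | succ n hn ih =>
      intro hlt
      have ihn := ih (by omega)
      have hy : (n : ZMod p) ≠ 0 := by
        intro h
        rw [ZMod.natCast_eq_zero_iff] at h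
        exact absurd (Nat.le_of_dvd (by omega) h) (by omega)
      have hy1 : (n : ZMod p) + 1 ≠ 0 := by
        intro h
        have h' : ((n + 1 : ℕ) : ZMod p) = 0 := by
          push_cast
          exact h
        rw [ZMod.natCast_eq_zero_iff] at h'
        exact absurd (Nat.le_of_dvd (by omega) h') (by omega)
      have e := hKT _ hy hy1
      rw [ihn] at e
      have h6 : ((n : ZMod p)⁻¹ + 1) = ((n : ZMod p) + 1) * (n : ZMod p)⁻¹ := by
        rw [add_mul, mul_inv_cancel₀ hy, one_mul, add_comm]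
      rw [h6, hτmul _ _ hy1 (inv_ne_zero hy), hτinvmul _ hy, ihn, inv_inv] at e
      push_cast
      have h7 : τ ((n : ZMod p) + 1) * ((n : ZMod p) + 1) = 1 := by linear_combination e
      exact eq_inv_of_mul_eq_one_left h7
  have hτeq : ∀ x : ZMod p, x ≠ 0 → τ x = x⁻¹ := by
    intro x hx
    have hx1 : 1 ≤ x.val := Nat.one_le_iff_ne_zero.mpr (fun h => hx ((ZMod.val_eq_zero x).mp h))
    have h1 := hind x.val hx1 (ZMod.val_lt x)
    rwa [ZMod.natCast_zmod_val] at h1
  exact pgl_of_coords a pt hinj hne hsurj hAff hA s (by rw [hsa, hpt0]) (by rw [hpt0, hsb])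
    (fun x hx => by rw [hτ x hx, hτeq x hx])

end Cfsg.Agent.H19
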