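import Mathlib
import Cfsg.Prelude.Def_LieExceptional

/-!
# helper19: basic facts on Zassenhaus groups (`Cfsg.IsZassenhausGroup`)

* `zass_three_le_card` : a Zassenhaus group has degree at least 3
* `zass_kernel_regular` : a subgroup `H ≤ G_a` of order `n - 1` whose non-identity elements fix
  only `a` is regular on `Ω ∖ {a}`
* `zass_mem_kernel` : every element of `G_a` fixing only `a` lies in `H`
* `zass_kernel_normal` : `G_a` normalizes `H`
-/

set_option autoImplicit false

namespace Cfsg.Agent.H19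

open Cfsg

variable {G Ω : Type*} [Group G] [MulAction G Ω]

omit [Group G] [MulAction G Ω] in
theorem card_ne_add_one [Finite Ω] (a : Ω) : Nat.card {e : Ω // e ≠ a} + 1 = Nat.card Ω := by
  classical
  rw [← Nat.card_congr (Equiv.optionSubtypeNe a), Finite.card_option]

theorem zass_three_le_card [Fintype Ω] (hZ : Cfsg.IsZassenhausGroup G Ω) : 3 ≤ Fintype.card Ω := by
  classical
  obtain ⟨hfaith, -, -, ⟨g0, hg0, a0, b0, hab0, hga0, hgb0⟩, -⟩ := hZ
  by_contra hlt
  apply hg0
  apply hfaith.eq_of_smul_eq_smul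
  intro c
  rw [one_smul]
  by_contra hc
  have hca : c ≠ a0 := fun h => hc (h ▸ hga0)
  have hcb : c ≠ b0 := fun h => hc (h ▸ hgb0)
  have h3 : ({a0, b0, c} : Finset Ω).card = 3 := by
    rw [Finset.card_insert_of_notMem, Finset.card_insert_of_notMem, Finset.card_singleton]
    · simpa using hcb.symm
    · simp [hab0, hca.symm]
  have := Finset.card_le_univ ({a0, b0, c} : Finset Ω)
  omega

/-- Regularity of the Frobenius kernel on the points other than `a`. -/
theorem zass_kernel_regular [Finite G] [Fintype Ω] (a : Ω) (H : Subgroup G)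
    (hHa : H ≤ MulAction.stabilizer G a) (hHcard : Nat.card H + 1 = Fintype.card Ω)
    (hHfix : ∀ u ∈ H, u ≠ 1 → ∀ c : Ω, u • c = c → c = a) (c d : Ω) (hc : c ≠ a) (hd : d ≠ a) :
    ∃ h ∈ H, h • c = d := by
  classical
  let ψ : H → {e : Ω // e ≠ a} := fun h => ⟨(h : G) • c, by
    intro he
    have h1 : (h : G) • a = a := hHa h.2
    rw [← h1] at he
    exact hc (smul_left_cancel _ he)⟩
  have hinj : Function.Injective ψ := by
    intro h h' hh
    have h1 : (h : G) • c = (h' : G) • c := congrArg Subtype.val hh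
    by_contra hne
    have h2 : ((h : G)⁻¹ * (h' : G)) • c = c := by
      rw [mul_smul, ← h1, inv_smul_smul]
    have h3 : (h : G)⁻¹ * (h' : G) ≠ 1 := by
      intro h4
      apply hne
      apply Subtype.ext
      rw [inv_mul_eq_one] at h4
      exact h4
    exact hc (hHfix _ (H.mul_mem (H.inv_mem h.2) h'.2) h3 c h2)
  have hcard : Nat.card {e : Ω // e ≠ a} ≤ Nat.card H := by
    have h1 := card_ne_add_one a
    rw [Nat.card_eq_fintype_card (α := Ω)] at h1
    omega
  obtain ⟨h, hh⟩ := (hinj.bijective_of_nat_card_le hcard).2 ⟨d, hd⟩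
  exact ⟨h.1, h.2, congrArg Subtype.val hh⟩

/-- An element of the point stabilizer fixing no other point lies in the Frobenius kernel. -/
theorem zass_mem_kernel [Finite G] [Fintype Ω] (hZ : Cfsg.IsZassenhausGroup G Ω) (a : Ω)
    (H : Subgroup G) (hHa : H ≤ MulAction.stabilizer G a)
    (hHcard : Nat.card H + 1 = Fintype.card Ω)
    (hHfix : ∀ u ∈ H, u ≠ 1 → ∀ c : Ω, u • c = c → c = a) (x : G) (hxa : x • a = a)
    (hxfix : ∀ c : Ω, x • c = c → c = a) : x ∈ H := by
  classical
  have h3 := hZ.2.2.1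
  by_contra hxH
  have hreg := zass_kernel_regular a H hHa hHcard hHfix
  have hx' : ∀ c : Ω, c ≠ a → x⁻¹ • c ≠ a := by
    intro c hc he
    apply hc
    rw [← hxa] at he
    have := congrArg (fun z => x • z) he
    simp only [smul_inv_smul] at this
    rw [this, hxa, hxa]
  choose φ hφH hφ using fun c : {e : Ω // e ≠ a} => hreg c.1 (x⁻¹ • c.1) c.2 (hx' c.1 c.2)
  let φ' : {e : Ω // e ≠ a} → H := fun c => ⟨φ c, hφH c⟩
  have hinj : Function.Injective φ' := by
    intro c c' hcc
    have hcc' : φ c = φ c' := congrArg Subtype.val hcc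
    by_contra hne
    have hne' : c.1 ≠ c'.1 := fun h => hne (Subtype.ext h)
    apply hxH
    have e1 : (x * φ c) • c.1 = c.1 := by
      rw [mul_smul, hφ c, smul_inv_smul]
    have e2 : (x * φ c) • c'.1 = c'.1 := by
      rw [hcc', mul_smul, hφ c', smul_inv_smul]
    have e3 : (x * φ c) • a = a := by
      rw [mul_smul, (hHa (hφH c) : φ c • a = a), hxa]
    have := h3 (x * φ c) c.1 c'.1 a hne' c'.2 c.2 e1 e2 e3
    have hx : x = (φ c)⁻¹ := eq_inv_of_mul_eq_one_left this
    rw [hx]
    exact H.inv_mem (hφH c)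
  have hcard : Nat.card H ≤ Nat.card {e : Ω // e ≠ a} := by
    have h1 := card_ne_add_one a
    rw [Nat.card_eq_fintype_card (α := Ω)] at h1
    omega
  obtain ⟨c, hc⟩ := (hinj.bijective_of_nat_card_le hcard).2 1
  have h1 : φ c = 1 := congrArg Subtype.val hc
  have h2 := hφ c
  rw [h1, one_smul] at h2
  have h4 : x • c.1 = c.1 := by
    conv_lhs => rw [h2]
    rw [smul_inv_smul]
  exact c.2 (hxfix c.1 h4)

/-- The point stabilizer normalizes the Frobenius kernel (one direction of conjugation). -/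
theorem zass_conj_mem_kernel [Finite G] [Fintype Ω] (hZ : Cfsg.IsZassenhausGroup G Ω) (a : Ω)
    (H : Subgroup G) (hHa : H ≤ MulAction.stabilizer G a)
    (hHcard : Nat.card H + 1 = Fintype.card Ω)
    (hHfix : ∀ u ∈ H, u ≠ 1 → ∀ c : Ω, u • c = c → c = a) (g : G) (hg : g • a = a) (u : G)
    (hu : u ∈ H) : g * u * g⁻¹ ∈ H := by
  by_cases hu1 : u = 1
  · rw [hu1]; simp [H.one_mem]
  have hginv : g⁻¹ • a = a := by
    conv_lhs => rw [← hg]
    rw [inv_smul_smul]
  apply zass_mem_kernel hZ a H hHa hHcard hHfix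
  · rw [mul_smul, mul_smul, hginv, (hHa hu : u • a = a), hg]
  · intro c hc
    rw [mul_smul, mul_smul] at hc
    have h1 : u • (g⁻¹ • c) = g⁻¹ • c := by
      have := congrArg (fun z => g⁻¹ • z) hc
      simpa only [inv_smul_smul] using this
    have h2 := hHfix u hu hu1 _ h1
    rw [← hg, ← h2, smul_inv_smul]

end Cfsg.Agent.H19
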