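import Mathlib
import Cfsg.Agent.H19.ZP2
import Cfsg.Agent.H19.Zassenhaus

/-!
# Transitive groups of degree `p + 1` and order `(p + 1) p d`, `d < p`: structure (helper19)

* `deg_succ_prime_struct` : the point stabilizer contains an element `u` of order `p` with `⟨u⟩`
  regular on the remaining points and normal in the stabilizer;
* `two_trans_of_reg`, `three_pt_of_struct` : double transitivity and triviality of three-point
  stabilizers;
* `two_stab_transitive` : a two-point stabilizer of order `|Ω| - 2` is transitive on the rest.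
-/

set_option autoImplicit false
set_option linter.style.haveILetI false
set_option linter.unusedSectionVars false

namespace Cfsg.Agent.H19

open MulAction

universe u v

variable {G : Type u} {Ω : Type v} [Group G] [MulAction G Ω]

set_option maxHeartbeats 1000000 in
theorem deg_succ_prime_struct [Finite G] [Fintype Ω] [FaithfulSMul G Ω] [IsPretransitive G Ω]
    {p d : ℕ} [Fact p.Prime] (hΩ : Fintype.card Ω = p + 1) (hG : Nat.card G = (p + 1) * p * d)
    (hd : d < p) (a : Ω) :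
    ∃ u : G, orderOf u = p ∧ u • a = a ∧
      (∀ b c : Ω, b ≠ a → c ≠ a → ∃ k : ℕ, u ^ k • b = c) ∧
      (∀ b : Ω, b ≠ a → ∀ x : ZMod p, zpw u x • b = b → x = 0) ∧
      (∀ g : G, g • a = a → ∃ k : ℕ, g * u * g⁻¹ = u ^ k) ∧
      Nat.card (stabilizer G a) = p * d := by
  classical
  have hp : p.Prime := Fact.out
  have hcardGa : Nat.card (stabilizer G a) = p * d := by
    have h1 := Subgroup.card_mul_index (stabilizer G a)
    rw [MulAction.index_stabilizer_of_transitive G a, Nat.card_eq_fintype_card (α := Ω), hΩ,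
      hG] at h1
    have h2 : Nat.card (stabilizer G a) * (p + 1) = (p * d) * (p + 1) := by
      rw [h1]
      ring
    exact Nat.eq_of_mul_eq_mul_right (by omega) h2
  obtain ⟨u', hu'⟩ := exists_prime_orderOf_dvd_card' (G := stabilizer G a) p
    (by rw [hcardGa]; exact dvd_mul_right p d)
  obtain ⟨u, hudef⟩ : ∃ u : G, u = (u' : G) := ⟨_, rfl⟩
  have hu : orderOf u = p := by
    rw [hudef, Subgroup.orderOf_coe]
    exact hu'
  have hua : u • a = a := by
    rw [hudef]
    exact u'.2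
  have hu1 : u ≠ 1 := by
    rintro rfl
    rw [orderOf_one] at hu
    exact hp.one_lt.ne hu
  have hupow : ∀ n : ℕ, u ^ n • a = a := by
    intro n
    induction n with
    | zero => rw [pow_zero, one_smul]
    | succ n ih => rw [pow_succ, mul_smul, hua, ih]
  have hpwa : ∀ x : ZMod p, zpw u x • a = a := fun x => hupow _
  obtain ⟨b₀, hb₀⟩ : ∃ b₀ : Ω, u • b₀ ≠ b₀ := by
    by_contra hcon
    push Not at hcon
    exact hu1 (FaithfulSMul.eq_of_smul_eq_smul (α := Ω) (fun c => by rw [hcon c, one_smul]))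
  have hb₀a : b₀ ≠ a := fun h => hb₀ (h ▸ hua)
  have hsemi0 : ∀ x : ZMod p, zpw u x • b₀ = b₀ → x = 0 := by
    intro x hx
    by_contra hx0
    apply hb₀
    have h1 : (1 : ZMod p) = x⁻¹ * x := (inv_mul_cancel₀ hx0).symm
    rw [← zpw_one hu (p := p), h1, zpw_mul hu]
    generalize (x⁻¹).val = n
    induction n with
    | zero => rw [pow_zero, one_smul]
    | succ n ih => rw [pow_succ, mul_smul, hx, ih]
  have hmapne : ∀ x : ZMod p, zpw u x • b₀ ≠ a := by
    intro x h
    have h1 : zpw u x • b₀ = zpw u x • a := by rw [h, hpwa]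
    exact hb₀a (smul_left_cancel _ h1)
  have hbij : Function.Bijective
      (fun x : ZMod p => (⟨zpw u x • b₀, hmapne x⟩ : {c : Ω // c ≠ a})) := by
    rw [Nat.bijective_iff_injective_and_card]
    constructor
    · intro x y hxy
      have h1 : zpw u x • b₀ = zpw u y • b₀ := congrArg Subtype.val hxy
      have h2 : zpw u (x - y) • b₀ = b₀ := by
        have h4 : x - y = -y + x := by ring
        rw [h4, zpw_add hu, zpw_neg hu, mul_smul, h1, inv_smul_smul]
      exact sub_eq_zero.mp (hsemi0 _ h2)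
    · have h1 := card_ne_add_one a
      rw [Nat.card_eq_fintype_card (α := Ω), hΩ] at h1
      rw [Nat.card_zmod]
      omega
  have hcoord : ∀ c : Ω, c ≠ a → ∃ x : ZMod p, zpw u x • b₀ = c := by
    intro c hc
    obtain ⟨x, hx⟩ := hbij.2 ⟨c, hc⟩
    exact ⟨x, congrArg Subtype.val hx⟩
  have hcomm : ∀ x y : ZMod p, zpw u x * zpw u y = zpw u y * zpw u x := by
    intro x y
    rw [← zpw_add hu, ← zpw_add hu, add_comm]
  have hreg : ∀ b c : Ω, b ≠ a → c ≠ a → ∃ k : ℕ, u ^ k • b = c := by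
    intro b c hb hc
    obtain ⟨x, rfl⟩ := hcoord b hb
    obtain ⟨y, rfl⟩ := hcoord c hc
    refine ⟨(y - x).val, ?_⟩
    change zpw u (y - x) • zpw u x • b₀ = zpw u y • b₀
    rw [← mul_smul, ← zpw_add hu, sub_add_cancel]
  have hsemi : ∀ b : Ω, b ≠ a → ∀ x : ZMod p, zpw u x • b = b → x = 0 := by
    intro b hb x hx
    obtain ⟨y, rfl⟩ := hcoord b hb
    rw [← mul_smul, hcomm, mul_smul] at hx
    exact hsemi0 x (smul_left_cancel _ hx)
  refine ⟨u, hu, hua, hreg, hsemi, ?_, hcardGa⟩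
  intro g hg
  obtain ⟨w, hw⟩ : ∃ w : G, w = g * u * g⁻¹ := ⟨_, rfl⟩
  have hwo : orderOf w = p := by
    rw [hw]
    exact ((MulAut.conj g).orderOf_eq u).trans hu
  have hwa : w • a = a := by
    rw [hw, mul_smul, mul_smul, inv_smul_eq_iff.mpr hg.symm, hua, hg]
  have hmem : w ∈ Subgroup.zpowers u := by
    by_contra hnot
    have hA : Subgroup.zpowers u ≤ stabilizer G a := Subgroup.zpowers_le.mpr hua
    have hB : Subgroup.zpowers w ≤ stabilizer G a := Subgroup.zpowers_le.mpr hwa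
    have hcA : Nat.card (Subgroup.zpowers u) = p := by rw [Nat.card_zpowers, hu]
    have hcB : Nat.card (Subgroup.zpowers w) = p := by rw [Nat.card_zpowers, hwo]
    have hinf : Subgroup.zpowers u ⊓ Subgroup.zpowers w = ⊥ := by
      have h1 : Nat.card (Subgroup.zpowers u ⊓ Subgroup.zpowers w : Subgroup G) ∣ p := by
        rw [← hcB]
        exact Subgroup.card_dvd_of_le inf_le_right
      rcases (Nat.dvd_prime hp).mp h1 with h2 | h2
      · exact Subgroup.eq_bot_of_card_eq _ h2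
      · exfalso
        have h4 : Subgroup.zpowers u ⊓ Subgroup.zpowers w = Subgroup.zpowers w :=
          Subgroup.eq_of_le_of_card_ge inf_le_right (by rw [h2, hcB])
        have h5 : Subgroup.zpowers w ≤ Subgroup.zpowers u := by
          rw [← h4]
          exact inf_le_left
        exact hnot (h5 (Subgroup.mem_zpowers w))
    have hinj : Function.Injective
        (fun z : Subgroup.zpowers u × Subgroup.zpowers w =>
          (⟨(z.1 : G) * (z.2 : G), (stabilizer G a).mul_mem (hA z.1.2) (hB z.2.2)⟩ :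
            stabilizer G a)) := by
      rintro ⟨x, y⟩ ⟨x', y'⟩ h
      have h1 : (x : G) * (y : G) = (x' : G) * (y' : G) := congrArg Subtype.val h
      have h2 : (x' : G)⁻¹ * (x : G) = (y' : G) * (y : G)⁻¹ := by
        rw [inv_mul_eq_iff_eq_mul, ← mul_assoc, ← h1, mul_inv_cancel_right]
      have h4 : (x' : G)⁻¹ * (x : G) ∈ Subgroup.zpowers u ⊓ Subgroup.zpowers w := by
        refine ⟨(Subgroup.zpowers u).mul_mem ((Subgroup.zpowers u).inv_mem x'.2) x.2, ?_⟩
        rw [h2]
        exact (Subgroup.zpowers w).mul_mem y'.2 ((Subgroup.zpowers w).inv_mem y.2)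
      rw [hinf, Subgroup.mem_bot] at h4
      have h5 : (x : G) = x' := (inv_mul_eq_one.mp h4).symm
      have h6 : (y : G) = y' := by
        rw [h5] at h1
        exact mul_left_cancel h1
      exact Prod.ext (Subtype.ext h5) (Subtype.ext h6)
    have hle := Nat.card_le_card_of_injective _ hinj
    rw [Nat.card_prod, hcA, hcB, hcardGa] at hle
    have h7 : p ≤ d := Nat.le_of_mul_le_mul_left hle hp.pos
    omega
  have hfin : IsOfFinOrder u := isOfFinOrder_of_finite u
  obtain ⟨k, hk⟩ := hfin.mem_powers_iff_mem_zpowers.mpr hmem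
  refine ⟨k, ?_⟩
  rw [← hw]
  exact hk.symm

theorem two_trans_of_reg [IsPretransitive G Ω] (a : Ω)
    (hreg : ∀ b c : Ω, b ≠ a → c ≠ a → ∃ g : G, g • a = a ∧ g • b = c) :
    ∀ x y x' y' : Ω, x ≠ y → x' ≠ y' → ∃ g : G, g • x = x' ∧ g • y = y' := by
  intro x y x' y' hxy hxy'
  obtain ⟨g₁, hg₁⟩ := exists_smul_eq G x a
  obtain ⟨g₂, hg₂⟩ := exists_smul_eq G x' a
  have h1 : g₁ • y ≠ a := by
    intro h
    rw [← hg₁] at h
    exact hxy (smul_left_cancel g₁ h).symm
  have h2 : g₂ • y' ≠ a := by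
    intro h
    rw [← hg₂] at h
    exact hxy' (smul_left_cancel g₂ h).symm
  obtain ⟨g, hga, hg⟩ := hreg _ _ h1 h2
  refine ⟨g₂⁻¹ * g * g₁, ?_, ?_⟩
  · rw [mul_smul, mul_smul, hg₁, hga, inv_smul_eq_iff, hg₂]
  · rw [mul_smul, mul_smul, hg, inv_smul_smul]

theorem three_pt_of_struct [FaithfulSMul G Ω] [IsPretransitive G Ω] {p : ℕ} [Fact p.Prime]
    (a : Ω) (u : G) (hu : orderOf u = p) (hua : u • a = a)
    (hreg : ∀ b c : Ω, b ≠ a → c ≠ a → ∃ k : ℕ, u ^ k • b = c)
    (hsemi : ∀ b : Ω, b ≠ a → ∀ x : ZMod p, zpw u x • b = b → x = 0)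
    (hnorm : ∀ g : G, g • a = a → ∃ k : ℕ, g * u * g⁻¹ = u ^ k) :
    ∀ g : G, ∀ x y z : Ω, x ≠ y → y ≠ z → x ≠ z → g • x = x → g • y = y → g • z = z →
      g = 1 := by
  intro g x y z hxy hyz hxz hx hy hz
  obtain ⟨g₁, hg₁⟩ := exists_smul_eq G x a
  obtain ⟨g', hg'⟩ : ∃ g' : G, g' = g₁ * g * g₁⁻¹ := ⟨_, rfl⟩
  have hfix : ∀ c : Ω, g • c = c → g' • (g₁ • c) = g₁ • c := by
    intro c hc
    rw [hg', mul_smul, mul_smul, inv_smul_smul, hc]
  have hga : g' • a = a := by
    rw [← hg₁]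
    exact hfix x hx
  have hy' : g₁ • y ≠ a := by
    intro h
    rw [← hg₁] at h
    exact hxy (smul_left_cancel g₁ h).symm
  have hz' : g₁ • z ≠ a := by
    intro h
    rw [← hg₁] at h
    exact hxz (smul_left_cancel g₁ h).symm
  obtain ⟨k, hk⟩ := hnorm g' hga
  obtain ⟨j, hj⟩ := hreg _ _ hy' hz'
  have hj' : zpw u (j : ZMod p) • g₁ • y = g₁ • z := by rw [zpw_natCast hu, hj]
  have hξ : (j : ZMod p) ≠ 0 := by
    intro h
    rw [h, zpw_zero, one_smul] at hj'
    exact hyz (smul_left_cancel g₁ hj')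
  have h1 : zpw u ((k : ZMod p) * (j : ZMod p)) • g₁ • y = zpw u (j : ZMod p) • g₁ • y := by
    have h2 := hfix z hz
    rw [← hj'] at h2
    have h4 : ∀ c : Ω, g' • zpw u (j : ZMod p) • c =
        (g' * zpw u (j : ZMod p) * g'⁻¹) • g' • c := fun c => by
      rw [← mul_smul, ← mul_smul, inv_mul_cancel_right]
    rw [h4, zpw_conj hu k hk, hfix y hy] at h2
    exact h2
  have h5 : zpw u ((k : ZMod p) * (j : ZMod p) - (j : ZMod p)) • g₁ • y = g₁ • y := by
    have h6 : (k : ZMod p) * (j : ZMod p) - (j : ZMod p) =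
        -(j : ZMod p) + (k : ZMod p) * (j : ZMod p) := by ring
    rw [h6, zpw_add hu, zpw_neg hu, mul_smul, h1, inv_smul_smul]
  have h7 := hsemi _ hy' _ h5
  have hk1 : (k : ZMod p) = 1 := by
    have h8 : ((k : ZMod p) - 1) * (j : ZMod p) = 0 := by linear_combination h7
    rcases mul_eq_zero.mp h8 with h9 | h9
    · exact sub_eq_zero.mp h9
    · exact absurd h9 hξ
  have hcomm : g' * u = u * g' := by
    have h8 := zpw_conj hu k hk (1 : ZMod p)
    rw [hk1, mul_one, zpw_one hu] at h8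
    have h9 := congrArg (fun w => w * g') h8
    simpa using h9
  have hcommpow : ∀ n : ℕ, g' * u ^ n = u ^ n * g' := by
    intro n
    induction n with
    | zero => simp
    | succ n ih => rw [pow_succ, ← mul_assoc, ih, mul_assoc, hcomm, mul_assoc]
  have hg'1 : g' = 1 := by
    apply FaithfulSMul.eq_of_smul_eq_smul (α := Ω)
    intro c
    rw [one_smul]
    by_cases hc : c = a
    · rw [hc, hga]
    · obtain ⟨n, hn⟩ := hreg _ _ hy' hc
      rw [← hn, ← mul_smul, hcommpow, mul_smul, hfix y hy]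
  rw [hg'] at hg'1
  have h10 : g = g₁⁻¹ * (g₁ * g * g₁⁻¹) * g₁ := by group
  rw [h10, hg'1]
  group

theorem two_stab_transitive [Finite G] [Fintype Ω]
    (h3 : ∀ g : G, ∀ x y z : Ω, x ≠ y → y ≠ z → x ≠ z → g • x = x → g • y = y → g • z = z →
      g = 1)
    {y₀ y₁ : Ω} (hy : y₀ ≠ y₁)
    (hcard : Nat.card (stabilizer G y₀ ⊓ stabilizer G y₁ : Subgroup G) = Fintype.card Ω - 2)
    (z w : Ω) (hz0 : z ≠ y₀) (hz1 : z ≠ y₁) (hw0 : w ≠ y₀) (hw1 : w ≠ y₁) :
    ∃ h : G, h • y₀ = y₀ ∧ h • y₁ = y₁ ∧ h • z = w := by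
  classical
  haveI : Fintype G := Fintype.ofFinite G
  obtain ⟨Hf, hHf⟩ : ∃ Hf : Finset G, Hf = Finset.univ.filter
      (fun g : G => g ∈ (stabilizer G y₀ ⊓ stabilizer G y₁ : Subgroup G)) := ⟨_, rfl⟩
  have hHfmem : ∀ g, g ∈ Hf ↔ g • y₀ = y₀ ∧ g • y₁ = y₁ := by
    intro g
    rw [hHf]
    simp [Subgroup.mem_inf, mem_stabilizer_iff]
  have hHfcard : Hf.card = Fintype.card Ω - 2 := by
    rw [hHf, ← hcard, Nat.card_eq_fintype_card, Fintype.card_subtype]
  have hinj : Set.InjOn (fun g : G => g • z) (Hf : Set G) := by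
    intro g hg g' hg' hgg
    obtain ⟨hg0, hg1⟩ := (hHfmem g).mp hg
    obtain ⟨hg0', hg1'⟩ := (hHfmem g').mp hg'
    have hgg' : g • z = g' • z := hgg
    have h1 : g'⁻¹ * g = 1 := by
      refine h3 _ y₀ y₁ z hy (Ne.symm hz1) (Ne.symm hz0) ?_ ?_ ?_
      · rw [mul_smul, hg0, inv_smul_eq_iff, hg0']
      · rw [mul_smul, hg1, inv_smul_eq_iff, hg1']
      · rw [mul_smul, hgg', inv_smul_smul]
    exact (inv_mul_eq_one.mp h1).symm
  have hcS : ((Finset.univ.erase y₀).erase y₁).card = Fintype.card Ω - 2 := by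
    rw [Finset.card_erase_of_mem (Finset.mem_erase.mpr ⟨hy.symm, Finset.mem_univ _⟩),
      Finset.card_erase_of_mem (Finset.mem_univ _), Finset.card_univ]
    omega
  have himg : Hf.image (fun g => g • z) = (Finset.univ.erase y₀).erase y₁ := by
    apply Finset.eq_of_subset_of_card_le
    · intro c hc
      obtain ⟨g, hg, rfl⟩ := Finset.mem_image.mp hc
      obtain ⟨hg0, hg1⟩ := (hHfmem g).mp hg
      rw [Finset.mem_erase, Finset.mem_erase]
      refine ⟨?_, ?_, Finset.mem_univ _⟩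
      · intro h
        have h1 : g • z = g • y₁ := by rw [h, hg1]
        exact hz1 (smul_left_cancel g h1)
      · intro h
        have h1 : g • z = g • y₀ := by rw [h, hg0]
        exact hz0 (smul_left_cancel g h1)
    · rw [Finset.card_image_of_injOn hinj, hHfcard, hcS]
  have hw : w ∈ (Finset.univ.erase y₀).erase y₁ := by
    rw [Finset.mem_erase, Finset.mem_erase]
    exact ⟨hw1, hw0, Finset.mem_univ _⟩
  rw [← himg] at hw
  obtain ⟨g, hg, hgz⟩ := Finset.mem_image.mp hw
  exact ⟨g, ((hHfmem g).mp hg).1, ((hHfmem g).mp hg).2, hgz⟩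

end Cfsg.Agent.H19
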