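import Mathlib
import Cfsg.Agent.H19.ZP3
import Cfsg.Agent.H19.TwoTrans

/-!
# S3641-N2 (helper19, for helper21): a transitive group of degree 18 and order `18 * 17 * d`,
`d ∈ {8, 16}`, has exactly 153 Sylow 2-subgroups.  Also the STRUCTURE lemma `zst`.
-/

set_option autoImplicit false

namespace Cfsg.Agent.H19.SN

open MulAction

section Abstract

variable {G : Type*} {Ω : Type*} [Group G] [MulAction G Ω]

/-- The setwise stabilizer of the pair `{a, b}`. -/
def pairStab (G : Type*) {Ω : Type*} [Group G] [MulAction G Ω] (a b : Ω) : Subgroup G where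
  carrier := {g | (g • a = a ∧ g • b = b) ∨ (g • a = b ∧ g • b = a)}
  one_mem' := Or.inl ⟨one_smul _ _, one_smul _ _⟩
  mul_mem' := by
    rintro g h (⟨hg1, hg2⟩ | ⟨hg1, hg2⟩) (⟨hh1, hh2⟩ | ⟨hh1, hh2⟩)
    · refine Or.inl ⟨?_, ?_⟩
      · rw [mul_smul, hh1, hg1]
      · rw [mul_smul, hh2, hg2]
    · refine Or.inr ⟨?_, ?_⟩
      · rw [mul_smul, hh1, hg2]
      · rw [mul_smul, hh2, hg1]
    · refine Or.inr ⟨?_, ?_⟩
      · rw [mul_smul, hh1, hg1]
      · rw [mul_smul, hh2, hg2]
    · refine Or.inl ⟨?_, ?_⟩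
      · rw [mul_smul, hh1, hg2]
      · rw [mul_smul, hh2, hg1]
  inv_mem' := by
    rintro g (⟨h1, h2⟩ | ⟨h1, h2⟩)
    · exact Or.inl ⟨inv_smul_eq_iff.mpr h1.symm, inv_smul_eq_iff.mpr h2.symm⟩
    · exact Or.inr ⟨inv_smul_eq_iff.mpr h2.symm, inv_smul_eq_iff.mpr h1.symm⟩

theorem mem_pairStab {a b : Ω} {g : G} :
    g ∈ pairStab G a b ↔ (g • a = a ∧ g • b = b) ∨ (g • a = b ∧ g • b = a) := Iff.rfl

theorem card_pairStab [Finite G] {a b : Ω} (hab : a ≠ b) (t : G) (hta : t • a = b)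
    (htb : t • b = a) :
    Nat.card (pairStab G a b) = 2 * Nat.card (stabilizer G a ⊓ stabilizer G b : Subgroup G) := by
  classical
  have hset : (pairStab G a b : Set G) =
      ((stabilizer G a ⊓ stabilizer G b : Subgroup G) : Set G) ∪
        (fun e => t * e) '' ((stabilizer G a ⊓ stabilizer G b : Subgroup G) : Set G) := by
    ext g
    constructor
    · rintro (⟨h1, h2⟩ | ⟨h1, h2⟩)
      · exact Or.inl ⟨h1, h2⟩
      · refine Or.inr ⟨t⁻¹ * g, ⟨?_, ?_⟩, by group⟩
        · show (t⁻¹ * g) • a = a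
          rw [mul_smul, h1, inv_smul_eq_iff, hta]
        · show (t⁻¹ * g) • b = b
          rw [mul_smul, h2, inv_smul_eq_iff, htb]
    · rintro (⟨h1, h2⟩ | ⟨e, ⟨h1, h2⟩, rfl⟩)
      · exact Or.inl ⟨h1, h2⟩
      · have h1' : e • a = a := h1
        have h2' : e • b = b := h2
        refine Or.inr ⟨?_, ?_⟩
        · rw [mul_smul, h1', hta]
        · rw [mul_smul, h2', htb]
  have hdisj : Disjoint ((stabilizer G a ⊓ stabilizer G b : Subgroup G) : Set G)
      ((fun e => t * e) '' ((stabilizer G a ⊓ stabilizer G b : Subgroup G) : Set G)) := by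
    rw [Set.disjoint_left]
    rintro g ⟨h1, -⟩ ⟨e, ⟨h1', -⟩, rfl⟩
    have h1a : (t * e) • a = a := h1
    have h1b : e • a = a := h1'
    rw [mul_smul, h1b, hta] at h1a
    exact hab h1a.symm
  have hc1 : Nat.card (pairStab G a b) = (pairStab G a b : Set G).ncard :=
    (Nat.card_coe_set_eq _)
  have hc2 : Nat.card (stabilizer G a ⊓ stabilizer G b : Subgroup G) =
      ((stabilizer G a ⊓ stabilizer G b : Subgroup G) : Set G).ncard :=
    (Nat.card_coe_set_eq _)
  rw [hc1, hset, Set.ncard_union_eq hdisj (Set.toFinite _) (Set.toFinite _),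
    Set.ncard_image_of_injective _ (mul_right_injective t), hc2]
  ring

theorem normalizer_pairStab [Finite G]
    (h3 : ∀ g : G, ∀ x y z : Ω, x ≠ y → y ≠ z → x ≠ z → g • x = x → g • y = y → g • z = z →
      g = 1) {a b : Ω} (hab : a ≠ b)
    (hE : 3 ≤ Nat.card (stabilizer G a ⊓ stabilizer G b : Subgroup G)) :
    Subgroup.normalizer ((pairStab G a b : Subgroup G) : Set G) = pairStab G a b := by
  classical
  apply le_antisymm _ Subgroup.le_normalizer
  intro g hg
  rw [Subgroup.mem_normalizer_iff] at hg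
  obtain ⟨E, hEdef⟩ : ∃ E : Subgroup G, E = stabilizer G a ⊓ stabilizer G b := ⟨_, rfl⟩
  rw [← hEdef] at hE
  have hEmem : ∀ e : G, e ∈ E ↔ e • a = a ∧ e • b = b := by
    intro e
    rw [hEdef, Subgroup.mem_inf, mem_stabilizer_iff, mem_stabilizer_iff]
  have hET : ∀ e ∈ E, e ∈ pairStab G a b := fun e he => Or.inl ((hEmem e).mp he)
  -- the conjugate of an element of `E` lies in `T`
  have hconj : ∀ e ∈ E, g * e * g⁻¹ ∈ pairStab G a b := fun e he => (hg e).mp (hET e he)
  haveI : Fintype E := Fintype.ofFinite E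
  have hEcard : 3 ≤ Fintype.card E := by rwa [Nat.card_eq_fintype_card] at hE
  obtain ⟨e₁, he₁⟩ : ∃ e₁ : E, e₁ ≠ 1 := by
    haveI : Nontrivial E := Fintype.one_lt_card_iff_nontrivial.mp (by omega)
    exact exists_ne 1
  obtain ⟨e₂, -, he₂⟩ : ∃ e₂ ∈ (Finset.univ : Finset E), e₂ ∉ ({1, e₁⁻¹} : Finset E) := by
    apply Finset.exists_mem_notMem_of_card_lt_card
    calc ({1, e₁⁻¹} : Finset E).card ≤ 2 := Finset.card_le_two
      _ < Fintype.card E := by omega
      _ = (Finset.univ : Finset E).card := Finset.card_univ.symm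
  rw [Finset.mem_insert, Finset.mem_singleton, not_or] at he₂
  -- a nonidentity element of `E` whose conjugate lies in `E`
  obtain ⟨e, heE, he1, hge⟩ : ∃ e ∈ E, e ≠ 1 ∧ g * e * g⁻¹ ∈ E := by
    by_cases hc1 : g * (e₁ : G) * g⁻¹ ∈ E
    · exact ⟨e₁, e₁.2, fun h => he₁ (Subtype.ext h), hc1⟩
    by_cases hc2 : g * (e₂ : G) * g⁻¹ ∈ E
    · exact ⟨e₂, e₂.2, fun h => he₂.1 (Subtype.ext h), hc2⟩
    refine ⟨(e₁ : G) * (e₂ : G), E.mul_mem e₁.2 e₂.2, ?_, ?_⟩
    · intro h
      apply he₂.2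
      apply Subtype.ext
      rw [Subgroup.coe_inv]
      exact (eq_inv_of_mul_eq_one_right h)
    · have h1 := hconj e₁ e₁.2
      have h2 := hconj e₂ e₂.2
      rw [mem_pairStab] at h1 h2
      rw [hEmem] at hc1 hc2
      have h1' := h1.resolve_left hc1
      have h2' := h2.resolve_left hc2
      have : g * ((e₁ : G) * (e₂ : G)) * g⁻¹ = (g * e₁ * g⁻¹) * (g * e₂ * g⁻¹) := by group
      rw [this, hEmem]
      constructor
      · rw [mul_smul, h2'.1, h1'.2]
      · rw [mul_smul, h2'.2, h1'.1]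
  obtain ⟨y, hy⟩ : ∃ y : G, y = g * e * g⁻¹ := ⟨_, rfl⟩
  rw [← hy] at hge
  have hy1 : y ≠ 1 := by
    intro h
    apply he1
    rw [hy] at h
    have : e = g⁻¹ * (g * e * g⁻¹) * g := by group
    rw [this, h]
    group
  obtain ⟨hya, hyb⟩ := (hEmem y).mp hge
  obtain ⟨hea, heb⟩ := (hEmem e).mp heE
  have hyga : y • g • a = g • a := by
    rw [hy, ← mul_smul, inv_mul_cancel_right, mul_smul, hea]
  have hygb : y • g • b = g • b := by
    rw [hy, ← mul_smul, inv_mul_cancel_right, mul_smul, heb]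
  have hgab : g • a ≠ g • b := fun h => hab (smul_left_cancel g h)
  rw [mem_pairStab]
  by_contra hcon
  by_cases ha1 : g • a = a
  · by_cases hb1 : g • b = b
    · exact hcon (Or.inl ⟨ha1, hb1⟩)
    · have hb2 : g • b ≠ a := fun h => hgab (ha1.trans h.symm)
      exact hy1 (h3 y a b (g • b) hab (Ne.symm hb1) (Ne.symm hb2) hya hyb hygb)
  · by_cases ha2 : g • a = b
    · by_cases hb2 : g • b = a
      · exact hcon (Or.inr ⟨ha2, hb2⟩)
      · have hb1 : g • b ≠ b := fun h => hgab (ha2.trans h.symm)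
        exact hy1 (h3 y a b (g • b) hab (Ne.symm hb1) (Ne.symm hb2) hya hyb hygb)
    · exact hy1 (h3 y a b (g • a) hab (Ne.symm ha2) (Ne.symm ha1) hya hyb hyga)

end Abstract

theorem fact_two (k : ℕ) : (2 ^ k * 153).factorization 2 = k := by
  rw [Nat.factorization_mul (by positivity) (by norm_num), Finsupp.add_apply,
    Nat.factorization_pow, Finsupp.smul_apply, Nat.Prime.factorization_self Nat.prime_two,
    Nat.factorization_eq_zero_of_not_dvd (by norm_num)]
  simp

/-- STRUCTURE: a transitive group of degree 18 and order `18 * 17 * d`, `d ∈ {8, 16}`, is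
2-transitive, its three-point stabilizers are trivial, and its two-point stabilizers have
order `d`. -/
theorem zst {α : Type*} [Fintype α] [DecidableEq α] (hα : Fintype.card α = 18)
    (H : Subgroup (Equiv.Perm α)) [MulAction.IsPretransitive H α] (d : ℕ)
    (hd : d = 8 ∨ d = 16) (hH : Nat.card H = 18 * 17 * d) :
    (∀ x y x' y' : α, x ≠ y → x' ≠ y' → ∃ g : H, g • x = x' ∧ g • y = y') ∧
    (∀ g : H, ∀ x y z : α, x ≠ y → y ≠ z → x ≠ z → g • x = x → g • y = y → g • z = z →
      g = 1) ∧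
    (∀ x y : α, x ≠ y →
      Nat.card (MulAction.stabilizer H x ⊓ MulAction.stabilizer H y : Subgroup H) = d) ∧
    (∀ x : α, Nat.card (MulAction.stabilizer H x) = 17 * d) := by
  classical
  haveI : Fact (Nat.Prime 17) := ⟨by norm_num⟩
  haveI hfaith : FaithfulSMul H α := ⟨fun h => Subtype.ext (Equiv.ext h)⟩
  have hd17 : d < 17 := by rcases hd with rfl | rfl <;> norm_num
  obtain ⟨a, b, hab⟩ : ∃ a b : α, a ≠ b := Fintype.exists_pair_of_one_lt_card (by omega)
  obtain ⟨u, hu, hua, hreg, hsemi, hnorm, hGa⟩ :=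
    Cfsg.Agent.H19.deg_succ_prime_struct (G := H) (p := 17) (d := d) hα hH hd17 a
  have hupow : ∀ n : ℕ, u ^ n • a = a := by
    intro n
    induction n with
    | zero => rw [pow_zero, one_smul]
    | succ n ih => rw [pow_succ, mul_smul, hua, ih]
  have h2' : ∀ x y x' y' : α, x ≠ y → x' ≠ y' → ∃ g : H, g • x = x' ∧ g • y = y' :=
    Cfsg.Agent.H19.two_trans_of_reg a (fun b c hb hc => by
      obtain ⟨k, hk⟩ := hreg b c hb hc
      exact ⟨u ^ k, hupow k, hk⟩)
  have h2 : MulAction.IsMultiplyPretransitive H α 2 :=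
    MulAction.is_two_pretransitive_iff.mpr (fun hxy hxy' => h2' _ _ _ _ hxy hxy')
  have h3 := Cfsg.Agent.H19.three_pt_of_struct a u hu hua hreg hsemi hnorm
  refine ⟨h2', h3, ?_, ?_⟩
  · intro x y hxy
    have h := Cfsg.Agent.H19.card_eq_of_two_pretransitive h2 hxy
    rw [hH, Nat.card_eq_fintype_card, hα] at h
    omega
  · intro x
    obtain ⟨u', -, -, -, -, -, hGx⟩ :=
      Cfsg.Agent.H19.deg_succ_prime_struct (G := H) (p := 17) (d := d) hα hH hd17 x
    exact hGx

theorem card_sylow_two {α : Type*} [Fintype α] [DecidableEq α] (hα : Fintype.card α = 18)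
    (H : Subgroup (Equiv.Perm α)) [MulAction.IsPretransitive H α] (d : ℕ)
    (hd : d = 8 ∨ d = 16) (hH : Nat.card H = 18 * 17 * d) : Nat.card (Sylow 2 H) = 153 := by
  obtain ⟨h2', h3, hdcard, -⟩ := zst hα H d hd hH
  obtain ⟨a, b, hab⟩ : ∃ a b : α, a ≠ b := Fintype.exists_pair_of_one_lt_card (by omega)
  obtain ⟨t, hta, htb⟩ := h2' a b b a hab hab.symm
  have hT : Nat.card (pairStab H a b) = 2 * d := by
    rw [card_pairStab hab t hta htb, hdcard a b hab]
  have hN := normalizer_pairStab h3 hab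
    (by rw [hdcard a b hab]; rcases hd with rfl | rfl <;> norm_num)
  haveI : Fact (Nat.Prime 2) := ⟨Nat.prime_two⟩
  have hcard : Nat.card (pairStab H a b) = 2 ^ (Nat.card H).factorization 2 := by
    rw [hT, hH]
    rcases hd with rfl | rfl
    · have : 18 * 17 * 8 = 2 ^ 4 * 153 := by norm_num
      rw [this, fact_two]
      norm_num
    · have : 18 * 17 * 16 = 2 ^ 5 * 153 := by norm_num
      rw [this, fact_two]
      norm_num
  obtain ⟨P, hP⟩ : ∃ P : Sylow 2 H, (P : Subgroup H) = pairStab H a b :=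
    ⟨Sylow.ofCard (pairStab H a b) hcard, Sylow.coe_ofCard _ _⟩
  have hPN : Subgroup.normalizer (P : Set H) =
      Subgroup.normalizer ((pairStab H a b : Subgroup H) : Set H) := by
    rw [← hP]
    rfl
  rw [Sylow.card_eq_index_normalizer P, hPN, hN]
  have := Subgroup.card_mul_index (pairStab H a b)
  rw [hT, hH] at this
  rcases hd with rfl | rfl <;> omega

example {α : Type*} [Fintype α] [DecidableEq α] (hα : Fintype.card α = 18)
    (H : Subgroup (Equiv.Perm α)) [MulAction.IsPretransitive H α] (d : ℕ)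
    (hd : d = 8 ∨ d = 16) (hH : Nat.card H = 18 * 17 * d) : Nat.card (Sylow 2 H) = 153 :=
  card_sylow_two hα H d hd hH

end Cfsg.Agent.H19.SN
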