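import Cfsg.Agent.H19.SxDefs
import Cfsg.Agent.H13.PCore

/-!
# EXIST: assembly of the pieces
-/

set_option autoImplicit false
open Cfsg

namespace Cfsg.Agent.H19.Sx

open Cfsg.Agent.H52.Sn

universe u

/-- EXIST from the pieces. -/
theorem exist (hRed : StRed.{u}) (hSyl : StIfSyl.{u}) (hV : StIfV.{u}) (hZ : StIfZ.{u})
    (hS : StIfS.{u}) (hStruct : StStruct.{u}) (hCA : StCompA.{u}) (hCB : StCompB.{u})
    (hVK : StVK.{u}) (hW : StW.{u}) (hIfA : StIfA.{u}) (hIfV2 : StIfV2.{u})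
    (hSylJ : StSylJ.{u}) (hLift : StLift.{u}) : StExist.{u} := by
  intro G _ _ hL hNsol hZN T hT hT1 L hLT
  haveI : Fact (Nat.Prime 2) := ⟨Nat.prime_two⟩
  obtain ⟨hT2, hTi, hJT, hJM⟩ := hSyl T L hLT.1
  obtain ⟨hVn, hVel, hQV⟩ := hV L
  have hCT := hZ hZN T L hLT
  have hPS := hS hNsol T L hT1 hLT
  obtain ⟨hred1, hred2⟩ := hRed (T.subgroupOf L) ((omegaCenterOf (pCoreOf 2 L)).subgroupOf L)
    hT2 hTi hQV hCT
  obtain ⟨hVQ, hVmax⟩ := hIfV2 L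
  obtain ⟨A, hA, hAJ, hAQ⟩ := hIfA T L hLT
  haveI hQn : (pCore 2 ↥L).Normal := Cfsg.Agent.H13.pCore_normal 2 ↥L
  have hQ2 : IsPGroup 2 ↥(pCore 2 ↥L) := Cfsg.Agent.H13.pCore_isPGroup 2 ↥L
  have hQT : pCore 2 ↥L ≤ T.subgroupOf L := by
    have hnd : ¬ 2 ∣ (T.subgroupOf L).index := by
      intro h
      exact (Nat.not_even_iff_odd.mpr hTi) (even_iff_two_dvd.mpr h)
    have := Cfsg.Agent.H13.pCore_le_sylow (hT2.toSylow hnd)
    simpa using this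
  have hAC : ¬ A ≤ Subgroup.centralizer
      (((omegaCenterOf (pCoreOf 2 L)).subgroupOf L : Subgroup ↥L) : Set ↥L) :=
    fun h => hAQ (le_trans (le_inf (hAJ.trans hJT) h) hred2)
  obtain ⟨a, haA, k, hkJ, hkC, hk3, hak, hkn, W, hWc, hWk⟩ :=
    hStruct ((omegaCenterOf (pCoreOf 2 L)).subgroupOf L) hVel hPS hred1 A hA hAC
  have haa : a * a = 1 := by
    have := hA.1.2 a haA
    rwa [pow_two] at this
  have haJ : a ∈ (thompsonSubgroupOf 2 T).subgroupOf L := hAJ haA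
  obtain ⟨x, hxo, hxC, hx3, hax, hxk, hxn⟩ := hCA (T.subgroupOf L)
    (Subgroup.centralizer (((omegaCenterOf (pCoreOf 2 L)).subgroupOf L : Subgroup ↥L) : Set ↥L))
    (pCore 2 ↥L) ((thompsonSubgroupOf 2 T).subgroupOf L) a k hT2 hTi inferInstance hQn hQV
    hred2 hCT hJT haJ haa hkC hk3 hak (fun g hg => hkn g (hJM hg))
  have hxQ : x ∉ pCore 2 ↥L := fun h => hxC (hQV h)
  obtain ⟨K, hKgen, hKJ, hK3, hQK, hxK, hKle⟩ := hCB (pCore 2 ↥L)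
    ((thompsonSubgroupOf 2 T).subgroupOf L) a x hQn hQ2 haJ hxo hxQ hx3 hax hxn
  have hKk : K ≤ Subgroup.zpowers k ⊔ Subgroup.centralizer
      (((omegaCenterOf (pCoreOf 2 L)).subgroupOf L : Subgroup ↥L) : Set ↥L) :=
    hKle.trans (sup_le ((Subgroup.zpowers_le).mpr hxk) (hQV.trans le_sup_right))
  have hVK4 := hVK ((omegaCenterOf (pCoreOf 2 L)).subgroupOf L) K W k x hVel hWc hWk hKk hxK
    hxo hxC
  have hW4 := hW ((omegaCenterOf (pCoreOf 2 L)).subgroupOf L) (T.subgroupOf L) (pCore 2 ↥L)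
    ((thompsonSubgroupOf 2 T).subgroupOf L) K A a x hVel hVQ hQV hVmax hT2 hQT hJT hAJ hA.1
    hA.2 hKJ hK3 hQK hVK4 haA hxK hxQ hax
  have hcomp := hLift T L K hLT.1
    (fun S hSL hS2 hJS => hSylJ T L S hLT.1 hSL hS2 hJS) hKgen hKJ hK3 hW4
  exact ⟨K.map L.subtype, hcomp, Subgroup.map_subtype_le K⟩

example (hRed : StRed.{u}) (hSyl : StIfSyl.{u}) (hV : StIfV.{u}) (hZ : StIfZ.{u})
    (hS : StIfS.{u}) (hStruct : StStruct.{u}) (hCA : StCompA.{u}) (hCB : StCompB.{u})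
    (hVK : StVK.{u}) (hW : StW.{u}) (hIfA : StIfA.{u}) (hIfV2 : StIfV2.{u})
    (hSylJ : StSylJ.{u}) (hLift : StLift.{u}) : StExist.{u} :=
  exist hRed hSyl hV hZ hS hStruct hCA hCB hVK hW hIfA hIfV2 hSylJ hLift

end Cfsg.Agent.H19.Sx
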