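import Cfsg.Agent.H19.SxDefs
import Cfsg.Agent.H13.PCore

/-!
# EXIST: the construction of a `J(T)`-component from ANY good datum `(A, a, k, W)`
(`k` of order 3 modulo `C = C_L(V)`, inverted modulo `C` by `a ∈ A ∈ 𝒜(L)`, `A ≤ J(T)`,
`[V, k]` inside a subgroup of order 4, `⟨k⟩C` normalized by `J(T)`): the component `K` has
`k ∈ K C`.  This is the form needed for the generation statement of S2949.
-/

set_option autoImplicit false
open Cfsg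

namespace Cfsg.Agent.H19.Sx

open Cfsg.Agent.H52.Sn

universe u

theorem mem_of_zpow_mul_mem {X : Type u} [Group X] (S C : Subgroup X) (hCS : C ≤ S) (k c : X)
    (i : ℤ) (hk3 : k ^ 3 ∈ C) (hc : c ∈ C) (hxS : k ^ i * c ∈ S) (hxC : k ^ i * c ∉ C) :
    k ∈ S := by
  have h3 : ∀ q : ℤ, (k ^ 3) ^ q ∈ C := fun q => C.zpow_mem hk3 q
  have hki : k ^ i = (k ^ 3) ^ (i / 3) * k ^ (i % 3) := by
    have e : (k ^ 3) ^ (i / 3) = k ^ (3 * (i / 3)) := by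
      rw [zpow_mul]; norm_cast
    rw [e, ← zpow_add, Int.mul_ediv_add_emod]
  have hkiS : k ^ i ∈ S := by
    have : k ^ i = (k ^ i * c) * c⁻¹ := by group
    rw [this]
    exact S.mul_mem hxS (hCS (C.inv_mem hc))
  have hr : i % 3 = 0 ∨ i % 3 = 1 ∨ i % 3 = 2 := by omega
  rcases hr with hr | hr | hr
  · exfalso
    apply hxC
    rw [hki, hr, zpow_zero, mul_one]
    exact C.mul_mem (h3 _) hc
  · have e : k = ((k ^ 3) ^ (i / 3))⁻¹ * k ^ i := by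
      rw [hki, hr, zpow_one]; group
    rw [e]
    exact S.mul_mem (hCS (C.inv_mem (h3 _))) hkiS
  · have h2 : k ^ (2 : ℤ) ∈ S := by
      have e : k ^ (2 : ℤ) = ((k ^ 3) ^ (i / 3))⁻¹ * k ^ i := by
        rw [hki, hr]; group
      rw [e]
      exact S.mul_mem (hCS (C.inv_mem (h3 _))) hkiS
    have e : k = k ^ (2 : ℤ) * k ^ (2 : ℤ) * (k ^ 3)⁻¹ := by group
    rw [e]
    exact S.mul_mem (S.mul_mem h2 h2) (hCS (C.inv_mem hk3))

/-- If `x ∈ ⟨k⟩C ∖ C` and `k³ ∈ C ⊴ X` then `k ∈ ⟨x⟩C`. -/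
theorem mem_zpowers_sup_of {X : Type u} [Group X] (C : Subgroup X) [hC : C.Normal] (k x : X)
    (hk3 : k ^ 3 ∈ C) (hx : x ∈ Subgroup.zpowers k ⊔ C) (hxC : x ∉ C) :
    k ∈ Subgroup.zpowers x ⊔ C := by
  have hx' : x ∈ ((Subgroup.zpowers k ⊔ C : Subgroup X) : Set X) := hx
  rw [Subgroup.mul_normal] at hx'
  obtain ⟨y, hy, c, hc, rfl⟩ := hx'
  obtain ⟨i, rfl⟩ := Subgroup.mem_zpowers_iff.mp hy
  exact mem_of_zpow_mul_mem (Subgroup.zpowers (k ^ i * c) ⊔ C) C le_sup_right k c i hk3 hc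
    ((le_sup_left : Subgroup.zpowers (k ^ i * c) ≤ _) (Subgroup.mem_zpowers _)) hxC

/-- BUILD: the component constructed from a good datum `(A, a, k, W)` inside `↥L`. -/
def StBuild : Prop := ∀ {G : Type u} [Group G] [Finite G],
  (∀ N : Subgroup G, IsTwoLocal N → Group.IsSolvable ↥N) →
  (∀ S : Sylow 2 G, Subgroup.centralizer (omegaCenterOf (S : Subgroup G) : Set G) ≤
      Subgroup.normalizer ((S : Subgroup G) : Set G)) →
  ∀ (T : Subgroup G), T ≠ ⊥ → ∀ (L : Subgroup G), L ∈ jOvergroups T →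
  ∀ (A W : Subgroup ↥L) (a k : ↥L),
  A ∈ maxElementaryAbelianSubgroups 2 ↥L → A ≤ (thompsonSubgroupOf 2 T).subgroupOf L → a ∈ A →
  k ∉ Subgroup.centralizer
    (((omegaCenterOf (pCoreOf 2 L)).subgroupOf L : Subgroup ↥L) : Set ↥L) →
  k ^ 3 ∈ Subgroup.centralizer
    (((omegaCenterOf (pCoreOf 2 L)).subgroupOf L : Subgroup ↥L) : Set ↥L) →
  a * k * a⁻¹ * k ∈ Subgroup.centralizer
    (((omegaCenterOf (pCoreOf 2 L)).subgroupOf L : Subgroup ↥L) : Set ↥L) →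
  (∀ g ∈ (thompsonSubgroupOf 2 T).subgroupOf L,
    g * k * g⁻¹ * k⁻¹ ∈ Subgroup.centralizer
      (((omegaCenterOf (pCoreOf 2 L)).subgroupOf L : Subgroup ↥L) : Set ↥L) ∨
    g * k * g⁻¹ * k ∈ Subgroup.centralizer
      (((omegaCenterOf (pCoreOf 2 L)).subgroupOf L : Subgroup ↥L) : Set ↥L)) →
  Nat.card ↥W = 4 →
  (∀ v ∈ (omegaCenterOf (pCoreOf 2 L)).subgroupOf L, k * v * k⁻¹ * v⁻¹ ∈ W) →
  ∃ K : Subgroup ↥L, IsJComponent T (K.map L.subtype) ∧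
    k ∈ K ⊔ Subgroup.centralizer
      (((omegaCenterOf (pCoreOf 2 L)).subgroupOf L : Subgroup ↥L) : Set ↥L)

/-- BUILD from the pieces. -/
theorem build (hRed : StRed.{u}) (hSyl : StIfSyl.{u}) (hV : StIfV.{u}) (hZ : StIfZ.{u})
    (hS : StIfS.{u}) (hCA : StCompA.{u}) (hCB : StCompB.{u})
    (hVK : StVK.{u}) (hW : StW.{u}) (hIfV2 : StIfV2.{u})
    (hSylJ : StSylJ.{u}) (hLift : StLift.{u}) : StBuild.{u} := by
  intro G _ _ hNsol hZN T hT1 L hLT A W a k hA hAJ haA hkC hk3 hak hkn hWc hWk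
  haveI : Fact (Nat.Prime 2) := ⟨Nat.prime_two⟩
  obtain ⟨hT2, hTi, hJT, hJM⟩ := hSyl T L hLT.1
  obtain ⟨hVn, hVel, hQV⟩ := hV L
  have hCT := hZ hZN T L hLT
  have hPS := hS hNsol T L hT1 hLT
  obtain ⟨hred1, hred2⟩ := hRed (T.subgroupOf L) ((omegaCenterOf (pCoreOf 2 L)).subgroupOf L)
    hT2 hTi hQV hCT
  obtain ⟨hVQ, hVmax⟩ := hIfV2 L
  haveI hQn : (pCore 2 ↥L).Normal := Cfsg.Agent.H13.pCore_normal 2 ↥L
  have hQ2 : IsPGroup 2 ↥(pCore 2 ↥L) := Cfsg.Agent.H13.pCore_isPGroup 2 ↥L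
  have hQT : pCore 2 ↥L ≤ T.subgroupOf L := by
    have hnd : ¬ 2 ∣ (T.subgroupOf L).index := by
      intro h
      exact (Nat.not_even_iff_odd.mpr hTi) (even_iff_two_dvd.mpr h)
    have := Cfsg.Agent.H13.pCore_le_sylow (hT2.toSylow hnd)
    simpa using this
  have haa : a * a = 1 := by
    have := hA.1.2 a haA
    rwa [pow_two] at this
  have haJ : a ∈ (thompsonSubgroupOf 2 T).subgroupOf L := hAJ haA
  obtain ⟨x, hxo, hxC, hx3, hax, hxk, hxn⟩ := hCA (T.subgroupOf L)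
    (Subgroup.centralizer (((omegaCenterOf (pCoreOf 2 L)).subgroupOf L : Subgroup ↥L) : Set ↥L))
    (pCore 2 ↥L) ((thompsonSubgroupOf 2 T).subgroupOf L) a k hT2 hTi inferInstance hQn hQV
    hred2 hCT hJT haJ haa hkC hk3 hak hkn
  have hxQ : x ∉ pCore 2 ↥L := fun h => hxC (hQV h)
  obtain ⟨K, hKgen, hKJ, hK3, hQK, hxK, hKle⟩ := hCB (pCore 2 ↥L)
    ((thompsonSubgroupOf 2 T).subgroupOf L) a x hQn hQ2 haJ hxo hxQ hx3 hax hxn
  have hKk : K ≤ Subgroup.zpowers k ⊔ Subgroup.centralizer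
      (((omegaCenterOf (pCoreOf 2 L)).subgroupOf L : Subgroup ↥L) : Set ↥L) :=
    hKle.trans (sup_le ((Subgroup.zpowers_le).mpr hxk) (hQV.trans le_sup_right))
  have hVK4 := hVK ((omegaCenterOf (pCoreOf 2 L)).subgroupOf L) K W k x hVel hWc hWk hKk hxK
    hxo hxC
  have hW4 := hW ((omegaCenterOf (pCoreOf 2 L)).subgroupOf L) (T.subgroupOf L) (pCore 2 ↥L)
    ((thompsonSubgroupOf 2 T).subgroupOf L) K A a x hVel hVQ hQV hVmax hT2 hQT hJT hAJ hA.1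
    hA.2 hKJ hK3 hQK hVK4 haA hxK hxQ hax
  have hcomp := hLift T L K hLT.1
    (fun S hSL hS2 hJS => hSylJ T L S hLT.1 hSL hS2 hJS) hKgen hKJ hK3 hW4
  refine ⟨K, hcomp, ?_⟩
  have h1 := mem_zpowers_sup_of
    (Subgroup.centralizer (((omegaCenterOf (pCoreOf 2 L)).subgroupOf L : Subgroup ↥L) : Set ↥L))
    k x hk3 hxk hxC
  exact (sup_le ((Subgroup.zpowers_le).mpr (le_sup_left (a := K) hxK)) le_sup_right) h1

/-- EXIST from BUILD, STRUCT and IFA. -/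
theorem exist_of_build (hBuild : StBuild.{u}) (hRed : StRed.{u}) (hSyl : StIfSyl.{u})
    (hV : StIfV.{u}) (hZ : StIfZ.{u}) (hS : StIfS.{u}) (hStruct : StStruct.{u})
    (hIfA : StIfA.{u}) : StExist.{u} := by
  intro G _ _ hL hNsol hZN T hT hT1 L hLT
  obtain ⟨hT2, hTi, hJT, hJM⟩ := hSyl T L hLT.1
  obtain ⟨hVn, hVel, hQV⟩ := hV L
  have hCT := hZ hZN T L hLT
  have hPS := hS hNsol T L hT1 hLT
  obtain ⟨hred1, hred2⟩ := hRed (T.subgroupOf L) ((omegaCenterOf (pCoreOf 2 L)).subgroupOf L)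
    hT2 hTi hQV hCT
  obtain ⟨A, hA, hAJ, hAQ⟩ := hIfA T L hLT
  have hAC : ¬ A ≤ Subgroup.centralizer
      (((omegaCenterOf (pCoreOf 2 L)).subgroupOf L : Subgroup ↥L) : Set ↥L) :=
    fun h => hAQ (le_trans (le_inf (hAJ.trans hJT) h) hred2)
  obtain ⟨a, haA, k, hkJ, hkC, hk3, hak, hkn, W, hWc, hWk⟩ :=
    hStruct ((omegaCenterOf (pCoreOf 2 L)).subgroupOf L) hVel hPS hred1 A hA hAC
  obtain ⟨K, hK, -⟩ := hBuild hNsol hZN T hT1 L hLT A W a k hA hAJ haA hkC hk3 hak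
    (fun g hg => hkn g (hJM hg)) hWc hWk
  exact ⟨K.map L.subtype, hK, Subgroup.map_subtype_le K⟩

end Cfsg.Agent.H19.Sx
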