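import Cfsg.Agent.H19.SxWBridge
import Cfsg.Agent.H36.JxAct
import Cfsg.Agent.H3.JxCnt
import Cfsg.Agent.H75.JxSq
import Cfsg.Agent.H16.JxFun

/-!
# SX-W, hypothesis-free: helper82's W4 chain (ACT by helper36, CNT by helper3, SQ by helper75,
FUN by helper16) through the bridge `w_of_w4`.
-/

set_option autoImplicit false
open Cfsg

namespace Cfsg.Agent.H19.Sx

universe u

theorem w : StW.{u} :=
  w_of_w4 (Cfsg.Agent.H82.Jx.w4_of Cfsg.Agent.H36.Jx.act Cfsg.Agent.H3.Jx.cnt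
    Cfsg.Agent.H75.JxS.sq Cfsg.Agent.H16.Jx.fn)

example : Cfsg.Agent.H19.Sx.StW.{u} := w

end Cfsg.Agent.H19.Sx
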