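import Cfsg.Agent.H19.SxDefs
import Cfsg.Agent.H82.JxDefs
import Cfsg.Agent.H13.PCore

/-!
# SX-W from helper82's W4 statement (`Cfsg.Agent.H82.Jx.StW4`)

Bridge: with `Q* := Q ⊔ C_A(x mod Q)` (so that `|A : A ∩ Q*| ≤ 2`) and `x` replaced by its
power of order 3, helper82's `StW4` gives `wOf K = ⊥ ∨ card (wOf K) = 4`; `pCoreOf 2 K = K ⊓ Q`
and `wOf K ≠ ⊥` because `card ⁅V, K⁆ = 4`.
-/

set_option autoImplicit false
open Cfsg

namespace Cfsg.Agent.H19.Sx

universe u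

/-- The subgroup of the elements centralizing `x` modulo the normal subgroup `Q`. -/
def centMod {X : Type u} [Group X] (Q : Subgroup X) [hQ : Q.Normal] (x : X) : Subgroup X where
  carrier := {g | g * x * g⁻¹ * x⁻¹ ∈ Q}
  one_mem' := by simp
  mul_mem' := by
    intro g h hg hh
    have e : g * h * x * (g * h)⁻¹ * x⁻¹ =
        g * (h * x * h⁻¹ * x⁻¹) * g⁻¹ * (g * x * g⁻¹ * x⁻¹) := by group
    show g * h * x * (g * h)⁻¹ * x⁻¹ ∈ Q
    rw [e]
    exact Q.mul_mem (hQ.conj_mem _ hh g) hg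
  inv_mem' := by
    intro g hg
    have e : g⁻¹ * x * g⁻¹⁻¹ * x⁻¹ = g⁻¹ * (g * x * g⁻¹ * x⁻¹)⁻¹ * g⁻¹⁻¹ := by group
    show g⁻¹ * x * g⁻¹⁻¹ * x⁻¹ ∈ Q
    rw [e]
    exact hQ.conj_mem _ (Q.inv_mem hg) g⁻¹

theorem mem_centMod {X : Type u} [Group X] (Q : Subgroup X) [hQ : Q.Normal] (x g : X) :
    g ∈ centMod Q x ↔ g * x * g⁻¹ * x⁻¹ ∈ Q := Iff.rfl

theorem le_normalizer_of_comm {X : Type u} [Group X] (K J : Subgroup X) (h : ⁅K, J⁆ = K) :
    J ≤ Subgroup.normalizer (K : Set X) := by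
  have key : ∀ j ∈ J, ∀ k ∈ K, j * k * j⁻¹ ∈ K := by
    intro j hj k hk
    have h1 : j * k * j⁻¹ * k⁻¹ ∈ K := by
      have h2 := Subgroup.commutator_mem_commutator hj hk
      rw [Subgroup.commutator_comm, h, commutatorElement_def] at h2
      exact h2
    have e : j * k * j⁻¹ = (j * k * j⁻¹ * k⁻¹) * k := by group
    rw [e]
    exact K.mul_mem h1 hk
  intro j hj
  rw [Subgroup.mem_normalizer_iff]
  intro k
  constructor
  · exact key j hj k
  · intro hk
    have h1 := key j⁻¹ (J.inv_mem hj) _ hk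
    have e : j⁻¹ * (j * k * j⁻¹) * j⁻¹⁻¹ = k := by group
    rwa [e] at h1

/-- An element whose cube and whose `2^k`-th power lie in the normal subgroup `Q` lies in `Q`. -/
theorem mem_of_pow_mem {X : Type u} [Group X] (Q : Subgroup X) [hQ : Q.Normal] (g : X) (k : ℕ)
    (h2 : g ^ (2 ^ k) ∈ Q) (h3 : g ^ 3 ∈ Q) : g ∈ Q := by
  rw [← QuotientGroup.eq_one_iff] at h2 h3 ⊢
  rw [QuotientGroup.mk_pow] at h2 h3
  have d2 := orderOf_dvd_of_pow_eq_one h2
  have d3 := orderOf_dvd_of_pow_eq_one h3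
  have hc : Nat.Coprime 3 (2 ^ k) := Nat.Coprime.pow_right k (by decide)
  have h1 : orderOf (g : X ⧸ Q) ∣ 1 := by
    have := Nat.dvd_gcd d3 d2
    rwa [hc.gcd_eq_one] at this
  exact orderOf_eq_one_iff.mp (Nat.dvd_one.mp h1)


/-- SX-W from helper82's `StW4`. -/
theorem w_of_w4 (h4 : Cfsg.Agent.H82.Jx.StW4.{u}) : StW.{u} := by
  intro X _ _ V T Q J K A a x hVn hQn hVel hVQ hQV hVmax hT2 hQT hJT hAJ hAel hAmax hKJ hK3
    hQK hVK4 haA hxK hxQ hax
  haveI : Fact (Nat.Prime 2) := ⟨Nat.prime_two⟩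
  have hQ2 : IsPGroup 2 ↥Q := hT2.to_le hQT
  have hJN : J ≤ Subgroup.normalizer (K : Set X) := le_normalizer_of_comm K J hKJ
  -- cubes of elements of K lie in Q
  have hidx : (Q.subgroupOf K).index = 3 := by
    have h1 : (K ⊓ Q).relIndex K = Q.relIndex K := Subgroup.inf_relIndex_left K Q
    rw [h1] at hK3
    exact hK3
  have hcube : ∀ g ∈ K, g ^ 3 ∈ Q := by
    intro g hg
    have h1 := Subgroup.pow_index_mem (Q.subgroupOf K) (⟨g, hg⟩ : ↥K)
    rw [hidx, Subgroup.mem_subgroupOf] at h1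
    simpa using h1
  -- the power x' of x of order 3
  obtain ⟨e, m, hm, hn⟩ := Nat.exists_eq_two_pow_mul_odd (orderOf_pos x).ne'
  have hx'K : x ^ (2 ^ e) ∈ K := K.pow_mem hxK _
  have hx'Q : x ^ (2 ^ e) ∉ Q := fun h => hxQ (mem_of_pow_mem Q x e h (hcube x hxK))
  have hax' : a * x ^ (2 ^ e) * a⁻¹ = (x ^ (2 ^ e))⁻¹ := by
    rw [← conj_pow, hax, inv_pow]
  have hx'3 : (x ^ (2 ^ e)) ^ 3 = 1 := by
    have hq : (x ^ (2 ^ e)) ^ 3 ∈ Q := hcube _ hx'K
    obtain ⟨k, hk⟩ := hQ2 ⟨(x ^ (2 ^ e)) ^ 3, hq⟩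
    have hk' : ((x ^ (2 ^ e)) ^ 3) ^ (2 ^ k) = 1 := by
      have := congrArg Subtype.val hk
      simpa using this
    have hmm : ((x ^ (2 ^ e)) ^ 3) ^ m = 1 := by
      rw [← pow_mul, ← pow_mul, mul_comm 3 m, ← mul_assoc, ← hn, pow_mul, pow_orderOf_eq_one,
        one_pow]
    have d1 := orderOf_dvd_of_pow_eq_one hk'
    have d2 := orderOf_dvd_of_pow_eq_one hmm
    have hc : Nat.Coprime (2 ^ k) m := Nat.Coprime.pow_left k (Nat.coprime_two_left.mpr hm)
    have h1 : orderOf ((x ^ (2 ^ e)) ^ 3) ∣ 1 := by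
      have := Nat.dvd_gcd d1 d2
      rwa [hc.gcd_eq_one] at this
    exact orderOf_eq_one_iff.mp (Nat.dvd_one.mp h1)
  have hx'1 : x ^ (2 ^ e) ≠ 1 := fun h => hx'Q (h ▸ Q.one_mem)
  have hx'o : orderOf (x ^ (2 ^ e)) = 3 := by
    have d := orderOf_dvd_of_pow_eq_one hx'3
    rcases (Nat.dvd_prime Nat.prime_three).mp d with h | h
    · exact absurd (orderOf_eq_one_iff.mp h) hx'1
    · exact h
  obtain ⟨y, hyK, hyQ, hay, hy3, hyo⟩ : ∃ y : X, y ∈ K ∧ y ∉ Q ∧ a * y * a⁻¹ = y⁻¹ ∧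
      y ^ 3 = 1 ∧ orderOf y = 3 := ⟨x ^ (2 ^ e), hx'K, hx'Q, hax', hx'3, hx'o⟩
  clear hx'K hx'Q hax' hx'3 hx'o hx'1 hn hm
  -- O₂(K) = K ⊓ Q
  have hP : pCoreOf 2 K = K ⊓ Q := by
    apply le_antisymm
    · rintro _ ⟨g, hg, rfl⟩
      refine ⟨g.2, ?_⟩
      obtain ⟨k, hk⟩ := (Cfsg.Agent.H13.pCore_isPGroup 2 ↥K) ⟨g, hg⟩
      have hk' : ((g : X)) ^ (2 ^ k) = 1 := by
        have := congrArg (fun t : ↥(pCore 2 ↥K) => ((t : ↥K) : X)) hk
        simpa using this
      exact mem_of_pow_mem Q (g : X) k (hk' ▸ Q.one_mem) (hcube _ g.2)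
    · have hn : ((K ⊓ Q).subgroupOf K).Normal := by
        rw [Subgroup.inf_subgroupOf_left]
        infer_instance
      have h2 : IsPGroup 2 ↥((K ⊓ Q).subgroupOf K) :=
        (hQ2.to_le (inf_le_right : K ⊓ Q ≤ Q)).comap_subtype
      have h3 := Cfsg.Agent.H13.le_pCore hn h2
      have h4 := Subgroup.map_mono (f := K.subtype) h3
      rw [Subgroup.map_subgroupOf_eq_of_le inf_le_left] at h4
      exact h4
  -- K = (K ⊓ Q) ⟨y⟩
  have hyP : y ∉ K ⊓ Q := fun h => hyQ h.2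
  have hKgen : K = (K ⊓ Q) ⊔ Subgroup.zpowers y := by
    have hle : (K ⊓ Q) ⊔ Subgroup.zpowers y ≤ K :=
      sup_le inf_le_left ((Subgroup.zpowers_le).mpr hyK)
    apply le_antisymm _ hle
    have h1 := Subgroup.relIndex_mul_relIndex (K ⊓ Q) ((K ⊓ Q) ⊔ Subgroup.zpowers y) K
      le_sup_left hle
    rw [hK3] at h1
    have h2 : (K ⊓ Q).relIndex ((K ⊓ Q) ⊔ Subgroup.zpowers y) ≠ 1 := by
      intro h
      rw [Subgroup.relIndex_eq_one] at h
      exact hyP (h ((le_sup_right : Subgroup.zpowers y ≤ _) (Subgroup.mem_zpowers y)))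
    have h3 : (K ⊓ Q).relIndex ((K ⊓ Q) ⊔ Subgroup.zpowers y) ∣ 3 := Dvd.intro _ h1
    rcases (Nat.dvd_prime Nat.prime_three).mp h3 with h | h
    · exact absurd h h2
    · rw [h] at h1
      have h5 : ((K ⊓ Q) ⊔ Subgroup.zpowers y).relIndex K = 1 := by omega
      exact (Subgroup.relIndex_eq_one).mp h5
  have hKle : K ≤ Subgroup.zpowers y ⊔ Q := by
    rw [hKgen]
    exact sup_le (inf_le_right.trans le_sup_right) le_sup_left
  -- decomposition of the elements of K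
  have hdec : ∀ g ∈ K, g ∈ Q ∨ g * y⁻¹ ∈ Q ∨ g * y ∈ Q := by
    intro g hg
    have hg' : g ∈ ((Subgroup.zpowers y ⊔ Q : Subgroup X) : Set X) := hKle hg
    rw [Subgroup.mul_normal] at hg'
    obtain ⟨z, hz, q, hq, rfl⟩ := hg'
    obtain ⟨i, rfl⟩ := Subgroup.mem_zpowers_iff.mp hz
    show y ^ i * q ∈ Q ∨ y ^ i * q * y⁻¹ ∈ Q ∨ y ^ i * q * y ∈ Q
    have hi : y ^ i = y ^ (i % 3) := by
      have := zpow_mod_orderOf y i
      rw [hyo] at this
      exact this.symm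
    have hr : i % 3 = 0 ∨ i % 3 = 1 ∨ i % 3 = 2 := by omega
    rcases hr with hr | hr | hr
    · left
      rw [hi, hr, zpow_zero, one_mul]
      exact hq
    · right; left
      rw [hi, hr, zpow_one]
      exact hQn.conj_mem q hq y
    · right; right
      rw [hi, hr]
      have e : y ^ (2 : ℤ) * q * y = y ^ (3 : ℕ) * (y⁻¹ * q * y⁻¹⁻¹) := by group
      rw [e, hy3, one_mul]
      exact hQn.conj_mem q hq y⁻¹
  -- the enlarged 2-group Q*
  have hBN : A ⊓ centMod Q y ≤ Subgroup.normalizer (K : Set X) :=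
    inf_le_left.trans (hAJ.trans hJN)
  have hQsT : Q ⊔ (A ⊓ centMod Q y) ≤ T := sup_le hQT (inf_le_left.trans (hAJ.trans hJT))
  have hKc : ∀ b ∈ centMod Q y, K ≤ centMod Q b := by
    intro b hb
    refine hKle.trans (sup_le ((Subgroup.zpowers_le).mpr ?_) ?_)
    · rw [mem_centMod] at hb ⊢
      have e : y * b * y⁻¹ * b⁻¹ = (b * y * b⁻¹ * y⁻¹)⁻¹ := by group
      rw [e]
      exact Q.inv_mem hb
    · intro q hq
      rw [mem_centMod]
      have e : q * b * q⁻¹ * b⁻¹ = q * (b * q⁻¹ * b⁻¹) := by group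
      rw [e]
      exact Q.mul_mem hq (hQn.conj_mem _ (Q.inv_mem hq) b)
  have hKQs : K ≤ Subgroup.normalizer ((Q ⊔ (A ⊓ centMod Q y) : Subgroup X) : Set X) := by
    have key : ∀ k ∈ K, ∀ g ∈ Q ⊔ (A ⊓ centMod Q y), k * g * k⁻¹ ∈ Q ⊔ (A ⊓ centMod Q y) := by
      intro k hk g hg
      have h1 : (Q ⊔ (A ⊓ centMod Q y)).map (MulAut.conj k).toMonoidHom ≤
          Q ⊔ (A ⊓ centMod Q y) := by
        rw [Subgroup.map_sup]
        apply sup_le
        · rintro _ ⟨q, hq, rfl⟩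
          exact le_sup_left (a := Q) (hQn.conj_mem q hq k)
        · rintro _ ⟨b, hb, rfl⟩
          have h2 : k * b * k⁻¹ * b⁻¹ ∈ Q := hKc b hb.2 hk
          have e : (MulAut.conj k).toMonoidHom b = (k * b * k⁻¹ * b⁻¹) * b := by
            simp [MulAut.conj_apply]
          rw [e]
          exact Subgroup.mul_mem _ (le_sup_left (a := Q) h2) (le_sup_right (a := Q) hb)
      exact h1 ⟨g, hg, rfl⟩
    intro k hk
    rw [Subgroup.mem_normalizer_iff]
    intro g
    constructor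
    · exact key k hk g
    · intro hg
      have h1 := key k⁻¹ (K.inv_mem hk) _ hg
      have e : k⁻¹ * (k * g * k⁻¹) * k⁻¹⁻¹ = g := by group
      rwa [e] at h1
  -- |A : A ∩ Q*| ≤ 2
  have haa : a * a = 1 := by
    have := hAel.2 a haA
    rwa [pow_two] at this
  have hAN : A ≤ Subgroup.normalizer (K : Set X) := hAJ.trans hJN
  have hab : ∀ b ∈ A, b ∉ centMod Q y → a * b ∈ centMod Q y := by
    intro b hb hbN
    have hbK : b * y * b⁻¹ ∈ K := ((Subgroup.mem_normalizer_iff.mp (hAN hb)) y).mp hyK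
    rcases hdec _ hbK with h | h | h
    · exfalso
      apply hyQ
      have := hQn.conj_mem _ h b⁻¹
      have e : b⁻¹ * (b * y * b⁻¹) * b⁻¹⁻¹ = y := by group
      rwa [e] at this
    · exact absurd h hbN
    · rw [mem_centMod]
      have e : a * b * y * (a * b)⁻¹ * y⁻¹ =
          a * (b * y * b⁻¹ * y) * a⁻¹ * ((a * y * a⁻¹)⁻¹ * y⁻¹) := by group
      rw [e, hay, inv_inv, mul_inv_cancel, mul_one]
      exact hQn.conj_mem _ h a
  have hcard : Nat.card ↥A ≤ 2 * Nat.card ↥(A ⊓ (Q ⊔ (A ⊓ centMod Q y))) := by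
    have h1 : Nat.card ↥(A ⊓ centMod Q y) ≤ Nat.card ↥(A ⊓ (Q ⊔ (A ⊓ centMod Q y))) :=
      Subgroup.card_le_of_le (le_inf inf_le_left le_sup_right)
    have h2 : Nat.card ↥A ≤ 2 * Nat.card ↥(A ⊓ centMod Q y) := by
      have hsub : (A : Set X) ⊆ ((A ⊓ centMod Q y : Subgroup X) : Set X) ∪
          (fun b => a * b) '' ((A ⊓ centMod Q y : Subgroup X) : Set X) := by
        intro b hb
        by_cases hbN : b ∈ centMod Q y
        · left
          exact ⟨hb, hbN⟩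
        · right
          refine ⟨a * b, ⟨A.mul_mem haA hb, hab b hb hbN⟩, ?_⟩
          show a * (a * b) = b
          rw [← mul_assoc, haa, one_mul]
      have h3 := Set.ncard_le_ncard hsub (Set.toFinite _)
      have h4' := Set.ncard_union_le ((A ⊓ centMod Q y : Subgroup X) : Set X)
        ((fun b => a * b) '' ((A ⊓ centMod Q y : Subgroup X) : Set X))
      have h5 := Set.ncard_image_le (f := fun b => a * b)
        (s := ((A ⊓ centMod Q y : Subgroup X) : Set X)) (Set.toFinite _)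
      have e1 : Nat.card ↥A = (A : Set X).ncard := Nat.card_coe_set_eq (A : Set X)
      have e2 : Nat.card ↥(A ⊓ centMod Q y) = ((A ⊓ centMod Q y : Subgroup X) : Set X).ncard :=
        Nat.card_coe_set_eq ((A ⊓ centMod Q y : Subgroup X) : Set X)
      omega
    omega
  have hres := h4 T (Q ⊔ (A ⊓ centMod Q y)) A K a y (hT2.to_le hQsT) hQsT hKQs
    (sup_le hQK hBN) (by rw [hP]; exact inf_le_right.trans le_sup_left) (hAJ.trans hJT) hAel
    (fun B _ hB => hAmax B hB) haA (hAN haA) hyK hyo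
    (by rw [hay, inv_mul_cancel]; exact Subgroup.one_mem _) hcard (by rw [hP]; exact hKgen)
  have hw : wOf K = ⁅omegaCenterOf (K ⊓ Q), K⁆ := by
    unfold wOf
    rw [hP]
  rw [hw] at hres
  rcases hres.1 with hbot | h4'
  · exfalso
    have hZc : ∀ z ∈ omegaCenterOf (K ⊓ Q), ∀ g ∈ K, z * g = g * z := by
      intro z hz g hg
      have h1 := Subgroup.commutator_mem_commutator hz hg
      rw [hbot, Subgroup.mem_bot, commutatorElement_def] at h1
      have e : z * g = (z * g * z⁻¹ * g⁻¹) * (g * z) := by group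
      rw [e, h1, one_mul]
    have hVZ : ∀ v ∈ V, ∀ g ∈ K, g * v * g⁻¹ * v⁻¹ ∈ omegaCenterOf (K ⊓ Q) := by
      intro v hv g hg
      have hcV : g * v * g⁻¹ * v⁻¹ ∈ V := V.mul_mem (hVn.conj_mem v hv g) (V.inv_mem hv)
      have hcK : g * v * g⁻¹ * v⁻¹ ∈ K := by
        have hvN := hQK (hVQ hv)
        have h1 : v * g⁻¹ * v⁻¹ ∈ K :=
          ((Subgroup.mem_normalizer_iff.mp hvN) g⁻¹).mp (K.inv_mem hg)
        have e : g * v * g⁻¹ * v⁻¹ = g * (v * g⁻¹ * v⁻¹) := by group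
        rw [e]
        exact K.mul_mem hg h1
      unfold omegaCenterOf omegaOne
      apply Subgroup.subset_closure
      refine ⟨⟨⟨hcK, hVQ hcV⟩, Subgroup.mem_centralizer_iff.mpr ?_⟩, ?_⟩
      · intro p hp
        exact ((Subgroup.mem_centralizer_iff.mp (hQV hp.2)) _ hcV).symm
      · exact hVel.2 _ hcV
    have hsq : ∀ v ∈ V, y * y * v = v * (y * y) := by
      intro v hv
      have hc := hVZ v hv y hyK
      have hcV : y * v * y⁻¹ * v⁻¹ ∈ V := V.mul_mem (hVn.conj_mem v hv y) (V.inv_mem hv)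
      have h1 := hZc _ hc y hyK
      have h2 : (y * v * y⁻¹ * v⁻¹) * (y * v * y⁻¹ * v⁻¹) = 1 := by
        have := hVel.2 _ hcV
        rwa [pow_two] at this
      have e1 : y * v = (y * v * y⁻¹ * v⁻¹) * v * y := by group
      obtain ⟨c, hc_def⟩ : ∃ c, c = y * v * y⁻¹ * v⁻¹ := ⟨_, rfl⟩
      rw [← hc_def] at h1 h2 e1
      calc y * y * v = y * (y * v) := by rw [mul_assoc]
        _ = y * (c * v * y) := by rw [e1]
        _ = (y * c) * (v * y) := by simp only [mul_assoc]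
        _ = (c * y) * (v * y) := by rw [← h1]
        _ = c * (y * v) * y := by simp only [mul_assoc]
        _ = c * (c * v * y) * y := by rw [e1]
        _ = (c * c) * v * y * y := by simp only [mul_assoc]
        _ = v * (y * y) := by rw [h2, one_mul, mul_assoc]
    have hy4 : (y * y) * (y * y) = y := by
      have e : (y * y) * (y * y) = y ^ 3 * y := by
        simp only [pow_succ, pow_zero, one_mul, mul_assoc]
      rw [e, hy3, one_mul]
    have hyV : y ∈ Subgroup.centralizer (V : Set X) := by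
      rw [Subgroup.mem_centralizer_iff]
      intro v hv
      have h : (y * y) * (y * y) * v = v * ((y * y) * (y * y)) := by
        rw [mul_assoc, hsq v hv, ← mul_assoc, hsq v hv, mul_assoc]
      rw [hy4] at h
      exact h.symm
    have hKC : K ≤ Subgroup.centralizer (V : Set X) := by
      rw [hKgen]
      exact sup_le (inf_le_right.trans hQV) ((Subgroup.zpowers_le).mpr hyV)
    have hbotV : ⁅V, K⁆ = ⊥ := by
      rw [Subgroup.commutator_comm]
      exact (Subgroup.commutator_eq_bot_iff_le_centralizer).mpr hKC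
    rw [hbotV] at hVK4
    simp at hVK4
  · exact h4'

end Cfsg.Agent.H19.Sx
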