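import Cfsg.Agent.H64.TmDefs
import Cfsg.Agent.H19.TnBase

/-!
# TM-XPAIRS (piece for helper64's S3701 project): no product of two conjugates of `x` lies in `S₁^G`
(plus normal-form computations in the configuration `Cfg`)
-/

set_option autoImplicit false

namespace Cfsg.Agent.H19.Tm

open Subgroup Cfsg.Agent.H64.Tm

universe u

variable {G : Type u} [Group G] {H T : Subgroup G} {a b c x y : G}

theorem nf_mul (cfg : Cfg G H T a b c x y) (i j k i' j' k' : ℕ) :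
    a ^ i * b ^ j * c ^ k * (a ^ i' * b ^ j' * c ^ k') =
      a ^ (i + i') * b ^ (j + j') * c ^ (k + k') := by
  have hBA : b ^ j * a ^ i' = a ^ i' * b ^ j := ((show Commute a b from cfg.ab).pow_pow i' j).eq.symm
  have hCA : c ^ k * a ^ i' = a ^ i' * c ^ k := ((show Commute a c from cfg.ac).pow_pow i' k).eq.symm
  have hCB : c ^ k * b ^ j' = b ^ j' * c ^ k := ((show Commute b c from cfg.bc).pow_pow j' k).eq.symm
  rw [pow_add, pow_add, pow_add]
  calc a ^ i * b ^ j * c ^ k * (a ^ i' * b ^ j' * c ^ k')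
      = a ^ i * b ^ j * (c ^ k * a ^ i') * b ^ j' * c ^ k' := by simp only [mul_assoc]
    _ = a ^ i * b ^ j * (a ^ i' * c ^ k) * b ^ j' * c ^ k' := by rw [hCA]
    _ = a ^ i * (b ^ j * a ^ i') * (c ^ k * b ^ j') * c ^ k' := by simp only [mul_assoc]
    _ = a ^ i * (a ^ i' * b ^ j) * (b ^ j' * c ^ k) * c ^ k' := by rw [hBA, hCB]
    _ = a ^ i * a ^ i' * (b ^ j * b ^ j') * (c ^ k * c ^ k') := by simp only [mul_assoc]

theorem nf_one_of_dvd (cfg : Cfg G H T a b c x y) {i j k : ℕ} (hi : 3 ∣ i) (hj : 3 ∣ j) (hk : 3 ∣ k) :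
    a ^ i * b ^ j * c ^ k = 1 := by
  obtain ⟨i, rfl⟩ := hi
  obtain ⟨j, rfl⟩ := hj
  obtain ⟨k, rfl⟩ := hk
  rw [pow_mul, pow_mul, pow_mul, cfg.a3, cfg.b3, cfg.c3, one_pow, one_pow, one_pow, one_mul, one_mul]

theorem nf_inj (cfg : Cfg G H T a b c x y) {i j k i' j' k' : ℕ}
    (h : a ^ i * b ^ j * c ^ k = a ^ i' * b ^ j' * c ^ k') :
    3 ∣ i + 2 * i' ∧ 3 ∣ j + 2 * j' ∧ 3 ∣ k + 2 * k' := by
  apply cfg.indep
  rw [← nf_mul cfg, h, nf_mul cfg]
  exact nf_one_of_dvd cfg (by omega) (by omega) (by omega)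

theorem nf_mem (cfg : Cfg G H T a b c x y) (i j k : ℕ) : a ^ i * b ^ j * c ^ k ∈ T :=
  T.mul_mem (T.mul_mem (T.pow_mem cfg.aT i) (T.pow_mem cfg.bT j)) (T.pow_mem cfg.cT k)

theorem ainv (cfg : Cfg G H T a b c x y) : a⁻¹ = a ^ 2 :=
  inv_eq_of_mul_eq_one_right (by rw [← pow_succ']; exact cfg.a3)

theorem binv (cfg : Cfg G H T a b c x y) : b⁻¹ = b ^ 2 :=
  inv_eq_of_mul_eq_one_right (by rw [← pow_succ']; exact cfg.b3)

theorem cinv (cfg : Cfg G H T a b c x y) : c⁻¹ = c ^ 2 :=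
  inv_eq_of_mul_eq_one_right (by rw [← pow_succ']; exact cfg.c3)

theorem sx (cfg : Cfg G H T a b c x y) (i j k : ℕ) :
    SemiconjBy x (a ^ i * b ^ j * c ^ k) (a ^ (2 * i) * b ^ (2 * j) * c ^ k) := by
  have h1 : SemiconjBy x a (a ^ 2) := by
    have h := cfg.xa
    rw [ainv cfg] at h
    exact h
  have h2 : SemiconjBy x b (b ^ 2) := by
    have h := cfg.xb
    rw [binv cfg] at h
    exact h
  have h3 : SemiconjBy x c c := cfg.xc
  have h := ((h1.pow_right i).mul_right (h2.pow_right j)).mul_right (h3.pow_right k)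
  rwa [← pow_mul, ← pow_mul] at h

theorem sy (cfg : Cfg G H T a b c x y) (i j k : ℕ) :
    SemiconjBy y (a ^ i * b ^ j * c ^ k) (a ^ (2 * i) * b ^ j * c ^ (2 * k)) := by
  have h1 : SemiconjBy y a (a ^ 2) := by
    have h := cfg.ya
    rw [ainv cfg] at h
    exact h
  have h2 : SemiconjBy y b b := cfg.yb
  have h3 : SemiconjBy y c (c ^ 2) := by
    have h := cfg.yc
    rw [cinv cfg] at h
    exact h
  have h := ((h1.pow_right i).mul_right (h2.pow_right j)).mul_right (h3.pow_right k)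
  rwa [← pow_mul, ← pow_mul] at h

theorem sxy (cfg : Cfg G H T a b c x y) (i j k : ℕ) :
    SemiconjBy (x * y) (a ^ i * b ^ j * c ^ k) (a ^ (2 * (2 * i)) * b ^ (2 * j) * c ^ (2 * k)) :=
  SemiconjBy.mul_left (sx cfg (2 * i) j (2 * k)) (sy cfg i j k)

theorem xy_sq (cfg : Cfg G H T a b c x y) : x * y * (x * y) = 1 := by
  calc x * y * (x * y) = x * (y * x) * y := by simp only [mul_assoc]
    _ = x * (x * y) * y := by rw [← cfg.xy]
    _ = (x * x) * (y * y) := by simp only [mul_assoc]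
    _ = 1 := by rw [cfg.x2, cfg.y2, one_mul]

theorem sq_x (cfg : Cfg G H T a b c x y) (i j k : ℕ) :
    (a ^ i * b ^ j * c ^ k * x) * (a ^ i * b ^ j * c ^ k * x) =
      a ^ (i + 2 * i) * b ^ (j + 2 * j) * c ^ (k + k) := by
  calc (a ^ i * b ^ j * c ^ k * x) * (a ^ i * b ^ j * c ^ k * x)
      = a ^ i * b ^ j * c ^ k * (x * (a ^ i * b ^ j * c ^ k)) * x := by simp only [mul_assoc]
    _ = a ^ i * b ^ j * c ^ k * (a ^ (2 * i) * b ^ (2 * j) * c ^ k * x) * x := by rw [(sx cfg i j k).eq]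
    _ = a ^ i * b ^ j * c ^ k * (a ^ (2 * i) * b ^ (2 * j) * c ^ k) * (x * x) := by
      simp only [mul_assoc]
    _ = _ := by rw [cfg.x2, mul_one, nf_mul cfg]

theorem sq_y (cfg : Cfg G H T a b c x y) (i j k : ℕ) :
    (a ^ i * b ^ j * c ^ k * y) * (a ^ i * b ^ j * c ^ k * y) =
      a ^ (i + 2 * i) * b ^ (j + j) * c ^ (k + 2 * k) := by
  calc (a ^ i * b ^ j * c ^ k * y) * (a ^ i * b ^ j * c ^ k * y)
      = a ^ i * b ^ j * c ^ k * (y * (a ^ i * b ^ j * c ^ k)) * y := by simp only [mul_assoc]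
    _ = a ^ i * b ^ j * c ^ k * (a ^ (2 * i) * b ^ j * c ^ (2 * k) * y) * y := by rw [(sy cfg i j k).eq]
    _ = a ^ i * b ^ j * c ^ k * (a ^ (2 * i) * b ^ j * c ^ (2 * k)) * (y * y) := by
      simp only [mul_assoc]
    _ = _ := by rw [cfg.y2, mul_one, nf_mul cfg]

theorem sq_xy (cfg : Cfg G H T a b c x y) (i j k : ℕ) :
    (a ^ i * b ^ j * c ^ k * (x * y)) * (a ^ i * b ^ j * c ^ k * (x * y)) =
      a ^ (i + 2 * (2 * i)) * b ^ (j + 2 * j) * c ^ (k + 2 * k) := by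
  calc (a ^ i * b ^ j * c ^ k * (x * y)) * (a ^ i * b ^ j * c ^ k * (x * y))
      = a ^ i * b ^ j * c ^ k * ((x * y) * (a ^ i * b ^ j * c ^ k)) * (x * y) := by
        simp only [mul_assoc]
    _ = a ^ i * b ^ j * c ^ k * (a ^ (2 * (2 * i)) * b ^ (2 * j) * c ^ (2 * k) * (x * y)) * (x * y) := by
        rw [(sxy cfg i j k).eq]
    _ = a ^ i * b ^ j * c ^ k * (a ^ (2 * (2 * i)) * b ^ (2 * j) * c ^ (2 * k)) *
          ((x * y) * (x * y)) := by simp only [mul_assoc]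
    _ = _ := by rw [xy_sq cfg, mul_one, nf_mul cfg]

/-- If `e` inverts the commuting elements `p`, `q` of order dividing 3, then `p q e ~ e`. -/
theorem conj_inv2 {e p q : G} (hp : SemiconjBy e p p⁻¹) (hq : SemiconjBy e q q⁻¹)
    (hpq : Commute p q) (hp3 : p ^ 3 = 1) (hq3 : q ^ 3 = 1) : IsConj e (p * q * e) := by
  apply Cfsg.Agent.H19.Tn.conj_of_inverts
  · have e1 : (p * q)⁻¹ = p⁻¹ * q⁻¹ := by
      rw [mul_inv_rev]; exact hpq.inv_inv.eq.symm
    rw [e1]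
    exact hp.mul_right hq
  · rw [hpq.mul_pow, hp3, hq3, one_mul]

/-- An involution of `H` conjugate to `x` is of the form `a^i b^j x`. -/
theorem invol_form (cfg : Cfg G H T a b c x y) (hN : ¬ IsConj x y ∧ ¬ IsConj x (x * y)) {w : G}
    (hw : w ∈ H) (hsq : w * w = 1) (hconj : IsConj x w) :
    ∃ i j : ℕ, w = a ^ i * b ^ j * c ^ 0 * x := by
  obtain ⟨t, ht, h⟩ := cfg.Helts w hw
  obtain ⟨i, j, k, rfl⟩ := cfg.Telts t ht
  rcases h with rfl | rfl | rfl | rfl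
  · exfalso
    rw [nf_mul cfg] at hsq
    obtain ⟨h1, h2, h3⟩ := cfg.indep _ _ _ hsq
    have e : a ^ i * b ^ j * c ^ k = 1 := nf_one_of_dvd cfg (by omega) (by omega) (by omega)
    rw [e] at hconj
    have hx1 : x = 1 := isConj_one_left.mp hconj
    exact cfg.xT (hx1 ▸ T.one_mem)
  · rw [sq_x cfg] at hsq
    obtain ⟨-, -, h3⟩ := cfg.indep _ _ _ hsq
    obtain ⟨m, rfl⟩ : 3 ∣ k := by omega
    exact ⟨i, j, by rw [pow_mul, cfg.c3, one_pow, pow_zero]⟩
  · exfalso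
    rw [sq_y cfg] at hsq
    obtain ⟨-, h2, -⟩ := cfg.indep _ _ _ hsq
    obtain ⟨m, rfl⟩ : 3 ∣ j := by omega
    have e : a ^ i * b ^ (3 * m) * c ^ k = a ^ i * c ^ k := by rw [pow_mul, cfg.b3, one_pow, mul_one]
    rw [e] at hconj
    have h1 : SemiconjBy y (a ^ i) (a ^ i)⁻¹ := by
      have h := (show SemiconjBy y a a⁻¹ from cfg.ya).pow_right i
      rwa [inv_pow] at h
    have h2 : SemiconjBy y (c ^ k) (c ^ k)⁻¹ := by
      have h := (show SemiconjBy y c c⁻¹ from cfg.yc).pow_right k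
      rwa [inv_pow] at h
    have hy : IsConj y (a ^ i * c ^ k * y) :=
      conj_inv2 h1 h2 ((show Commute a c from cfg.ac).pow_pow i k)
        (by rw [← pow_mul, mul_comm, pow_mul, cfg.a3, one_pow])
        (by rw [← pow_mul, mul_comm, pow_mul, cfg.c3, one_pow])
    exact hN.1 (hconj.trans hy.symm)
  · exfalso
    rw [sq_xy cfg] at hsq
    obtain ⟨h1, -, -⟩ := cfg.indep _ _ _ hsq
    obtain ⟨m, rfl⟩ : 3 ∣ i := by omega
    have e : a ^ (3 * m) * b ^ j * c ^ k = b ^ j * c ^ k := by rw [pow_mul, cfg.a3, one_pow, one_mul]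
    rw [e] at hconj
    have hb : SemiconjBy (x * y) b b⁻¹ :=
      SemiconjBy.mul_left (show SemiconjBy x b b⁻¹ from cfg.xb) (show SemiconjBy y b b from cfg.yb)
    have hc : SemiconjBy (x * y) c c⁻¹ :=
      SemiconjBy.mul_left (show SemiconjBy x c⁻¹ c⁻¹ from (show Commute x c from cfg.xc).inv_right)
        (show SemiconjBy y c c⁻¹ from cfg.yc)
    have h1' : SemiconjBy (x * y) (b ^ j) (b ^ j)⁻¹ := by
      have h := hb.pow_right j
      rwa [inv_pow] at h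
    have h2' : SemiconjBy (x * y) (c ^ k) (c ^ k)⁻¹ := by
      have h := hc.pow_right k
      rwa [inv_pow] at h
    have hxy : IsConj (x * y) (b ^ j * c ^ k * (x * y)) :=
      conj_inv2 h1' h2' ((show Commute b c from cfg.bc).pow_pow j k)
        (by rw [← pow_mul, mul_comm, pow_mul, cfg.b3, one_pow])
        (by rw [← pow_mul, mul_comm, pow_mul, cfg.c3, one_pow])
    exact hN.2 (hconj.trans hxy.symm)

/-- The elements of `⟨a, b, x⟩`. -/
theorem dform (cfg : Cfg G H T a b c x y) (w : G) (hw : w ∈ closure ({a, b, x} : Set G)) :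
    ∃ p q : ℕ, w = a ^ p * b ^ q * c ^ 0 ∨ w = a ^ p * b ^ q * c ^ 0 * x := by
  induction hw using Subgroup.closure_induction with
  | mem w hw =>
    rcases hw with rfl | rfl | rfl
    · exact ⟨1, 0, Or.inl (by simp)⟩
    · exact ⟨0, 1, Or.inl (by simp)⟩
    · exact ⟨0, 0, Or.inr (by simp)⟩
  | one => exact ⟨0, 0, Or.inl (by simp)⟩
  | mul w1 w2 _ _ h1 h2 =>
    obtain ⟨p, q, rfl | rfl⟩ := h1 <;> obtain ⟨p', q', rfl | rfl⟩ := h2
    · exact ⟨p + p', q + q', Or.inl (by rw [nf_mul cfg])⟩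
    · exact ⟨p + p', q + q', Or.inr (by rw [← mul_assoc, nf_mul cfg])⟩
    · exact ⟨p + 2 * p', q + 2 * q', Or.inr (by
        rw [mul_assoc, (sx cfg p' q' 0).eq, ← mul_assoc, nf_mul cfg])⟩
    · refine ⟨p + 2 * p', q + 2 * q', Or.inl ?_⟩
      calc a ^ p * b ^ q * c ^ 0 * x * (a ^ p' * b ^ q' * c ^ 0 * x)
          = a ^ p * b ^ q * c ^ 0 * (x * (a ^ p' * b ^ q' * c ^ 0)) * x := by simp only [mul_assoc]
        _ = a ^ p * b ^ q * c ^ 0 * (a ^ (2 * p') * b ^ (2 * q') * c ^ 0 * x) * x := by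
          rw [(sx cfg p' q' 0).eq]
        _ = a ^ p * b ^ q * c ^ 0 * (a ^ (2 * p') * b ^ (2 * q') * c ^ 0) * (x * x) := by
          simp only [mul_assoc]
        _ = _ := by rw [cfg.x2, mul_one, nf_mul cfg]
  | inv w _ h =>
    obtain ⟨p, q, rfl | rfl⟩ := h
    · refine ⟨2 * p, 2 * q, Or.inl (inv_eq_of_mul_eq_one_right ?_)⟩
      rw [nf_mul cfg]
      exact nf_one_of_dvd cfg (by omega) (by omega) (by omega)
    · refine ⟨p, q, Or.inr (inv_eq_of_mul_eq_one_right ?_)⟩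
      rw [sq_x cfg]
      exact nf_one_of_dvd cfg (by omega) (by omega) (by omega)

theorem xPairs (hS : StS1.{u}) (hTI : StTI.{u}) (hN : StNofus.{u}) : StXPairs.{u} := by
  intro G _ _ H T a b c x y cfg u v hu hv hmem
  obtain ⟨r, hr⟩ := hmem
  obtain ⟨hS1, -, hS3, -, -⟩ := hS G H T a b c x y cfg
  have hNf := hN G H T a b c x y cfg
  have hs : (r * u * r⁻¹) * (r * v * r⁻¹) ∈ S1 a b c x := by
    have e : (r * u * r⁻¹) * (r * v * r⁻¹) = r * (u * v) * r⁻¹ := by group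
    rw [e]; exact hr
  have hcu : IsConj x (r * u * r⁻¹) := hu.trans (isConj_iff.mpr ⟨r, rfl⟩)
  have hcv : IsConj x (r * v * r⁻¹) := hv.trans (isConj_iff.mpr ⟨r, rfl⟩)
  generalize r * u * r⁻¹ = u' at hs hcu
  generalize r * v * r⁻¹ = v' at hs hcv
  have hu2 : u' * u' = 1 := Cfsg.Agent.H19.Tn.sq_of_conj cfg.x2 hcu
  have hv2 : v' * v' = 1 := Cfsg.Agent.H19.Tn.sq_of_conj cfg.x2 hcv
  have hinv : u' * (u' * v') * u'⁻¹ = (u' * v')⁻¹ := by
    have e1 : u'⁻¹ = u' := inv_eq_of_mul_eq_one_right hu2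
    have e2 : v'⁻¹ = v' := inv_eq_of_mul_eq_one_right hv2
    rw [mul_inv_rev, e1, e2, ← mul_assoc, hu2, one_mul]
  have huH : u' ∈ H := hTI G H T a b c x y cfg _ hs u' (by rw [hinv]; exact hS3 _ hs)
  have hvH : v' ∈ H := by
    have e : v' = u'⁻¹ * (u' * v') := by group
    rw [e]; exact H.mul_mem (H.inv_mem huH) (hS1 _ hs)
  obtain ⟨i, j, rfl⟩ := invol_form cfg hNf huH hu2 hcu
  obtain ⟨i', j', rfl⟩ := invol_form cfg hNf hvH hv2 hcv
  have hprod : a ^ i * b ^ j * c ^ 0 * x * (a ^ i' * b ^ j' * c ^ 0 * x) =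
      a ^ (i + 2 * i') * b ^ (j + 2 * j') * c ^ (0 + 0) := by
    calc a ^ i * b ^ j * c ^ 0 * x * (a ^ i' * b ^ j' * c ^ 0 * x)
        = a ^ i * b ^ j * c ^ 0 * (x * (a ^ i' * b ^ j' * c ^ 0)) * x := by simp only [mul_assoc]
      _ = a ^ i * b ^ j * c ^ 0 * (a ^ (2 * i') * b ^ (2 * j') * c ^ 0 * x) * x := by
        rw [(sx cfg i' j' 0).eq]
      _ = a ^ i * b ^ j * c ^ 0 * (a ^ (2 * i') * b ^ (2 * j') * c ^ 0) * (x * x) := by
        simp only [mul_assoc]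
      _ = _ := by rw [cfg.x2, mul_one, nf_mul cfg]
  rw [hprod] at hs
  obtain ⟨w, hw, hsw⟩ := hs
  obtain ⟨p, q, rfl | rfl⟩ := dform cfg w hw
  · rcases hsw with h | h
    · have e : c * (a ^ p * b ^ q * c ^ 0) = a ^ (0 + p) * b ^ (0 + q) * c ^ (1 + 0) := by
        rw [← nf_mul cfg]; simp
      rw [e] at h
      obtain ⟨-, -, h3⟩ := nf_inj cfg h
      omega
    · have e : c⁻¹ * (a ^ p * b ^ q * c ^ 0) = a ^ (0 + p) * b ^ (0 + q) * c ^ (2 + 0) := by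
        rw [← nf_mul cfg, cinv cfg]; simp
      rw [e] at h
      obtain ⟨-, -, h3⟩ := nf_inj cfg h
      omega
  · apply cfg.xT
    rcases hsw with h | h
    · have e : x = (c * (a ^ p * b ^ q * c ^ 0))⁻¹ *
          (a ^ (i + 2 * i') * b ^ (j + 2 * j') * c ^ (0 + 0)) := by
        rw [h]; group
      rw [e]
      exact T.mul_mem (T.inv_mem (T.mul_mem cfg.cT (nf_mem cfg _ _ _))) (nf_mem cfg _ _ _)
    · have e : x = (c⁻¹ * (a ^ p * b ^ q * c ^ 0))⁻¹ *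
          (a ^ (i + 2 * i') * b ^ (j + 2 * j') * c ^ (0 + 0)) := by
        rw [h]; group
      rw [e]
      exact T.mul_mem (T.inv_mem (T.mul_mem (T.inv_mem cfg.cT) (nf_mem cfg _ _ _))) (nf_mem cfg _ _ _)

example : Cfsg.Agent.H64.Tm.StS1.{u} → Cfsg.Agent.H64.Tm.StTI.{u} → Cfsg.Agent.H64.Tm.StNofus.{u} →
    Cfsg.Agent.H64.Tm.StXPairs.{u} := xPairs

end Cfsg.Agent.H19.Tm
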