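import Mathlib

/-!
# helper19: a transfer computation

`transfer_eq_mul_of_two_fixed`: if `g ∈ H` and the only cosets `g₀ H` that can be fixed by a
non-trivial power of `g` are `H` and `t H`, then the transfer of `g` is `ϕ g * ϕ (t⁻¹ g t)`.
-/

set_option autoImplicit false
set_option linter.style.haveILetI false

namespace Cfsg.Agent.H19

open MulAction Subgroup

theorem transfer_eq_mul_of_two_fixed {G : Type*} [Group G] {H : Subgroup G} {A : Type*}
    [CommGroup A] (ϕ : H →* A) [H.FiniteIndex] (g : H) (t : G) (htH : t ∉ H)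
    (htg : t⁻¹ * (g : G) * t ∈ H)
    (key : ∀ (k : ℕ) (g₀ : G), g₀⁻¹ * (g : G) ^ k * g₀ ∈ H →
      (g : G) ^ k = 1 ∨ g₀ ∈ H ∨ t⁻¹ * g₀ ∈ H) :
    MonoidHom.transfer ϕ (g : G) = ϕ g * ϕ ⟨t⁻¹ * (g : G) * t, htg⟩ := by
  classical
  letI := H.fintypeQuotientOfFiniteIndex
  rw [MonoidHom.transfer_eq_prod_quotient_orbitRel_zpowers_quot]
  -- the three kinds of terms
  have term1 : ∀ (g₀ : G) (k : ℕ) (hmem : g₀⁻¹ * (g : G) ^ k * g₀ ∈ H), g₀ ∈ H → k = 1 →
      ϕ ⟨g₀⁻¹ * (g : G) ^ k * g₀, hmem⟩ = ϕ g := by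
    intro g₀ k hmem hg₀ hk
    subst hk
    have : (⟨g₀⁻¹ * (g : G) ^ 1 * g₀, hmem⟩ : H) = (⟨g₀, hg₀⟩ : H)⁻¹ * g * ⟨g₀, hg₀⟩ := by
      apply Subtype.ext
      simp
    rw [this, map_mul, map_mul, map_inv, mul_comm, mul_inv_cancel_left]
  have term2 : ∀ (g₀ : G) (k : ℕ) (hmem : g₀⁻¹ * (g : G) ^ k * g₀ ∈ H), t⁻¹ * g₀ ∈ H → k = 1 →
      ϕ ⟨g₀⁻¹ * (g : G) ^ k * g₀, hmem⟩ = ϕ ⟨t⁻¹ * (g : G) * t, htg⟩ := by
    intro g₀ k hmem hg₀ hk
    subst hk
    have : (⟨g₀⁻¹ * (g : G) ^ 1 * g₀, hmem⟩ : H) =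
        (⟨t⁻¹ * g₀, hg₀⟩ : H)⁻¹ * ⟨t⁻¹ * (g : G) * t, htg⟩ * ⟨t⁻¹ * g₀, hg₀⟩ := by
      apply Subtype.ext
      simp only [pow_one, Subgroup.coe_mul, Subgroup.coe_inv]
      group
    rw [this, map_mul, map_mul, map_inv, mul_comm, mul_inv_cancel_left]
  have term3 : ∀ (g₀ : G) (k : ℕ) (hmem : g₀⁻¹ * (g : G) ^ k * g₀ ∈ H), (g : G) ^ k = 1 →
      ϕ ⟨g₀⁻¹ * (g : G) ^ k * g₀, hmem⟩ = 1 := by
    intro g₀ k hmem hk
    have : (⟨g₀⁻¹ * (g : G) ^ k * g₀, hmem⟩ : H) = 1 := by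
      apply Subtype.ext
      simp [hk]
    rw [this, map_one]
  -- orbits of the two special cosets
  have horb1 : ∀ c : G ⧸ H, c ∈ orbit (zpowers (g : G)) ((1 : G) : G ⧸ H) → c = ((1 : G) : G ⧸ H) := by
    rintro c ⟨⟨z, hz⟩, rfl⟩
    have hzH : z ∈ H := (zpowers_le.mpr g.2) hz
    show ((z * 1 : G) : G ⧸ H) = ((1 : G) : G ⧸ H)
    rw [QuotientGroup.eq]
    simpa using H.inv_mem hzH
  have hpowt : ∀ z ∈ zpowers (g : G), t⁻¹ * z * t ∈ H := by
    intro z hz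
    obtain ⟨j, rfl⟩ := hz
    have : t⁻¹ * (g : G) ^ j * t = (t⁻¹ * (g : G) * t) ^ j := by
      have h1 := conj_zpow (a := t⁻¹) (b := (g : G)) (i := j)
      rw [inv_inv] at h1
      exact h1.symm
    rw [this]
    exact H.zpow_mem htg j
  have horb2 : ∀ c : G ⧸ H, c ∈ orbit (zpowers (g : G)) ((t : G) : G ⧸ H) → c = ((t : G) : G ⧸ H) := by
    rintro c ⟨⟨z, hz⟩, rfl⟩
    show ((z * t : G) : G ⧸ H) = ((t : G) : G ⧸ H)
    rw [QuotientGroup.eq]
    have := H.inv_mem (hpowt z hz)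
    have h2 : (z * t)⁻¹ * t = (t⁻¹ * z * t)⁻¹ := by group
    rw [h2]; exact this
  set q₁ : Quotient (orbitRel (zpowers (g : G)) (G ⧸ H)) := Quotient.mk'' ((1 : G) : G ⧸ H) with hq₁
  set q₂ : Quotient (orbitRel (zpowers (g : G)) (G ⧸ H)) := Quotient.mk'' ((t : G) : G ⧸ H) with hq₂
  have hout1 : q₁.out = ((1 : G) : G ⧸ H) := by
    apply horb1
    have : Quotient.mk'' q₁.out = q₁ := Quotient.out_eq' q₁
    rw [hq₁] at this
    exact Quotient.eq''.mp this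
  have hout2 : q₂.out = ((t : G) : G ⧸ H) := by
    apply horb2
    have : Quotient.mk'' q₂.out = q₂ := Quotient.out_eq' q₂
    rw [hq₂] at this
    exact Quotient.eq''.mp this
  have hne : q₁ ≠ q₂ := by
    intro h
    have h1 : ((1 : G) : G ⧸ H) = ((t : G) : G ⧸ H) := by rw [← hout1, ← hout2, h]
    rw [QuotientGroup.eq] at h1
    apply htH
    simpa using h1
  have hmem1 : q₁.out.out ∈ H := by
    have h1 : ((q₁.out.out : G) : G ⧸ H) = ((1 : G) : G ⧸ H) := by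
      rw [QuotientGroup.out_eq', hout1]
    rw [QuotientGroup.eq] at h1
    have := H.inv_mem h1
    simpa using this
  have hmem2 : t⁻¹ * q₂.out.out ∈ H := by
    have h1 : ((t : G) : G ⧸ H) = ((q₂.out.out : G) : G ⧸ H) := by
      rw [QuotientGroup.out_eq', hout2]
    rw [QuotientGroup.eq] at h1
    exact h1
  have hper1 : Function.minimalPeriod ((g : G) • · : G ⧸ H → G ⧸ H) q₁.out = 1 := by
    rw [Function.minimalPeriod_eq_one_iff_isFixedPt, hout1]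
    show ((g : G) * 1 : G) = ((1 : G) : G ⧸ H)
    rw [QuotientGroup.eq]
    simpa using H.inv_mem g.2
  have hper2 : Function.minimalPeriod ((g : G) • · : G ⧸ H → G ⧸ H) q₂.out = 1 := by
    rw [Function.minimalPeriod_eq_one_iff_isFixedPt, hout2]
    show (((g : G) * t : G) : G ⧸ H) = ((t : G) : G ⧸ H)
    rw [QuotientGroup.eq]
    have := H.inv_mem htg
    have h2 : ((g : G) * t)⁻¹ * t = (t⁻¹ * (g : G) * t)⁻¹ := by group
    rw [h2]; exact this
  rw [Finset.prod_eq_mul q₁ q₂ hne]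
  · rw [term1 _ _ _ hmem1 hper1, term2 _ _ _ hmem2 hper2]
  · intro c _ hc
    rcases key _ _ (QuotientGroup.out_conj_pow_minimalPeriod_mem H (g : G) c.out) with h | h | h
    · exact term3 _ _ _ h
    · exfalso
      apply hc.1
      have h1 : c.out = ((1 : G) : G ⧸ H) := by
        rw [← QuotientGroup.out_eq' c.out, QuotientGroup.eq]
        simpa using h
      rw [hq₁, ← h1]
      exact (Quotient.out_eq' c).symm
    · exfalso
      apply hc.2
      have h1 : c.out = ((t : G) : G ⧸ H) := by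
        rw [← QuotientGroup.out_eq' c.out, QuotientGroup.eq]
        have := H.inv_mem h
        have h2 : (c.out.out)⁻¹ * t = (t⁻¹ * c.out.out)⁻¹ := by group
        rw [h2]; exact this
      rw [hq₂, ← h1]
      exact (Quotient.out_eq' c).symm
  · intro h; exact absurd (Finset.mem_univ _) h
  · intro h; exact absurd (Finset.mem_univ _) h

end Cfsg.Agent.H19
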