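import Mathlib

/-!
# Identification of Zassenhaus groups with `PSL(2, q)`: the inversion (helper19)

`tau_lemma` : on a finite field of odd characteristic, an involution `τ` of the nonzero elements
which is inverted by the squares (`τ (r² x) = r⁻² τ x`), satisfies the structure equation and has
the right fixed-point behaviour is `x ↦ -r₀² / x`.
-/

set_option autoImplicit false
set_option linter.style.haveILetI false
set_option linter.unusedSectionVars false

namespace Cfsg.Agent.H19

section Sq

variable {K : Type*} [Field K] [Fintype K] [DecidableEq K]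

theorem ne_zero_of_not_isSquare {x : K} (hx : ¬ IsSquare x) : x ≠ 0 := by
  rintro rfl
  exact hx IsSquare.zero

theorem isSquare_mul_of_not {x y : K} (hx : ¬ IsSquare x) (hy : ¬ IsSquare y) :
    IsSquare (x * y) := by
  have hx0 := ne_zero_of_not_isSquare hx
  have hy0 := ne_zero_of_not_isSquare hy
  rw [← quadraticChar_one_iff_isSquare (mul_ne_zero hx0 hy0), map_mul,
    quadraticChar_neg_one_iff_not_isSquare.mpr hx, quadraticChar_neg_one_iff_not_isSquare.mpr hy]
  norm_num

theorem not_isSquare_mul {x y : K} (hx : IsSquare x) (hx0 : x ≠ 0) (hy : ¬ IsSquare y) :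
    ¬ IsSquare (x * y) := by
  intro h
  apply hy
  have h1 : y = x * y / x := by field_simp
  rw [h1]
  exact h.div hx

theorem isSquare_div_of_not {x y : K} (hx : ¬ IsSquare x) (hy : ¬ IsSquare y) :
    IsSquare (x / y) := by
  rw [div_eq_mul_inv]
  exact isSquare_mul_of_not hx (fun h => hy (isSquare_inv.mp h))

theorem not_isSquare_div {x y : K} (hx : IsSquare x) (hx0 : x ≠ 0) (hy : ¬ IsSquare y) :
    ¬ IsSquare (x / y) := by
  rw [div_eq_mul_inv]
  exact not_isSquare_mul hx hx0 (fun h => hy (isSquare_inv.mp h))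

theorem sq_eq_one_of_card_five (hcard : Fintype.card K = 5) {m : K} (hm : IsSquare m)
    (hm0 : m ≠ 0) : m = 1 ∨ m = -1 := by
  obtain ⟨s, rfl⟩ := hm
  have hs0 : s ≠ 0 := by
    rintro rfl
    simp at hm0
  have h1 := FiniteField.pow_card_sub_one_eq_one s hs0
  rw [hcard] at h1
  have h2 : (s * s - 1) * (s * s + 1) = 0 := by
    have : (s * s - 1) * (s * s + 1) = s ^ (5 - 1) - 1 := by ring
    rw [this, h1, sub_self]
  rcases mul_eq_zero.mp h2 with h | h
  · left
    linear_combination h
  · right
    linear_combination h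

end Sq

section Tau

variable {K : Type*} [Field K] [Fintype K] [DecidableEq K]

set_option maxHeartbeats 800000 in
theorem tau_lemma (hchar : ringChar K ≠ 2) (τ : K → K)
    (h0 : ∀ x, x ≠ 0 → τ x ≠ 0)
    (hinv : ∀ x, x ≠ 0 → τ (τ x) = x)
    (hsq : ∀ r x : K, r ≠ 0 → x ≠ 0 → τ (r ^ 2 * x) = (r ^ 2)⁻¹ * τ x)
    (hfix : (IsSquare (-1 : K) ∧ ∃ x, x ≠ 0 ∧ τ x = x) ∨
      (¬ IsSquare (-1 : K) ∧ ∀ x, x ≠ 0 → τ x ≠ x))
    (hSE : ∃ r γ : K, r ≠ 0 ∧ γ ≠ 0 ∧ τ γ = -τ 1 ∧
      ∀ x, x ≠ 0 → τ x + 1 ≠ 0 → r ^ 2 * x + γ ≠ 0 →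
        τ (τ x + 1) = τ (r ^ 2 * x + γ) + τ 1) :
    ∃ r₀ : K, r₀ ≠ 0 ∧ ∀ x, x ≠ 0 → τ x = -r₀ ^ 2 / x := by
  classical
  obtain ⟨ν, hν⟩ := FiniteField.exists_nonsquare hchar
  have hν0 : ν ≠ 0 := ne_zero_of_not_isSquare hν
  have h2 : (2 : K) ≠ 0 := Ring.two_ne_zero hchar
  obtain ⟨c, hc⟩ : ∃ c, c = τ 1 := ⟨_, rfl⟩
  have hc0 : c ≠ 0 := by
    rw [hc]
    exact h0 1 one_ne_zero
  obtain ⟨c2, hc2⟩ : ∃ c2, c2 = ν * τ ν := ⟨_, rfl⟩
  have hc20 : c2 ≠ 0 := by
    rw [hc2]
    exact mul_ne_zero hν0 (h0 ν hν0)
  have hS : ∀ x, x ≠ 0 → IsSquare x → τ x = c / x := by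
    rintro x hx ⟨r, hr⟩
    have hr0 : r ≠ 0 := by
      rintro rfl
      simp at hr
      exact hx hr
    have h1 := hsq r 1 hr0 one_ne_zero
    rw [mul_one] at h1
    rw [hr, ← sq, h1, hc]
    field_simp
  have hN : ∀ x, x ≠ 0 → ¬ IsSquare x → τ x = c2 / x := by
    intro x hx hxs
    obtain ⟨r, hr⟩ := isSquare_div_of_not hxs hν
    have hr0 : r ≠ 0 := by
      rintro rfl
      simp at hr
      rcases hr with h | h
      · exact hx h
      · exact hν0 h
    have hx' : x = r ^ 2 * ν := by
      field_simp at hr
      linear_combination hr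
    have h1 := hsq r ν hr0 hν0
    rw [hx', h1, hc2]
    field_simp
  -- if `c` is a nonsquare, then `c2 = c`
  have hcc_of : ¬ IsSquare c → c2 = c := by
    intro hcN
    have h1 := hN c hc0 hcN
    have h3 := hinv 1 one_ne_zero
    rw [← hc] at h3
    rw [h3] at h1
    field_simp at h1
    exact h1.symm
  rcases hfix with ⟨hm1, x₀, hx₀, hfx⟩ | ⟨hm1, hnofix⟩
  · -- `-1` is a square, and `τ` has a fixed point
    have hcS : IsSquare c := by
      by_contra hcN
      have hcc := hcc_of hcN
      have hall : τ x₀ = c / x₀ := by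
        by_cases hxs : IsSquare x₀
        · exact hS x₀ hx₀ hxs
        · rw [hN x₀ hx₀ hxs, hcc]
      rw [hfx] at hall
      apply hcN
      refine ⟨x₀, ?_⟩
      field_simp at hall
      linear_combination -hall
    have hc2S : IsSquare c2 := by
      by_contra hc2N
      have h1 : IsSquare (τ ν) := by
        rw [hN ν hν0 hν]
        exact isSquare_div_of_not hc2N hν
      have h3 := hS (τ ν) (h0 ν hν0) h1
      rw [hinv ν hν0] at h3
      have hτν := h0 ν hν0
      have h4 : c2 = c := by
        rw [hc2]
        field_simp at h3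
        linear_combination h3
      exact hc2N (h4 ▸ hcS)
    obtain ⟨r, γ, hr0, hγ0, hγ, hSE⟩ := hSE
    have hnegc : IsSquare (-c) := by
      have := hm1.mul hcS
      simpa using this
    have hγ1 : γ = -1 := by
      have h1 := hinv γ hγ0
      rw [hγ, ← hc, hS (-c) (neg_ne_zero.mpr hc0) hnegc] at h1
      rw [← h1]
      field_simp
    subst hγ1
    have hr2 : IsSquare (r ^ 2) := ⟨r, sq r⟩
    have hr20 : r ^ 2 ≠ 0 := pow_ne_zero 2 hr0
    -- key equation
    have hkey : ∀ y, ¬ IsSquare y → IsSquare (1 + y) → 1 + y ≠ 0 →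
        y * (c2 - c) = -c2 * (1 + r ^ 2 * c) := by
      intro y hy hy1 hy10
      have hy0 : y ≠ 0 := ne_zero_of_not_isSquare hy
      obtain ⟨x, hx⟩ : ∃ x, x = τ y := ⟨_, rfl⟩
      have hx0 : x ≠ 0 := by
        rw [hx]
        exact h0 y hy0
      have hxy : τ x = y := by
        rw [hx]
        exact hinv y hy0
      have hxv : x = c2 / y := by
        rw [hx]
        exact hN y hy0 hy
      have hxN : ¬ IsSquare x := by
        rw [hxv]
        exact not_isSquare_div hc2S hc20 hy
      have hr2x : ¬ IsSquare (r ^ 2 * x) := not_isSquare_mul hr2 hr20 hxN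
      have hz0 : r ^ 2 * x + -1 ≠ 0 := by
        intro h
        apply hr2x
        have h1 : r ^ 2 * x = 1 := by linear_combination h
        rw [h1]
        exact IsSquare.one
      have hse := hSE x hx0 (by rw [hxy, add_comm]; exact hy10) hz0
      rw [hxy, add_comm y 1, hS (1 + y) hy10 hy1, ← hc] at hse
      by_cases hzs : IsSquare (r ^ 2 * x + -1)
      · exfalso
        rw [hS _ hz0 hzs] at hse
        have hz : r ^ 2 * x + -1 = (-(1 + y)) / y := by
          field_simp at hse ⊢
          linear_combination -hse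
        have hn : ¬ IsSquare ((-(1 + y)) / y) := by
          apply not_isSquare_div _ (neg_ne_zero.mpr hy10) hy
          have := hm1.mul hy1
          simpa using this
        rw [hz] at hzs
        exact hn hzs
      · rw [hN _ hz0 hzs] at hse
        have hden : r ^ 2 * c2 - y ≠ 0 := by
          intro h
          apply hz0
          rw [hxv]
          field_simp
          linear_combination h
        have hD : r ^ 2 * (c2 / y) + -1 = (r ^ 2 * c2 - y) / y := by
          field_simp
          ring
        have hD1 : c2 / ((r ^ 2 * c2 - y) / y) = c2 * y / (r ^ 2 * c2 - y) := by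
          rw [div_div_eq_mul_div]
        rw [hxv, hD, hD1] at hse
        have hse3 : c * (r ^ 2 * c2 - y) = (c2 * y + c * (r ^ 2 * c2 - y)) * (1 + y) := by
          have h5 : c / (1 + y) * ((1 + y) * (r ^ 2 * c2 - y)) =
              (c2 * y / (r ^ 2 * c2 - y) + c) * ((1 + y) * (r ^ 2 * c2 - y)) := by rw [hse]
          have l : c / (1 + y) * ((1 + y) * (r ^ 2 * c2 - y)) = c * (r ^ 2 * c2 - y) := by
            field_simp
          have rr : (c2 * y / (r ^ 2 * c2 - y) + c) * ((1 + y) * (r ^ 2 * c2 - y)) =
              (c2 * y + c * (r ^ 2 * c2 - y)) * (1 + y) := by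
            have h7 : c2 * y / (r ^ 2 * c2 - y) * (r ^ 2 * c2 - y) = c2 * y :=
              div_mul_cancel₀ _ hden
            linear_combination (1 + y) * h7
          rw [l, rr] at h5
          exact h5
        have h6 : y * (y * (c2 - c) - (-c2 * (1 + r ^ 2 * c))) = 0 := by
          linear_combination -hse3
        exact sub_eq_zero.mp ((mul_eq_zero.mp h6).resolve_left hy0)
    have hyν : ∀ μ : K, ¬ IsSquare μ → (¬ IsSquare (4 * μ / (1 - μ) ^ 2)) ∧
        IsSquare (1 + 4 * μ / (1 - μ) ^ 2) ∧ 1 + 4 * μ / (1 - μ) ^ 2 ≠ 0 := by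
      intro μ hμ
      have hμ1 : 1 - μ ≠ 0 := by
        intro h
        apply hμ
        have : μ = 1 := by linear_combination -h
        rw [this]
        exact IsSquare.one
      have hμm1 : 1 + μ ≠ 0 := by
        intro h
        apply hμ
        have : μ = -1 := by linear_combination h
        rw [this]
        exact hm1
      refine ⟨?_, ?_, ?_⟩
      · have h1 : 4 * μ / (1 - μ) ^ 2 = (2 / (1 - μ)) ^ 2 * μ := by
          field_simp
          ring
        rw [h1]
        exact not_isSquare_mul ⟨2 / (1 - μ), sq _⟩ (pow_ne_zero 2 (div_ne_zero h2 hμ1)) hμ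
      · have h1 : 1 + 4 * μ / (1 - μ) ^ 2 = ((1 + μ) / (1 - μ)) * ((1 + μ) / (1 - μ)) := by
          field_simp
          ring
        exact ⟨_, h1⟩
      · have h1 : 1 + 4 * μ / (1 - μ) ^ 2 = ((1 + μ) / (1 - μ)) ^ 2 := by
          field_simp
          ring
        rw [h1]
        exact pow_ne_zero 2 (div_ne_zero hμm1 hμ1)
    have hκ : c2 = c := by
      by_contra hne
      have hne' : c2 - c ≠ 0 := sub_ne_zero.mpr hne
      have hyeq : ∀ μ μ' : K, ¬ IsSquare μ → ¬ IsSquare μ' →
          4 * μ / (1 - μ) ^ 2 = 4 * μ' / (1 - μ') ^ 2 := by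
        intro μ μ' hμ hμ'
        obtain ⟨a1, a2, a3⟩ := hyν μ hμ
        obtain ⟨b1, b2, b3⟩ := hyν μ' hμ'
        have e1 := hkey _ a1 a2 a3
        have e2 := hkey _ b1 b2 b3
        exact mul_right_cancel₀ hne' (e1.trans e2.symm)
      by_cases hcard : 7 ≤ Fintype.card K
      · obtain ⟨w, hw⟩ : ∃ w : K, w ∉ ({0, 1, -1, ν⁻¹, -ν⁻¹} : Finset K) := by
          by_contra hcon
          push Not at hcon
          have h1 : (Finset.univ : Finset K) ⊆ {0, 1, -1, ν⁻¹, -ν⁻¹} := fun x _ => hcon x
          have h3 := Finset.card_le_card h1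
          have h5 : ({0, 1, -1, ν⁻¹, -ν⁻¹} : Finset K).card ≤ 5 := Finset.card_le_five
          rw [Finset.card_univ] at h3
          omega
        simp only [Finset.mem_insert, Finset.mem_singleton, not_or] at hw
        obtain ⟨hw0, hw1, hwm1, hwν, hwmν⟩ := hw
        have hμ' : ¬ IsSquare (w ^ 2 * ν) :=
          not_isSquare_mul ⟨w, sq w⟩ (pow_ne_zero 2 hw0) hν
        have h1 := hyeq ν (w ^ 2 * ν) hν hμ'
        have hν1 : 1 - ν ≠ 0 := by
          intro h
          apply hν
          have : ν = 1 := by linear_combination -h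
          rw [this]
          exact IsSquare.one
        have hν1' : 1 - w ^ 2 * ν ≠ 0 := by
          intro h
          apply hμ'
          have : w ^ 2 * ν = 1 := by linear_combination -h
          rw [this]
          exact IsSquare.one
        rw [div_eq_div_iff (pow_ne_zero 2 hν1) (pow_ne_zero 2 hν1')] at h1
        have hfac : (4 * ν) * ((w - 1) * (w + 1) * (ν * w - 1) * (ν * w + 1)) = 0 := by
          linear_combination h1
        have h4 : (4 : K) ≠ 0 := by
          have : (4 : K) = 2 * 2 := by norm_num
          rw [this]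
          exact mul_ne_zero h2 h2
        have hfac' := (mul_eq_zero.mp hfac).resolve_left (mul_ne_zero h4 hν0)
        rcases mul_eq_zero.mp hfac' with h | h
        · rcases mul_eq_zero.mp h with h | h
          · rcases mul_eq_zero.mp h with h | h
            · exact hw1 (by linear_combination h)
            · exact hwm1 (by linear_combination h)
          · apply hwν
            field_simp
            linear_combination h
        · apply hwmν
          field_simp
          linear_combination h
      · have hodd := FiniteField.odd_card_of_char_ne_two hchar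
        have h4 := FiniteField.isSquare_neg_one_iff.mp hm1
        have h1 : 1 < Fintype.card K := Fintype.one_lt_card
        have hcard5 : Fintype.card K = 5 := by omega
        have hq : IsSquare (c2 / c) := hc2S.div hcS
        have hm2 : IsSquare (r ^ 2 * c) := hr2.mul hcS
        obtain ⟨a1, a2, a3⟩ := hyν ν hν
        have e1 := hkey _ a1 a2 a3
        have hy0 := ne_zero_of_not_isSquare a1
        rcases sq_eq_one_of_card_five hcard5 hq (div_ne_zero hc20 hc0) with h | h
        · apply hne
          field_simp at h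
          exact h
        · have hc2c : c2 = -c := by
            field_simp at h
            linear_combination h
          rcases sq_eq_one_of_card_five hcard5 hm2 (mul_ne_zero hr20 hc0) with h' | h'
          · -- y = -1
            apply a1
            have : 4 * ν / (1 - ν) ^ 2 = -1 := by
              rw [hc2c, h'] at e1
              have e3 : (2 * c) * (4 * ν / (1 - ν) ^ 2) = (2 * c) * (-1) := by
                linear_combination -e1
              exact mul_left_cancel₀ (mul_ne_zero h2 hc0) e3
            rw [this]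
            exact hm1
          · apply hy0
            rw [hc2c, h'] at e1
            have e3 : (2 * c) * (4 * ν / (1 - ν) ^ 2) = (2 * c) * 0 := by
              linear_combination -e1
            exact mul_left_cancel₀ (mul_ne_zero h2 hc0) e3
    obtain ⟨r₀, hr₀⟩ := hnegc
    refine ⟨r₀, ?_, ?_⟩
    · rintro rfl
      simp at hr₀
      exact hc0 hr₀
    · intro x hx
      have hcr : c = -r₀ ^ 2 := by
        rw [sq, ← hr₀]
        ring
      by_cases hxs : IsSquare x
      · rw [hS x hx hxs, hcr]
      · rw [hN x hx hxs, hκ, hcr]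
  · -- `-1` is a nonsquare, and `τ` has no fixed point
    have hcN : ¬ IsSquare c := by
      rintro ⟨y, hy⟩
      have hy0 : y ≠ 0 := by
        rintro rfl
        simp at hy
        exact hc0 hy
      by_cases hys : IsSquare y
      · have h1 := hS y hy0 hys
        rw [hy] at h1
        exact hnofix y hy0 (by rw [h1]; field_simp)
      · have hnys : IsSquare (-y) := by
          have := isSquare_mul_of_not hm1 hys
          simpa using this
        have h1 := hS (-y) (neg_ne_zero.mpr hy0) hnys
        rw [hy] at h1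
        exact hnofix (-y) (neg_ne_zero.mpr hy0) (by rw [h1]; field_simp)
    have hcc := hcc_of hcN
    have hnc : IsSquare (-c) := by
      have := isSquare_mul_of_not hm1 hcN
      simpa using this
    obtain ⟨r₀, hr₀⟩ := hnc
    refine ⟨r₀, ?_, ?_⟩
    · rintro rfl
      simp at hr₀
      exact hc0 hr₀
    · intro x hx
      have hcr : c = -r₀ ^ 2 := by
        rw [sq, ← hr₀]
        ring
      by_cases hxs : IsSquare x
      · rw [hS x hx hxs, hcr]
      · rw [hN x hx hxs, hcc, hcr]

end Tau

end Cfsg.Agent.H19
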