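import Mathlib
import Cfsg.Agent.H60.Sharp3Mob

/-!
# Identification of Zassenhaus groups with `PSL(2, q)`: from coordinates to `PSL` (helper19)

`psl_of_coords` : a group acting faithfully on `Ω = {a} ∪ pt(K)` whose point stabilizer `G_a` is
`{x ↦ ρ² x + β}` and which contains an element `t : a ↔ pt 0`, `pt x ↦ pt (-r₀² / x)` is isomorphic
to `PSL(2, K)`.
-/

set_option autoImplicit false
set_option linter.style.haveILetI false
set_option linter.unusedSectionVars false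

namespace Cfsg.Agent.H19

open Matrix OnePoint

section Mats

variable {K : Type*} [Field K] [DecidableEq K]

theorem sl_smul_infty (A : SpecialLinearGroup (Fin 2) K) :
    (SpecialLinearGroup.toGL A) • (∞ : OnePoint K) =
      if A.1 1 0 = 0 then ∞ else ((A.1 0 0 / A.1 1 0 : K) : OnePoint K) :=
  OnePoint.smul_infty_eq_ite _

theorem sl_smul_coe (A : SpecialLinearGroup (Fin 2) K) (x : K) :
    (SpecialLinearGroup.toGL A) • (x : OnePoint K) =
      if A.1 1 0 * x + A.1 1 1 = 0 then ∞ else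
        (((A.1 0 0 * x + A.1 0 1) / (A.1 1 0 * x + A.1 1 1) : K) : OnePoint K) :=
  OnePoint.smul_some_eq_ite

/-- The translation matrix. -/
def slU (β : K) : SpecialLinearGroup (Fin 2) K := ⟨!![1, β; 0, 1], by simp [Matrix.det_fin_two]⟩

/-- The diagonal matrix. -/
def slD (ρ : K) (hρ : ρ ≠ 0) : SpecialLinearGroup (Fin 2) K :=
  ⟨!![ρ, 0; 0, ρ⁻¹], by simp [Matrix.det_fin_two, hρ]⟩

/-- The inversion matrix. -/
def slT (r₀ : K) (hr : r₀ ≠ 0) : SpecialLinearGroup (Fin 2) K :=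
  ⟨!![0, -r₀; r₀⁻¹, 0], by simp [Matrix.det_fin_two, hr]⟩

theorem slU_infty (β : K) : (SpecialLinearGroup.toGL (slU β)) • (∞ : OnePoint K) = ∞ := by
  rw [sl_smul_infty]
  simp [slU]

theorem slU_coe (β x : K) :
    (SpecialLinearGroup.toGL (slU β)) • (x : OnePoint K) = ((x + β : K) : OnePoint K) := by
  rw [sl_smul_coe]
  simp [slU]

theorem slD_infty (ρ : K) (hρ : ρ ≠ 0) :
    (SpecialLinearGroup.toGL (slD ρ hρ)) • (∞ : OnePoint K) = ∞ := by
  rw [sl_smul_infty]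
  simp [slD]

theorem slD_coe (ρ : K) (hρ : ρ ≠ 0) (x : K) :
    (SpecialLinearGroup.toGL (slD ρ hρ)) • (x : OnePoint K) = ((ρ ^ 2 * x : K) : OnePoint K) := by
  rw [sl_smul_coe]
  simp only [slD, Matrix.of_apply, Matrix.cons_val', Matrix.cons_val_zero, Matrix.cons_val_one,
    Matrix.cons_val_fin_one, zero_mul, zero_add, add_zero]
  rw [if_neg (inv_ne_zero hρ)]
  congr 1
  field_simp

theorem slT_infty (r₀ : K) (hr : r₀ ≠ 0) :
    (SpecialLinearGroup.toGL (slT r₀ hr)) • (∞ : OnePoint K) = ((0 : K) : OnePoint K) := by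
  rw [sl_smul_infty]
  simp [slT, hr]

theorem slT_zero (r₀ : K) (hr : r₀ ≠ 0) :
    (SpecialLinearGroup.toGL (slT r₀ hr)) • ((0 : K) : OnePoint K) = ∞ := by
  rw [sl_smul_coe]
  simp [slT]

theorem slT_coe (r₀ : K) (hr : r₀ ≠ 0) (x : K) (hx : x ≠ 0) :
    (SpecialLinearGroup.toGL (slT r₀ hr)) • (x : OnePoint K) =
      ((-r₀ ^ 2 / x : K) : OnePoint K) := by
  rw [sl_smul_coe]
  simp only [slT, Matrix.of_apply, Matrix.cons_val', Matrix.cons_val_zero, Matrix.cons_val_one,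
    Matrix.cons_val_fin_one, zero_mul, zero_add, add_zero]
  rw [if_neg (mul_ne_zero (inv_ne_zero hr) hx)]
  congr 1
  field_simp

theorem sl_decomp_upper (A : SpecialLinearGroup (Fin 2) K) (h10 : A.1 1 0 = 0) :
    ∃ (ρ : K) (hρ : ρ ≠ 0) (β : K), A = slD ρ hρ * slU β := by
  have hdet := A.2
  rw [Matrix.det_fin_two, h10, mul_zero, sub_zero] at hdet
  have h00 : A.1 0 0 ≠ 0 := by
    intro h
    rw [h, zero_mul] at hdet
    exact zero_ne_one hdet
  refine ⟨A.1 0 0, h00, A.1 0 1 / A.1 0 0, ?_⟩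
  apply Subtype.ext
  change A.1 = !![A.1 0 0, 0; 0, (A.1 0 0)⁻¹] * !![1, A.1 0 1 / A.1 0 0; 0, 1]
  rw [Matrix.mul_fin_two]
  conv_lhs => rw [Matrix.eta_fin_two A.1]
  have e1 : A.1 0 0 * (A.1 0 1 / A.1 0 0) + 0 * 1 = A.1 0 1 := by
    field_simp
    ring
  have e2 : (0 : K) * (A.1 0 1 / A.1 0 0) + (A.1 0 0)⁻¹ * 1 = A.1 1 1 := by
    rw [zero_mul, zero_add, mul_one]
    exact (eq_inv_of_mul_eq_one_right hdet).symm
  rw [e1, e2, h10]
  simp

theorem sl_decomp_lower (r₀ : K) (hr : r₀ ≠ 0) (A : SpecialLinearGroup (Fin 2) K)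
    (h10 : A.1 1 0 ≠ 0) :
    ∃ (α ρ : K) (hρ : ρ ≠ 0) (β : K), A = slU α * slT r₀ hr * slD ρ hρ * slU β := by
  have hdet := A.2
  rw [Matrix.det_fin_two] at hdet
  refine ⟨A.1 0 0 / A.1 1 0, A.1 1 0 * r₀, mul_ne_zero h10 hr, A.1 1 1 / A.1 1 0, ?_⟩
  apply Subtype.ext
  change A.1 = !![1, A.1 0 0 / A.1 1 0; 0, 1] * !![0, -r₀; r₀⁻¹, 0] *
    !![A.1 1 0 * r₀, 0; 0, (A.1 1 0 * r₀)⁻¹] * !![1, A.1 1 1 / A.1 1 0; 0, 1]
  rw [Matrix.mul_fin_two, Matrix.mul_fin_two, Matrix.mul_fin_two]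
  conv_lhs => rw [Matrix.eta_fin_two A.1]
  have e00 : (1 * 0 + A.1 0 0 / A.1 1 0 * r₀⁻¹) * (A.1 1 0 * r₀) +
      (1 * -r₀ + A.1 0 0 / A.1 1 0 * 0) * 0 = A.1 0 0 := by
    field_simp
    ring
  have e10 : (0 * 0 + 1 * r₀⁻¹) * (A.1 1 0 * r₀) + (0 * -r₀ + 1 * 0) * 0 = A.1 1 0 := by
    field_simp
    ring
  have e01 : ((1 * 0 + A.1 0 0 / A.1 1 0 * r₀⁻¹) * (A.1 1 0 * r₀) +
      (1 * -r₀ + A.1 0 0 / A.1 1 0 * 0) * 0) * (A.1 1 1 / A.1 1 0) +
      ((1 * 0 + A.1 0 0 / A.1 1 0 * r₀⁻¹) * 0 +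
        (1 * -r₀ + A.1 0 0 / A.1 1 0 * 0) * (A.1 1 0 * r₀)⁻¹) * 1 = A.1 0 1 := by
    rw [e00]
    have h1 : A.1 0 1 = (A.1 0 0 * A.1 1 1 - 1) / A.1 1 0 := by
      rw [eq_div_iff h10]
      linear_combination -hdet
    rw [h1]
    field_simp
    ring
  have e11 : ((0 * 0 + 1 * r₀⁻¹) * (A.1 1 0 * r₀) + (0 * -r₀ + 1 * 0) * 0) *
      (A.1 1 1 / A.1 1 0) +
      ((0 * 0 + 1 * r₀⁻¹) * 0 + (0 * -r₀ + 1 * 0) * (A.1 1 0 * r₀)⁻¹) * 1 = A.1 1 1 := by
    field_simp
    ring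
  rw [e01, e11, e00, e10]
  simp

end Mats

section Coords

variable {K : Type*} [Field K] [DecidableEq K]

theorem psl_of_coords {G : Type*} [Group G] {Ω : Type*} [MulAction G Ω] [FaithfulSMul G Ω]
    (a : Ω) (pt : K → Ω) (hinj : Function.Injective pt) (hne : ∀ x, pt x ≠ a)
    (hsurj : ∀ c, c ≠ a → ∃ x, pt x = c)
    (hT : ∀ β : K, ∃ u : G, u • a = a ∧ ∀ x, u • pt x = pt (x + β))
    (hM : ∀ ρ : K, ρ ≠ 0 → ∃ h : G, h • a = a ∧ ∀ x, h • pt x = pt (ρ ^ 2 * x))
    (hA : ∀ g : G, g • a = a → ∃ ρ β : K, ρ ≠ 0 ∧ ∀ x, g • pt x = pt (ρ ^ 2 * x + β))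
    (t : G) (r₀ : K) (hr₀ : r₀ ≠ 0) (hta : t • a = pt 0) (ht0 : t • pt 0 = a)
    (ht : ∀ x, x ≠ 0 → t • pt x = pt (-r₀ ^ 2 / x)) :
    Nonempty (G ≃* Matrix.ProjectiveSpecialLinearGroup (Fin 2) K) := by
  classical
  let f : OnePoint K → Ω := fun P => Option.elim P a pt
  have hfbij : Function.Bijective f := by
    constructor
    · intro P Q hPQ
      induction P using OnePoint.rec with
      | infty =>
        induction Q using OnePoint.rec with
        | infty => rfl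
        | coe y => exact absurd hPQ.symm (hne y)
      | coe x =>
        induction Q using OnePoint.rec with
        | infty => exact absurd hPQ (hne x)
        | coe y =>
          have h1 : pt x = pt y := hPQ
          rw [hinj h1]
    · intro c
      by_cases hc : c = a
      · exact ⟨∞, hc.symm⟩
      · obtain ⟨x, hx⟩ := hsurj c hc
        exact ⟨(x : OnePoint K), hx⟩
  let ι : OnePoint K ≃ Ω := Equiv.ofBijective f hfbij
  let Θ : G →* Equiv.Perm Ω := MulAction.toPermHom G Ω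
  let Ψ : SpecialLinearGroup (Fin 2) K →* Equiv.Perm Ω :=
    (ι.permCongrHom.toMonoidHom).comp
      ((MulAction.toPermHom (GL (Fin 2) K) (OnePoint K)).comp SpecialLinearGroup.toGL)
  have hΨ : ∀ (A : SpecialLinearGroup (Fin 2) K) (P : OnePoint K),
      Ψ A (f P) = f ((SpecialLinearGroup.toGL A) • P) := by
    intro A P
    change ι ((SpecialLinearGroup.toGL A) • (ι.symm (ι P))) = _
    rw [ι.symm_apply_apply]
    rfl
  have hcrit : ∀ (g : G) (A : SpecialLinearGroup (Fin 2) K),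
      (g • a = f ((SpecialLinearGroup.toGL A) • (∞ : OnePoint K))) →
      (∀ x : K, g • pt x = f ((SpecialLinearGroup.toGL A) • (x : OnePoint K))) → Θ g = Ψ A := by
    intro g A h1 h2
    ext c
    obtain ⟨P, rfl⟩ := hfbij.2 c
    rw [hΨ]
    induction P using OnePoint.rec with
    | infty => exact h1
    | coe x => exact h2 x
  have hU : ∀ β : K, ∃ u : G, Θ u = Ψ (slU β) := by
    intro β
    obtain ⟨u, hua, hu⟩ := hT β
    refine ⟨u, hcrit u _ ?_ ?_⟩
    · rw [slU_infty]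
      exact hua
    · intro x
      rw [slU_coe]
      exact hu x
  have hD : ∀ (ρ : K) (hρ : ρ ≠ 0), ∃ h : G, Θ h = Ψ (slD ρ hρ) := by
    intro ρ hρ
    obtain ⟨h, hha, hh⟩ := hM ρ hρ
    refine ⟨h, hcrit h _ ?_ ?_⟩
    · rw [slD_infty]
      exact hha
    · intro x
      rw [slD_coe]
      exact hh x
  have hTm : Θ t = Ψ (slT r₀ hr₀) := by
    refine hcrit t _ ?_ ?_
    · rw [slT_infty]
      exact hta
    · intro x
      by_cases hx : x = 0
      · rw [hx, slT_zero]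
        exact ht0
      · rw [slT_coe r₀ hr₀ x hx]
        exact ht x hx
  have hle1 : Ψ.range ≤ Θ.range := by
    rintro _ ⟨A, rfl⟩
    by_cases h10 : A.1 1 0 = 0
    · obtain ⟨ρ, hρ, β, rfl⟩ := sl_decomp_upper A h10
      obtain ⟨h, hh⟩ := hD ρ hρ
      obtain ⟨u, hu⟩ := hU β
      exact ⟨h * u, by rw [map_mul, map_mul, hh, hu]⟩
    · obtain ⟨α, ρ, hρ, β, rfl⟩ := sl_decomp_lower r₀ hr₀ A h10
      obtain ⟨h, hh⟩ := hD ρ hρ
      obtain ⟨u, hu⟩ := hU β
      obtain ⟨u', hu'⟩ := hU α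
      exact ⟨u' * t * h * u, by simp only [map_mul, hh, hu, hu', hTm]⟩
  have hGa : ∀ g : G, g • a = a → Θ g ∈ Ψ.range := by
    intro g hg
    obtain ⟨ρ, β, hρ, hgx⟩ := hA g hg
    refine ⟨slU β * slD ρ hρ, ?_⟩
    symm
    apply hcrit g
    · rw [map_mul, mul_smul, slD_infty, slU_infty]
      exact hg
    · intro x
      rw [map_mul, mul_smul, slD_coe, slU_coe]
      exact hgx x
  have hle2 : Θ.range ≤ Ψ.range := by
    rintro _ ⟨g, rfl⟩
    by_cases hg : g • a = a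
    · exact hGa g hg
    · obtain ⟨β, hβ⟩ := hsurj _ hg
      obtain ⟨u, hua, hu⟩ := hT β
      have h1 : (t⁻¹ * u⁻¹ * g) • a = a := by
        rw [mul_smul, mul_smul, inv_smul_eq_iff, inv_smul_eq_iff, hta, ← hβ, hu 0, zero_add]
      have h2 : g = u * t * (t⁻¹ * u⁻¹ * g) := by group
      rw [h2, map_mul, map_mul]
      exact Ψ.range.mul_mem (Ψ.range.mul_mem (hGa u hua) ⟨_, hTm.symm⟩) (hGa _ h1)
  have hrange : Θ.range = Ψ.range := le_antisymm hle2 hle1
  have hΘinj : Function.Injective Θ := MulAction.toPerm_injective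
  have hker : Ψ.ker = Subgroup.center (SpecialLinearGroup (Fin 2) K) := by
    ext A
    rw [MonoidHom.mem_ker]
    constructor
    · intro h
      have h1 : MulAction.toPermHom (GL (Fin 2) K) (OnePoint K) (SpecialLinearGroup.toGL A) = 1 := by
        apply ι.permCongrHom.injective
        rw [map_one]
        exact h
      have h2 : SpecialLinearGroup.toGL A ∈ Subgroup.center (GL (Fin 2) K) := by
        rw [← Cfsg.Agent.H60.mob_ker]
        exact h1
      rw [Subgroup.mem_center_iff]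
      intro B
      have h3 := Subgroup.mem_center_iff.mp h2 (SpecialLinearGroup.toGL B)
      rw [← map_mul, ← map_mul] at h3
      apply Subtype.ext
      have h4 := congrArg (fun M : GL (Fin 2) K => (M : Matrix (Fin 2) (Fin 2) K)) h3
      exact h4
    · intro h
      rw [Matrix.SpecialLinearGroup.mem_center_iff] at h
      obtain ⟨r, hr, hrA⟩ := h
      have hr0 : r ≠ 0 := by
        rintro rfl
        simp at hr
      have e00 : A.1 0 0 = r := by rw [← hrA]; simp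
      have e01 : A.1 0 1 = 0 := by rw [← hrA]; simp
      have e10 : A.1 1 0 = 0 := by rw [← hrA]; simp
      have e11 : A.1 1 1 = r := by rw [← hrA]; simp
      have h1 : Θ 1 = Ψ A := by
        apply hcrit 1 A
        · rw [one_smul, sl_smul_infty, if_pos e10]
          rfl
        · intro x
          rw [one_smul, sl_smul_coe, e10, e11, e00, e01, zero_mul, zero_add, add_zero, if_neg hr0,
            mul_div_cancel_left₀ x hr0]
          rfl
      rw [← h1, map_one]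
  exact ⟨(MonoidHom.ofInjective hΘinj).trans ((MulEquiv.subgroupCongr hrange).trans
    ((QuotientGroup.quotientKerEquivRange Ψ).symm.trans (QuotientGroup.quotientMulEquivOfEq hker)))⟩

end Coords

end Cfsg.Agent.H19
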