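import Mathlib
import Cfsg.Agent.H19.ZId1
import Cfsg.Agent.H19.ZId2
import Cfsg.Agent.H19.ZId3

/-!
# Identification of Zassenhaus groups with `PSL(2, q)`: the group side (helper19)

* `zass_coords` : coordinates `Ω = {a} ∪ pt(K)` for a finite field `K`, in which the point
  stabilizer `G_a = F ⋊ H` acts by `x ↦ ρ² x + β`;
* `zass_id` : a Zassenhaus-type group with abelian regular normal `F ≤ G_a`, `|F| = 2|G_ab| + 1`,
  in which the elements swapping `a, b` are involutions, is `PSL(2, K)`.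
-/

set_option autoImplicit false
set_option linter.style.haveILetI false
set_option linter.unusedSectionVars false

namespace Cfsg.Agent.H19

open MulAction

universe u v

set_option maxHeartbeats 1000000 in
theorem zass_coords {G : Type u} {Ω : Type v} [Group G] [Finite G] [MulAction G Ω]
    (h3 : ∀ g : G, ∀ x y z : Ω, x ≠ y → y ≠ z → x ≠ z → g • x = x → g • y = y → g • z = z → g = 1)
    {a b : Ω} (hab : a ≠ b)
    (F : Subgroup G) (hFle : F ≤ stabilizer G a)
    (hFn : ∀ g ∈ stabilizer G a, ∀ u ∈ F, g * u * g⁻¹ ∈ F)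
    (hreg : ∀ y z : Ω, y ≠ a → z ≠ a → ∃! u : F, (u : G) • y = z)
    (hFab : ∀ u ∈ F, ∀ w ∈ F, u * w = w * u)
    (hHab : ∀ h ∈ (stabilizer G a ⊓ stabilizer G b : Subgroup G),
      ∀ k ∈ (stabilizer G a ⊓ stabilizer G b : Subgroup G), h * k = k * h)
    (p f : ℕ) (hp : p.Prime) (hcardF : Nat.card F = p ^ f)
    (hd : 2 * Nat.card (stabilizer G a ⊓ stabilizer G b : Subgroup G) + 1 = Nat.card F) :
    ∃ (K : Type) (_ : Field K) (_ : Fintype K) (pt : K → Ω),
      Fintype.card K = Nat.card F ∧ ringChar K ≠ 2 ∧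
      (IsSquare (-1 : K) ↔ Even (Nat.card (stabilizer G a ⊓ stabilizer G b : Subgroup G))) ∧
      Function.Injective pt ∧ (∀ x, pt x ≠ a) ∧ (∀ c, c ≠ a → ∃ x, pt x = c) ∧ pt 0 = b ∧
      (∀ β : K, ∃ u : G, u • a = a ∧ ∀ x, u • pt x = pt (x + β)) ∧
      (∀ ρ : K, ρ ≠ 0 → ∃ h : G, h • a = a ∧ h • b = b ∧ ∀ x, h • pt x = pt (ρ ^ 2 * x)) ∧
      (∀ g : G, g • a = a → ∃ ρ β : K, ρ ≠ 0 ∧ ∀ x, g • pt x = pt (ρ ^ 2 * x + β)) := by
  classical
  obtain ⟨H, hH⟩ : ∃ H : Subgroup G, H = stabilizer G a ⊓ stabilizer G b := ⟨_, rfl⟩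
  rw [← hH] at hHab hd ⊢
  have hHmem : ∀ g : G, g ∈ H ↔ g • a = a ∧ g • b = b := by
    intro g
    rw [hH, Subgroup.mem_inf, mem_stabilizer_iff, mem_stabilizer_iff]
  have hFa : ∀ u ∈ F, u • a = a := fun u hu => hFle hu
  have hba : b ≠ a := hab.symm
  have hFne : ∀ u ∈ F, ∀ y, y ≠ a → u • y ≠ a := by
    intro u hu y hy h
    have h1 : u • y = u • a := by rw [h, hFa u hu]
    exact hy (smul_left_cancel u h1)
  have huniq : ∀ u ∈ F, ∀ w ∈ F, ∀ y, y ≠ a → u • y = w • y → u = w := by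
    intro u hu w hw y hy h
    obtain ⟨z, -, hz⟩ := hreg y (u • y) hy (hFne u hu y hy)
    have h1 := hz ⟨u, hu⟩ rfl
    have h2 := hz ⟨w, hw⟩ h.symm
    exact congrArg Subtype.val (h1.trans h2.symm)
  have hnorm : ∀ h ∈ H, ∀ u ∈ F, h * u * h⁻¹ ∈ F :=
    fun h hh u hu => hFn h (mem_stabilizer_iff.mpr ((hHmem h).mp hh).1) u hu
  have hfree : ∀ h ∈ H, h ≠ 1 → ∀ u ∈ F, u ≠ 1 → h * u * h⁻¹ ≠ u := by
    intro h hh hh1 u hu hu1 hc
    obtain ⟨hha, hhb⟩ := (hHmem h).mp hh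
    apply hh1
    have hub : u • b ≠ b := fun h' => hu1 (huniq u hu 1 F.one_mem b hba (by rw [h', one_smul]))
    refine h3 h a b (u • b) hab (Ne.symm hub) (Ne.symm (hFne u hu b hba)) hha hhb ?_
    have h1 : h * u = u * h := by
      have := congrArg (fun z => z * h) hc
      simpa [mul_assoc] using this
    rw [← mul_smul, h1, mul_smul, hhb]
  obtain ⟨K, iF, iFt, φ, σ, hφbij, hφadd, hφσ⟩ :=
    exists_field_coord F H hFab hHab hnorm hfree p f hp hcardF hd
  refine ⟨K, iF, iFt, ?_⟩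
  obtain ⟨ψ, hψ1, hψ2⟩ := Function.bijective_iff_has_inverse.mp hφbij
  have hφ1 : φ 1 = 0 := by
    have h1 := hφadd 1 1
    rw [mul_one] at h1
    linear_combination -h1
  have hψ0 : ψ 0 = 1 := by rw [← hφ1, hψ1]
  have hψadd : ∀ x y : K, ψ (x + y) = ψ x * ψ y := by
    intro x y
    have h1 := hφadd (ψ x) (ψ y)
    rw [hψ2, hψ2] at h1
    rw [← h1, hψ1]
  obtain ⟨pt, hpt⟩ : ∃ pt : K → Ω, pt = fun x => ((ψ x : F) : G) • b := ⟨_, rfl⟩
  have hptx : ∀ x : K, pt x = ((ψ x : F) : G) • b := fun x => by rw [hpt]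
  have hptφ : ∀ u : F, pt (φ u) = (u : G) • b := by
    intro u
    rw [hptx, hψ1]
  have hinj : Function.Injective pt := by
    intro x y hxy
    rw [hptx, hptx] at hxy
    have h1 : ψ x = ψ y := Subtype.ext (huniq (ψ x) (ψ x).2 (ψ y) (ψ y).2 b hba hxy)
    have h2 := congrArg φ h1
    rwa [hψ2, hψ2] at h2
  have hne : ∀ x, pt x ≠ a := fun x => by
    rw [hptx]
    exact hFne _ (ψ x).2 b hba
  have hsurj : ∀ c, c ≠ a → ∃ x, pt x = c := by
    intro c hc
    obtain ⟨u, hu, -⟩ := hreg b c hba hc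
    exact ⟨φ u, by rw [hptφ]; exact hu⟩
  have hpt0 : pt 0 = b := by
    rw [hptx, hψ0]
    exact one_smul _ b
  have hTF : ∀ (u : F) (x : K), (u : G) • pt x = pt (x + φ u) := by
    intro u x
    rw [hptx, hptx, hψadd, hψ1, Subgroup.coe_mul, ← mul_smul, hFab _ u.2 _ (ψ x).2]
  have hT : ∀ β : K, ∃ u : G, u • a = a ∧ ∀ x, u • pt x = pt (x + β) := by
    intro β
    refine ⟨(ψ β : G), hFa _ (ψ β).2, fun x => ?_⟩
    rw [hTF, hψ2]
  have hHact : ∀ (h : H) (x : K), (h : G) • pt x = pt (σ h * x) := by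
    intro h x
    have h1 := hφσ h (ψ x)
    rw [hψ2] at h1
    rw [← h1, hptφ, hptx]
    have hhb : (h : G) • b = b := ((hHmem h).mp h.2).2
    change (h : G) • ((ψ x : F) : G) • b = ((h : G) * ((ψ x : F) : G) * (h : G)⁻¹) • b
    rw [mul_smul, mul_smul, inv_smul_eq_iff.mpr hhb.symm]
  have h10 : (1 : K) ≠ 0 := one_ne_zero
  have hσ0 : ∀ h : H, σ h ≠ 0 := by
    intro h hc
    have h1 := hHact h 1
    rw [hc, zero_mul, hpt0] at h1
    have hhb : (h : G) • b = b := ((hHmem h).mp h.2).2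
    have h2 : (h : G) • pt 1 = (h : G) • b := by rw [h1, hhb]
    have h4 := smul_left_cancel _ h2
    rw [← hpt0] at h4
    exact h10 (hinj h4)
  have hσmul : ∀ h k : H, σ (h * k) = σ h * σ k := by
    intro h k
    have h1 := hHact (h * k) 1
    rw [Subgroup.coe_mul, mul_smul, hHact k 1, hHact h] at h1
    have h2 := hinj h1
    rw [mul_one, mul_one] at h2
    exact h2.symm
  have hσ1 : σ 1 = 1 := by
    have h1 := hHact 1 1
    rw [Subgroup.coe_one, one_smul] at h1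
    have h2 := hinj h1
    rw [mul_one] at h2
    exact h2.symm
  have hσinj : Function.Injective σ := by
    intro h k hhk
    have h1 : (h : G) • pt 1 = (k : G) • pt 1 := by rw [hHact, hHact, hhk]
    have h2 : ((h : G)⁻¹ * (k : G)) = 1 := by
      obtain ⟨hha, hhb⟩ := (hHmem h).mp h.2
      obtain ⟨hka, hkb⟩ := (hHmem k).mp k.2
      refine h3 _ a b (pt 1) hab ?_ (Ne.symm (hne 1)) ?_ ?_ ?_
      · rw [← hpt0]
        exact fun hc => h10 (hinj hc).symm
      · rw [mul_smul, hka, inv_smul_eq_iff, hha]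
      · rw [mul_smul, hkb, inv_smul_eq_iff, hhb]
      · rw [mul_smul, ← h1, inv_smul_smul]
    apply Subtype.ext
    exact inv_mul_eq_one.mp h2
  have hcardK : Fintype.card K = Nat.card F := by
    rw [← Nat.card_eq_fintype_card]
    exact (Nat.card_congr (Equiv.ofBijective φ hφbij)).symm
  obtain ⟨d, hd_def⟩ : ∃ d, d = Nat.card H := ⟨_, rfl⟩
  have hKd : Fintype.card K = 2 * d + 1 := by rw [hcardK, ← hd, hd_def]
  have hdiv : Fintype.card K / 2 = d := by omega
  have hchar : ringChar K ≠ 2 := by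
    intro hc
    have := FiniteField.even_card_iff_char_two.mp hc
    omega
  let σm : H →* K := { toFun := σ, map_one' := hσ1, map_mul' := hσmul }
  have hσsq : ∀ h : H, IsSquare (σ h) := by
    intro h
    rw [FiniteField.isSquare_iff hchar (hσ0 h), hdiv]
    have h1 : σm (h ^ d) = (σm h) ^ d := map_pow σm h d
    have h2 : h ^ d = 1 := by
      rw [hd_def]
      exact pow_card_eq_one'
    rw [h2, map_one] at h1
    exact h1.symm
  have hσsurj : ∀ ρ : K, ρ ≠ 0 → ∃ h : H, σ h = ρ ^ 2 := by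
    intro ρ hρ
    let σu : H →* Kˣ := σm.toHomUnits
    have hσu : ∀ h, ((σu h : Kˣ) : K) = σ h := fun h => rfl
    have hinju : Function.Injective σu := by
      intro h k hhk
      apply hσinj
      rw [← hσu, ← hσu, hhk]
    have hcr : Nat.card σu.range = d := by
      rw [hd_def]
      exact (Nat.card_congr (MonoidHom.ofInjective hinju).toEquiv).symm
    have hcu : Nat.card Kˣ = 2 * d := by
      rw [Nat.card_units, Nat.card_eq_fintype_card, hKd]
      simp
    have hidx : σu.range.index = 2 := by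
      have h1 := Subgroup.card_mul_index σu.range
      rw [hcr, hcu] at h1
      have hd0 : 0 < d := by
        rw [hd_def]
        exact Nat.card_pos
      exact Nat.eq_of_mul_eq_mul_left hd0 (by rw [h1, mul_comm])
    obtain ⟨h, hh⟩ := Subgroup.sq_mem_of_index_two hidx (Units.mk0 ρ hρ)
    refine ⟨h, ?_⟩
    rw [← hσu, hh]
    simp
  have hm1 : IsSquare (-1 : K) ↔ Even (Nat.card H) := by
    rw [FiniteField.isSquare_iff hchar (neg_ne_zero.mpr one_ne_zero), hdiv, ← hd_def]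
    exact neg_one_pow_eq_one_iff_even (Ring.neg_one_ne_one_of_char_ne_two hchar)
  refine ⟨pt, hcardK, hchar, hm1, hinj, hne, hsurj, hpt0, hT, ?_, ?_⟩
  · intro ρ hρ
    obtain ⟨h, hh⟩ := hσsurj ρ hρ
    obtain ⟨hha, hhb⟩ := (hHmem h).mp h.2
    exact ⟨h, hha, hhb, fun x => by rw [hHact, hh]⟩
  · intro g hg
    have hgb : g • b ≠ a := by
      intro h
      have h1 : g • b = g • a := by rw [h, hg]
      exact hba (smul_left_cancel g h1)
    obtain ⟨u, hu, -⟩ := hreg b (g • b) hba hgb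
    have hmem : (u : G)⁻¹ * g ∈ H := by
      rw [hHmem]
      constructor
      · rw [mul_smul, hg, inv_smul_eq_iff, hFa u u.2]
      · rw [mul_smul, inv_smul_eq_iff]
        exact hu.symm
    obtain ⟨ρ, hρ⟩ := hσsq ⟨_, hmem⟩
    have hρ0 : ρ ≠ 0 := by
      rintro rfl
      rw [mul_zero] at hρ
      exact hσ0 _ hρ
    refine ⟨ρ, φ u, hρ0, fun x => ?_⟩
    have h1 := hHact ⟨_, hmem⟩ x
    have h2 : g • pt x = (u : G) • (((u : G)⁻¹ * g) • pt x) := by
      rw [← mul_smul, mul_inv_cancel_left]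
    rw [h2, h1, hρ, ← sq, hTF]

set_option maxHeartbeats 1000000 in
/-- **Identification theorem**: a group `G` acting faithfully on `Ω` with trivial three-point
stabilizers, an abelian regular normal subgroup `F` of `G_a` of prime power order
`2 |G_ab| + 1`, in which all elements swapping `a` and `b` are involutions, one of them `t` with
the right fixed-point behaviour, is isomorphic to `PSL(2, K)` for a field `K` of order `|F|`. -/
theorem zass_id {G : Type u} {Ω : Type v} [Group G] [Finite G] [MulAction G Ω] [FaithfulSMul G Ω]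
    (h3 : ∀ g : G, ∀ x y z : Ω, x ≠ y → y ≠ z → x ≠ z → g • x = x → g • y = y → g • z = z → g = 1)
    {a b : Ω} (hab : a ≠ b)
    (F : Subgroup G) (hFle : F ≤ stabilizer G a)
    (hFn : ∀ g ∈ stabilizer G a, ∀ u ∈ F, g * u * g⁻¹ ∈ F)
    (hreg : ∀ y z : Ω, y ≠ a → z ≠ a → ∃! u : F, (u : G) • y = z)
    (hFab : ∀ u ∈ F, ∀ w ∈ F, u * w = w * u)
    (p f : ℕ) (hp : p.Prime) (hcardF : Nat.card F = p ^ f)
    (hd : 2 * Nat.card (stabilizer G a ⊓ stabilizer G b : Subgroup G) + 1 = Nat.card F)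
    (hswap : ∀ s : G, s • a = b → s • b = a → s * s = 1)
    (t : G) (hta : t • a = b) (htb : t • b = a)
    (htfix : (Even (Nat.card (stabilizer G a ⊓ stabilizer G b : Subgroup G)) ∧ ∃ c : Ω, t • c = c) ∨
      (Odd (Nat.card (stabilizer G a ⊓ stabilizer G b : Subgroup G)) ∧ ∀ c : Ω, t • c ≠ c)) :
    ∃ (K : Type) (_ : Field K) (_ : Fintype K), Fintype.card K = Nat.card F ∧
      Nonempty (G ≃* Matrix.ProjectiveSpecialLinearGroup (Fin 2) K) := by
  classical
  have htt : t * t = 1 := hswap t hta htb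
  have hHmem : ∀ g : G, g ∈ (stabilizer G a ⊓ stabilizer G b : Subgroup G) ↔
      g • a = a ∧ g • b = b := by
    intro g
    rw [Subgroup.mem_inf, mem_stabilizer_iff, mem_stabilizer_iff]
  have hHinv : ∀ h : G, h • a = a → h • b = b → t * h * t = h⁻¹ := by
    intro h hha hhb
    have h1 : (t * h) * (t * h) = 1 :=
      hswap (t * h) (by rw [mul_smul, hha, hta]) (by rw [mul_smul, hhb, htb])
    exact eq_inv_of_mul_eq_one_left (by rw [← h1]; group)
  have hHab : ∀ h ∈ (stabilizer G a ⊓ stabilizer G b : Subgroup G),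
      ∀ k ∈ (stabilizer G a ⊓ stabilizer G b : Subgroup G), h * k = k * h := by
    intro h hh k hk
    obtain ⟨hha, hhb⟩ := (hHmem h).mp hh
    obtain ⟨hka, hkb⟩ := (hHmem k).mp hk
    have e1 := hHinv h hha hhb
    have e2 := hHinv k hka hkb
    have e3 := hHinv (h * k) (by rw [mul_smul, hka, hha]) (by rw [mul_smul, hkb, hhb])
    have e4 : t * (h * k) * t = (t * h * t) * (t * k * t) := by
      calc t * (h * k) * t = t * h * (t * t) * k * t := by rw [htt]; group
        _ = (t * h * t) * (t * k * t) := by group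
    rw [e4, e1, e2] at e3
    have e5 := congrArg (fun z => z⁻¹) e3
    simp only [mul_inv_rev, inv_inv] at e5
    exact e5.symm
  obtain ⟨K, iF, iFt, pt, hcardK, hchar, hm1, hinj, hne, hsurj, hpt0, hT, hM, hA⟩ :=
    zass_coords h3 hab F hFle hFn hreg hFab hHab p f hp hcardF hd
  refine ⟨K, iF, iFt, hcardK, ?_⟩
  have ht_pt : ∀ x : K, x ≠ 0 → ∃ y : K, y ≠ 0 ∧ t • pt x = pt y := by
    intro x hx
    have h1 : t • pt x ≠ a := by
      intro h
      have h2 : pt x = pt 0 := by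
        rw [hpt0, ← hta, ← h, ← mul_smul, htt, one_smul]
      exact hx (hinj h2)
    obtain ⟨y, hy⟩ := hsurj _ h1
    refine ⟨y, ?_, hy.symm⟩
    rintro rfl
    rw [hpt0, ← hta] at hy
    exact hne x (smul_left_cancel t hy).symm
  choose! τ hτ0 hτ using ht_pt
  have hτinv : ∀ x, x ≠ 0 → τ (τ x) = x := by
    intro x hx
    apply hinj
    rw [← hτ (τ x) (hτ0 x hx), ← hτ x hx, ← mul_smul, htt, one_smul]
  have hτsq : ∀ r x : K, r ≠ 0 → x ≠ 0 → τ (r ^ 2 * x) = (r ^ 2)⁻¹ * τ x := by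
    intro r x hr hx
    obtain ⟨h, hha, hhb, hh⟩ := hM r hr
    have hr2 : r ^ 2 ≠ 0 := pow_ne_zero 2 hr
    apply hinj
    rw [← hτ _ (mul_ne_zero hr2 hx), ← hh x]
    have e1 : t * h = h⁻¹ * t := by
      have e2 := hHinv h hha hhb
      calc t * h = t * h * (t * t) := by rw [htt, mul_one]
        _ = (t * h * t) * t := by group
        _ = h⁻¹ * t := by rw [e2]
    rw [← mul_smul, e1, mul_smul, hτ x hx, inv_smul_eq_iff, hh]
    congr 1
    field_simp
  have hτfix : (IsSquare (-1 : K) ∧ ∃ x, x ≠ 0 ∧ τ x = x) ∨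
      (¬ IsSquare (-1 : K) ∧ ∀ x, x ≠ 0 → τ x ≠ x) := by
    rcases htfix with ⟨hev, c, hc⟩ | ⟨hodd, hnf⟩
    · left
      refine ⟨hm1.mpr hev, ?_⟩
      have hca : c ≠ a := by
        rintro rfl
        rw [hta] at hc
        exact hab hc.symm
      obtain ⟨x, hx⟩ := hsurj c hca
      have hx0 : x ≠ 0 := by
        rintro rfl
        rw [hpt0] at hx
        rw [← hx, htb] at hc
        exact hab hc
      refine ⟨x, hx0, ?_⟩
      apply hinj
      rw [← hτ x hx0, hx]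
      exact hc
    · right
      refine ⟨fun h => (Nat.not_even_iff_odd.mpr hodd) (hm1.mp h), ?_⟩
      intro x hx h
      have h5 : t • pt x = pt x := by rw [hτ x hx, h]
      exact hnf (pt x) h5
  have hSE : ∃ r γ : K, r ≠ 0 ∧ γ ≠ 0 ∧ τ γ = -τ 1 ∧
      ∀ x, x ≠ 0 → τ x + 1 ≠ 0 → r ^ 2 * x + γ ≠ 0 →
        τ (τ x + 1) = τ (r ^ 2 * x + γ) + τ 1 := by
    obtain ⟨u₁, hu₁a, hu₁⟩ := hT 1
    obtain ⟨u₂, hu₂a, hu₂⟩ := hT (τ 1)
    have h10 : (1 : K) ≠ 0 := one_ne_zero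
    obtain ⟨g₁, hg₁def⟩ : ∃ g₁, g₁ = t * u₂⁻¹ * (t * u₁ * t) := ⟨_, rfl⟩
    have hg₁ : g₁ • a = a := by
      rw [hg₁def]
      simp only [mul_smul]
      rw [hta, ← hpt0, hu₁ 0, zero_add, hτ 1 h10]
      have h5 : u₂⁻¹ • pt (τ 1) = pt 0 := by rw [inv_smul_eq_iff, hu₂ 0, zero_add]
      rw [h5, hpt0, htb]
    obtain ⟨r, γ, hr, hg₁x⟩ := hA _ hg₁
    have hg : t * u₁ * t = u₂ * t * g₁ := by
      rw [hg₁def]
      calc t * u₁ * t = u₂ * (t * t) * u₂⁻¹ * (t * u₁ * t) := by rw [htt]; group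
        _ = u₂ * t * (t * u₂⁻¹ * (t * u₁ * t)) := by group
    have hgpt : ∀ x, r ^ 2 * x + γ ≠ 0 →
        (t * u₁ * t) • pt x = pt (τ (r ^ 2 * x + γ) + τ 1) := by
      intro x hx
      rw [hg, mul_smul, mul_smul, hg₁x x, hτ _ hx, hu₂]
    have hgpt' : ∀ x, x ≠ 0 → τ x + 1 ≠ 0 → (t * u₁ * t) • pt x = pt (τ (τ x + 1)) := by
      intro x hx hx1
      rw [mul_smul, mul_smul, hτ x hx, hu₁, hτ _ hx1]
    have hg0 : (t * u₁ * t) • pt 0 = pt 0 := by
      rw [mul_smul, mul_smul, hpt0, htb, hu₁a, hta]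
    have hγ0 : γ ≠ 0 := by
      rintro rfl
      have e1 := hg0
      rw [hg, mul_smul, mul_smul, hg₁x 0, mul_zero, add_zero] at e1
      have e2 : t • pt 0 = a := by rw [hpt0, htb]
      rw [e2, hu₂a] at e1
      exact hne 0 e1.symm
    refine ⟨r, γ, hr, hγ0, ?_, ?_⟩
    · have e1 := hgpt 0 (by rw [mul_zero, zero_add]; exact hγ0)
      rw [hg0, mul_zero, zero_add] at e1
      have e2 := hinj e1
      linear_combination -e2
    · intro x hx hx1 hx2
      apply hinj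
      rw [← hgpt' x hx hx1, hgpt x hx2]
  obtain ⟨r₀, hr₀, hτeq⟩ := tau_lemma hchar τ hτ0 hτinv hτsq hτfix hSE
  exact psl_of_coords a pt hinj hne hsurj hT
    (fun ρ hρ => by
      obtain ⟨h, hha, -, hh⟩ := hM ρ hρ
      exact ⟨h, hha, hh⟩) hA t r₀ hr₀ (by rw [hta, hpt0]) (by rw [hpt0, htb])
    (fun x hx => by rw [hτ x hx, hτeq x hx])

end Cfsg.Agent.H19
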