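import Mathlib
import Cfsg.Prelude.Def_Characters
import Cfsg.Prelude.Def_LieExceptional
import Cfsg.Agent.H4.Chars
import Cfsg.Agent.H4.Induction
import Cfsg.Agent.H19.IndFun
import Cfsg.Agent.H19.LinChar
import Cfsg.Agent.H19.Zassenhaus
import Cfsg.Agent.H19.TwoTrans
import Cfsg.Agent.H19.BSTheta

/-!
# helper19: characters of a simple Zassenhaus group induced from the point stabilizer

* `transfer_eq_pow_of_fusion`: the transfer of `ϕ : H →* A` at `g ∈ H` is `ϕ g ^ H.index` as soon
  as `ϕ` takes the same value on `g ^ k` and on each of its `G`-conjugates lying in `H`.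
* `zass_not_comm`, `zass_hom_trivial`: a simple Zassenhaus group has no nontrivial homomorphism
  to a commutative group.
* `zass_card_modEq`: `n ≡ 2` modulo the order of a two-point stabilizer.
* `zass_conj_char_ne`: a nontrivial linear character `μ` of `G_a`, trivial on the Frobenius
  kernel, differs from its `x`-conjugate on `G_a ∩ G_{xa}` (two-point stabilizers of odd order).
* `zass_indFun_norm`, `zass_indFun_kernel`: the induced function has norm one and value `1` on
  the nonidentity elements of the kernel.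
-/

set_option autoImplicit false
set_option linter.style.haveILetI false
set_option linter.unusedSectionVars false

namespace Cfsg.Agent.H19

open Cfsg Cfsg.Agent.H4 MulAction
open scoped ComplexConjugate

theorem transfer_eq_pow_of_fusion {G : Type*} [Group G] {H : Subgroup G} {A : Type*} [CommGroup A]
    (ϕ : H →* A) [H.FiniteIndex] (g : H)
    (key : ∀ (k : ℕ) (g₀ : G) (hk : g₀⁻¹ * (g : G) ^ k * g₀ ∈ H),
      ϕ ⟨g₀⁻¹ * (g : G) ^ k * g₀, hk⟩ = ϕ (g ^ k)) :
    MonoidHom.transfer ϕ (g : G) = ϕ g ^ H.index := by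
  classical
  letI := H.fintypeQuotientOfFiniteIndex
  rw [MonoidHom.transfer_eq_prod_quotient_orbitRel_zpowers_quot,
    Subgroup.index_eq_sum_minimalPeriod H (g : G), ← Finset.prod_pow_eq_pow_sum]
  refine Finset.prod_congr rfl fun q _ => ?_
  rw [key, map_pow]

section Zass

variable {G Ω : Type*} [Group G] [MulAction G Ω]

theorem zass_not_comm (hZ : IsZassenhausGroup G Ω) : ¬ ∀ x y : G, x * y = y * x := by
  intro hcomm
  obtain ⟨hfaith, h2, -, ⟨g0, hg0, a0, b0, hab0, hga0, hgb0⟩, -⟩ := hZ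
  have h2t : ∀ {a b c d : Ω}, a ≠ b → c ≠ d → ∃ g : G, g • a = c ∧ g • b = d :=
    (MulAction.is_two_pretransitive_iff (G := G) (α := Ω)).mp h2
  apply hg0
  apply hfaith.eq_of_smul_eq_smul
  intro d
  rw [one_smul]
  by_cases hd : d = a0
  · rw [hd]; exact hga0
  · obtain ⟨x, hx, -⟩ := h2t hab0 hd
    rw [← hx, ← mul_smul, hcomm g0 x, mul_smul, hga0]

theorem zass_hom_trivial [IsSimpleGroup G] (hZ : IsZassenhausGroup G Ω) {A : Type*} [CommGroup A]
    (f : G →* A) (g : G) : f g = 1 := by
  rcases f.normal_ker.eq_bot_or_eq_top with h | h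
  · exfalso
    apply zass_not_comm hZ
    intro x y
    have hinj : Function.Injective f := (MonoidHom.ker_eq_bot_iff f).mp h
    apply hinj
    rw [map_mul, map_mul, mul_comm]
  · have : g ∈ f.ker := h ▸ Subgroup.mem_top g
    exact MonoidHom.mem_ker.mp this

theorem zass_card_modEq [Finite G] [Fintype Ω] (hZ : IsZassenhausGroup G Ω) {a c : Ω}
    (hac : a ≠ c) :
    ∃ k : ℕ, Fintype.card Ω + 2 * Nat.card (stabilizer G a ⊓ stabilizer G c : Subgroup G) =
      k * Nat.card (stabilizer G a ⊓ stabilizer G c : Subgroup G) + 2 := by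
  classical
  set E₀ : Subgroup G := stabilizer G a ⊓ stabilizer G c with hE₀
  haveI : Fintype E₀ := Fintype.ofFinite _
  have hB := sum_card_fixedBy E₀ Ω
  refine ⟨Nat.card (Quotient (orbitRel E₀ Ω)), ?_⟩
  rw [← hB, ← Finset.add_sum_erase Finset.univ _ (Finset.mem_univ (1 : E₀))]
  have h1 : Nat.card (fixedBy Ω (1 : E₀)) = Fintype.card Ω := by
    rw [← Nat.card_eq_fintype_card]
    apply Nat.card_congr
    exact Equiv.subtypeUnivEquiv (fun d => by simp)
  have h2 : ∀ y ∈ Finset.univ.erase (1 : E₀), Nat.card (fixedBy Ω y) = 2 := by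
    intro y hy
    have hy1 : (y : G) ≠ 1 := fun h => Finset.ne_of_mem_erase hy (Subtype.ext h)
    have hset : fixedBy Ω y = {a, c} := by
      ext d
      simp only [mem_fixedBy, Set.mem_insert_iff, Set.mem_singleton_iff]
      constructor
      · intro hd
        by_contra hcon
        push Not at hcon
        exact hy1 (hZ.2.2.1 (y : G) a c d hac (Ne.symm hcon.2) (Ne.symm hcon.1) y.2.1 y.2.2 hd)
      · rintro (rfl | rfl)
        · exact y.2.1
        · exact y.2.2
    rw [hset, Nat.card_coe_set_eq, Set.ncard_pair hac]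
  have hEc : Fintype.card E₀ = Nat.card E₀ := Nat.card_eq_fintype_card.symm
  rw [h1, Finset.sum_congr rfl h2, Finset.sum_const, Finset.card_erase_of_mem (Finset.mem_univ _),
    Finset.card_univ, smul_eq_mul, hEc]
  have : 0 < Nat.card E₀ := Nat.card_pos
  omega

theorem zass_conj_char_ne [Fintype G] [Fintype Ω] [IsSimpleGroup G] (hZ : IsZassenhausGroup G Ω)
    {a b : Ω} (hab : a ≠ b)
    (hodd : Odd (Nat.card ↥(stabilizer G a ⊓ stabilizer G b : Subgroup G)))
    (H : Subgroup G) (hHa : H ≤ stabilizer G a) (hHcard : Nat.card H + 1 = Fintype.card Ω)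
    (hHfix : ∀ u ∈ H, u ≠ 1 → ∀ c : Ω, u • c = c → c = a)
    (μ : stabilizer G a →* ℂˣ) (hμH : ∀ u : stabilizer G a, (u : G) ∈ H → μ u = 1)
    (hμne : μ ≠ 1) (x : G) (hx : x • a ≠ a) :
    ∃ (y : stabilizer G a) (hy : x⁻¹ * (y : G) * x ∈ stabilizer G a),
      μ y ≠ μ ⟨x⁻¹ * (y : G) * x, hy⟩ := by
  classical
  by_contra hcon
  push Not at hcon
  set c := x • a with hc
  have hac : a ≠ c := Ne.symm hx
  set E₀ : Subgroup G := stabilizer G a ⊓ stabilizer G c with hE₀
  have hE₀N : E₀ ≤ stabilizer G a := inf_le_left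
  let lam : E₀ →* ℂˣ := μ.comp (Subgroup.inclusion hE₀N)
  have hcardG1 := card_eq_of_two_pretransitive hZ.2.1 hab
  have hcardG2 := card_eq_of_two_pretransitive hZ.2.1 hac
  have hn3 := zass_three_le_card hZ
  have hpos : 0 < Nat.card Ω * Nat.card Ω - Nat.card Ω := by
    rw [Nat.card_eq_fintype_card]
    have : Fintype.card Ω * 3 ≤ Fintype.card Ω * Fintype.card Ω := Nat.mul_le_mul_left _ hn3
    omega
  have hcardE : Nat.card E₀ = Nat.card (stabilizer G a ⊓ stabilizer G b : Subgroup G) :=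
    Nat.eq_of_mul_eq_mul_left hpos (hcardG2.symm.trans hcardG1)
  have hoddE : Odd (Nat.card E₀) := hcardE ▸ hodd
  have hidx : E₀.index = Nat.card Ω * Nat.card Ω - Nat.card Ω := by
    have h1 := Subgroup.card_mul_index E₀
    rw [hcardG2, mul_comm] at h1
    exact Nat.eq_of_mul_eq_mul_right Nat.card_pos h1
  have hfus : ∀ (z : E₀) (k : G) (hk : k⁻¹ * (z : G) * k ∈ E₀),
      lam ⟨k⁻¹ * (z : G) * k, hk⟩ = lam z := by
    intro z k hk
    by_cases hz1 : (z : G) = 1
    · have : (⟨k⁻¹ * (z : G) * k, hk⟩ : E₀) = z :=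
        Subtype.ext (by change k⁻¹ * (z : G) * k = (z : G); rw [hz1]; simp)
      rw [this]
    · have hza : (z : G) • a = a := z.2.1
      have hzc : (z : G) • c = c := z.2.2
      have hzka : (z : G) • (k • a) = k • a := by
        have : k⁻¹ * (z : G) * k ∈ stabilizer G a := hk.1
        rw [mem_stabilizer_iff, mul_smul, mul_smul, inv_smul_eq_iff] at this
        exact this
      have hzkc : (z : G) • (k • c) = k • c := by
        have : k⁻¹ * (z : G) * k ∈ stabilizer G c := hk.2
        rw [mem_stabilizer_iff, mul_smul, mul_smul, inv_smul_eq_iff] at this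
        exact this
      have h3 : ∀ d : Ω, (z : G) • d = d → d = a ∨ d = c := by
        intro d hd
        by_contra hcon'
        push Not at hcon'
        exact hz1 (hZ.2.2.1 (z : G) a c d hac (Ne.symm hcon'.2) (Ne.symm hcon'.1) hza hzc hd)
      have hkne : k • a ≠ k • c := fun h => hac (smul_left_cancel k h)
      rcases h3 _ hzka with hka | hka
      · have hkc : k • c = c := by
          rcases h3 _ hzkc with h | h
          · exact absurd (hka.trans h.symm) hkne
          · exact h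
        have hkE : k ∈ E₀ := ⟨hka, hkc⟩
        have : (⟨k⁻¹ * (z : G) * k, hk⟩ : E₀) = (⟨k, hkE⟩ : E₀)⁻¹ * z * ⟨k, hkE⟩ :=
          Subtype.ext rfl
        rw [this, map_mul, map_mul, map_inv, mul_comm, mul_inv_cancel_left]
      · have hn₀ : x⁻¹ * k ∈ stabilizer G a := by
          rw [mem_stabilizer_iff, mul_smul, hka, hc, inv_smul_smul]
        have hxz : x⁻¹ * (z : G) * x ∈ stabilizer G a := by
          rw [mem_stabilizer_iff, mul_smul, mul_smul, ← hc, hzc, hc, inv_smul_smul]
        have h4 := hcon ⟨(z : G), hza⟩ hxz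
        change μ ⟨k⁻¹ * (z : G) * k, hE₀N hk⟩ = μ ⟨(z : G), hza⟩
        have h5 : (⟨k⁻¹ * (z : G) * k, hE₀N hk⟩ : stabilizer G a) =
            (⟨x⁻¹ * k, hn₀⟩ : stabilizer G a)⁻¹ * ⟨x⁻¹ * (z : G) * x, hxz⟩ * ⟨x⁻¹ * k, hn₀⟩ := by
          apply Subtype.ext
          simp only [Subgroup.coe_mul, Subgroup.coe_inv]
          group
        rw [h5, map_mul, map_mul, map_inv, mul_comm, mul_inv_cancel_left, ← h4]
  have htr : ∀ z : E₀, lam z ^ E₀.index = 1 := by
    intro z
    rw [← transfer_eq_pow_of_fusion lam z (fun k g₀ hk => by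
      have h := hfus (z ^ k) g₀ (by simpa using hk)
      simpa using h)]
    exact zass_hom_trivial hZ _ _
  have hcop : Nat.Coprime E₀.index (Nat.card E₀) := by
    obtain ⟨k, hk⟩ := zass_card_modEq hZ hac
    change Fintype.card Ω + 2 * Nat.card E₀ = k * Nat.card E₀ + 2 at hk
    rw [hidx, Nat.card_eq_fintype_card (α := Ω)]
    have he : 0 < Nat.card E₀ := Nat.card_pos
    have hk2 : 2 < k := by
      by_contra hle
      push Not at hle
      have : k * Nat.card E₀ ≤ 2 * Nat.card E₀ := Nat.mul_le_mul_right _ hle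
      omega
    obtain ⟨j, rfl⟩ : ∃ j, k = j + 2 := ⟨k - 2, by omega⟩
    have hn : Fintype.card Ω = 2 + j * Nat.card E₀ := by
      have : (j + 2) * Nat.card E₀ = j * Nat.card E₀ + 2 * Nat.card E₀ := by ring
      omega
    have h1 : Nat.Coprime (Fintype.card Ω) (Nat.card E₀) := by
      rw [hn, Nat.coprime_add_mul_right_left]
      exact Nat.coprime_two_left.mpr hoddE
    have h2 : Nat.Coprime (Fintype.card Ω - 1) (Nat.card E₀) := by
      have : Fintype.card Ω - 1 = 1 + j * Nat.card E₀ := by omega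
      rw [this, Nat.coprime_add_mul_right_left]
      exact Nat.coprime_one_left _
    have h3 : Fintype.card Ω * Fintype.card Ω - Fintype.card Ω =
        Fintype.card Ω * (Fintype.card Ω - 1) := by
      rw [Nat.mul_sub, mul_one]
    rw [h3]
    exact Nat.Coprime.mul_left h1 h2
  have hlam1 : ∀ z : E₀, lam z = 1 := by
    intro z
    have h1 : orderOf (lam z) ∣ E₀.index := orderOf_dvd_of_pow_eq_one (htr z)
    have h2 : orderOf (lam z) ∣ Nat.card E₀ := by
      apply orderOf_dvd_of_pow_eq_one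
      rw [← map_pow, pow_card_eq_one', map_one]
    have h3 := Nat.dvd_gcd h1 h2
    rw [hcop] at h3
    exact orderOf_eq_one_iff.mp (Nat.dvd_one.mp h3)
  apply hμne
  ext g
  have hgc : (g : G) • c ≠ a := by
    intro h
    have hga : (g : G) • a = a := g.2
    have h' : (g : G) • c = (g : G) • a := h.trans hga.symm
    exact hac (smul_left_cancel _ h').symm
  obtain ⟨h, hhH, hh⟩ := zass_kernel_regular a H hHa hHcard hHfix c ((g : G) • c) (Ne.symm hac) hgc
  have hha : h • a = a := hHa hhH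
  have hga : (g : G) • a = a := g.2
  have hm1 : h⁻¹ * (g : G) ∈ stabilizer G a := by
    rw [mem_stabilizer_iff, mul_smul, hga, inv_smul_eq_iff]
    exact hha.symm
  have hm2 : h⁻¹ * (g : G) ∈ stabilizer G c := by
    rw [mem_stabilizer_iff, mul_smul, inv_smul_eq_iff]
    exact hh.symm
  have hmem : h⁻¹ * (g : G) ∈ E₀ := ⟨hm1, hm2⟩
  have h5 := hlam1 ⟨h⁻¹ * (g : G), hmem⟩
  change μ ⟨h⁻¹ * (g : G), hE₀N hmem⟩ = 1 at h5
  have h6 : g = (⟨h, hHa hhH⟩ : stabilizer G a) * ⟨h⁻¹ * (g : G), hE₀N hmem⟩ :=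
    Subtype.ext (by simp)
  rw [h6, map_mul, hμH _ hhH, h5, one_mul]
  rfl

end Zass

section Ind

variable {G Ω : Type*} [Group G] [Fintype G] [MulAction G Ω] [Fintype Ω]

theorem zass_indFun_kernel (a : Ω) (H : Subgroup G) (hHa : H ≤ stabilizer G a)
    (hHfix : ∀ u ∈ H, u ≠ 1 → ∀ c : Ω, u • c = c → c = a)
    (μ : stabilizer G a → ℂ) (hμ : IsCharacter (stabilizer G a) μ)
    (hμH : ∀ u : stabilizer G a, (u : G) ∈ H → μ u = 1) (u : G) (hu : u ∈ H) (hu1 : u ≠ 1) :
    indFun (stabilizer G a) μ u = 1 := by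
  classical
  have hcl := isClassFunction_of_isCharacter hμ
  rw [indFun_apply]
  have key : ∀ x : G, extendByZero (stabilizer G a) μ (x⁻¹ * u * x) =
      if x ∈ stabilizer G a then 1 else 0 := by
    intro x
    by_cases hx : x ∈ stabilizer G a
    · rw [if_pos hx]
      have hmem : x⁻¹ * u * x ∈ stabilizer G a :=
        Subgroup.mul_mem _ (Subgroup.mul_mem _ (Subgroup.inv_mem _ hx) (hHa hu)) hx
      rw [extendByZero_of_mem _ _ hmem]
      have h1 := hcl ⟨u, hHa hu⟩ (⟨x, hx⟩⁻¹)
      have h2 : (⟨x⁻¹ * u * x, hmem⟩ : stabilizer G a) =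
          ⟨x, hx⟩⁻¹ * ⟨u, hHa hu⟩ * (⟨x, hx⟩⁻¹)⁻¹ := Subtype.ext (by simp)
      rw [h2, h1]
      exact hμH _ hu
    · rw [if_neg hx]
      apply extendByZero_of_not_mem
      intro hmem
      apply hx
      rw [mem_stabilizer_iff] at hmem ⊢
      rw [mul_smul, mul_smul, inv_smul_eq_iff] at hmem
      exact hHfix u hu hu1 _ hmem
  simp only [key]
  rw [sum_ite_mem_subgroup]
  have : (Nat.card (stabilizer G a) : ℂ) ≠ 0 := by exact_mod_cast Nat.card_pos.ne'
  field_simp

theorem zass_indFun_norm [IsSimpleGroup G] (hZ : IsZassenhausGroup G Ω) {a b : Ω} (hab : a ≠ b)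
    (hodd : Odd (Nat.card ↥(stabilizer G a ⊓ stabilizer G b : Subgroup G)))
    (H : Subgroup G) (hHa : H ≤ stabilizer G a) (hHcard : Nat.card H + 1 = Fintype.card Ω)
    (hHfix : ∀ u ∈ H, u ≠ 1 → ∀ c : Ω, u • c = c → c = a)
    (μ : stabilizer G a → ℂ) (hμ : IsCharacter (stabilizer G a) μ) (hμ1 : μ 1 = 1)
    (hμH : ∀ u : stabilizer G a, (u : G) ∈ H → μ u = 1) (hμne : μ ≠ fun _ => 1) :
    classInner (indFun (stabilizer G a) μ) (indFun (stabilizer G a) μ) = 1 := by
  classical
  haveI : Fintype (stabilizer G a) := Fintype.ofFinite _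
  have hcl := isClassFunction_of_isCharacter hμ
  have hmul := linChar_mul μ hμ hμ1
  let μ' : (stabilizer G a) →* ℂˣ := (linCharHom μ hμ hμ1).toHomUnits
  have hμ' : ∀ y : (stabilizer G a), ((μ' y : ℂˣ) : ℂ) = μ y := fun y => rfl
  have hnorm : ∀ y : (stabilizer G a), μ y * conj (μ y) = 1 := by
    intro y
    have h1 : μ y ^ Nat.card (stabilizer G a) = 1 := by
      have := map_pow (linCharHom μ hμ hμ1) y (Nat.card (stabilizer G a))
      rw [pow_card_eq_one', map_one] at this
      simpa using this.symm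
    have h2 : ‖μ y‖ = 1 := Complex.norm_eq_one_of_pow_eq_one h1 Nat.card_pos.ne'
    rw [Complex.mul_conj, Complex.normSq_eq_norm_sq, h2]
    simp
  have hμ'H : ∀ u : (stabilizer G a), (u : G) ∈ H → μ' u = 1 := fun u hu =>
    Units.ext (by rw [hμ', hμH u hu]; rfl)
  have hμ'ne : μ' ≠ 1 := by
    intro h
    apply hμne
    funext y
    rw [← hμ', h]
    rfl
  have hS : ∀ x : G, ∑ y : (stabilizer G a), μ y * conj (extendByZero (stabilizer G a) μ (x⁻¹ * (y : G) * x)) =
      if x ∈ (stabilizer G a) then (Nat.card (stabilizer G a) : ℂ) else 0 := by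
    intro x
    by_cases hx : x ∈ (stabilizer G a)
    · rw [if_pos hx]
      have h1 : ∀ y : (stabilizer G a), μ y * conj (extendByZero (stabilizer G a) μ (x⁻¹ * (y : G) * x)) = 1 := by
        intro y
        have hmem : x⁻¹ * (y : G) * x ∈ (stabilizer G a) := (stabilizer G a).mul_mem ((stabilizer G a).mul_mem ((stabilizer G a).inv_mem hx) y.2) hx
        rw [extendByZero_of_mem _ _ hmem]
        have h2 : (⟨x⁻¹ * (y : G) * x, hmem⟩ : (stabilizer G a)) = ⟨x, hx⟩⁻¹ * y * (⟨x, hx⟩⁻¹)⁻¹ :=
          Subtype.ext (by simp)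
        rw [h2, hcl y (⟨x, hx⟩⁻¹)]
        exact hnorm y
      simp only [h1]
      simp [Nat.card_eq_fintype_card]
    · rw [if_neg hx]
      have hxa : x • a ≠ a := hx
      obtain ⟨y₀, hy₀, hne⟩ :=
        zass_conj_char_ne hZ hab hodd H hHa hHcard hHfix μ' hμ'H hμ'ne x hxa
      let D : Subgroup (stabilizer G a) := (stabilizer G (x • a)).subgroupOf (stabilizer G a)
      have hD : ∀ y : (stabilizer G a), y ∈ D ↔ x⁻¹ * (y : G) * x ∈ (stabilizer G a) := by
        intro y
        rw [Subgroup.mem_subgroupOf, mem_stabilizer_iff, mem_stabilizer_iff, mul_smul,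
          mul_smul, inv_smul_eq_iff]
      let ν : D →* ℂ :=
        { toFun := fun y => μ y.1 * conj (μ ⟨x⁻¹ * (y.1 : G) * x, (hD y.1).mp y.2⟩)
          map_one' := by
            have : (⟨x⁻¹ * ((1 : D).1 : G) * x, (hD (1 : D).1).mp (1 : D).2⟩ : (stabilizer G a)) = 1 :=
              Subtype.ext (by simp)
            rw [this]
            simp [hμ1]
          map_mul' := by
            intro y y'
            have : (⟨x⁻¹ * ((y * y').1 : G) * x, (hD (y * y').1).mp (y * y').2⟩ : (stabilizer G a)) =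
                ⟨x⁻¹ * (y.1 : G) * x, (hD y.1).mp y.2⟩ *
                  ⟨x⁻¹ * (y'.1 : G) * x, (hD y'.1).mp y'.2⟩ :=
              Subtype.ext (by simp [mul_assoc])
            rw [this, hmul, Subgroup.coe_mul, hmul, map_mul]
            ring }
      have hν : ν ≠ 1 := by
        intro h
        have h1 := DFunLike.congr_fun h ⟨y₀, (hD y₀).mpr hy₀⟩
        change μ y₀ * conj (μ ⟨x⁻¹ * (y₀ : G) * x, _⟩) = 1 at h1
        apply hne
        apply Units.ext
        rw [hμ', hμ']
        have h2 := hnorm ⟨x⁻¹ * (y₀ : G) * x, hy₀⟩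
        have h3 : conj (μ ⟨x⁻¹ * (y₀ : G) * x, hy₀⟩) ≠ 0 := by
          intro h0
          rw [h0, mul_zero] at h2
          exact zero_ne_one h2
        exact mul_right_cancel₀ h3 (h1.trans h2.symm)
      have h0 := sum_hom_units_eq_zero ν hν
      rw [← h0]
      rw [← Finset.sum_filter_of_ne (p := fun y => y ∈ D)]
      · rw [Finset.sum_subtype (Finset.univ.filter fun y => y ∈ D) (p := fun y => y ∈ D)
          (by simp)]
        refine Finset.sum_congr rfl fun y _ => ?_
        change _ = μ y.1 * conj (μ ⟨x⁻¹ * (y.1 : G) * x, _⟩)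
        rw [extendByZero_of_mem _ _ ((hD y.1).mp y.2)]
      · intro y _ hne0
        by_contra hyD
        apply hne0
        rw [extendByZero_of_not_mem _ _ (fun h => hyD ((hD y).mpr h))]
        simp
  have hchar := isCharacter_indFun (stabilizer G a) μ hμ
  rw [frobenius_reciprocity (stabilizer G a) μ _ (isClassFunction_of_isCharacter hchar)]
  unfold classInner
  have hNne : (Nat.card (stabilizer G a) : ℂ) ≠ 0 := by exact_mod_cast Nat.card_pos.ne'
  have h1 : ∑ y : (stabilizer G a), μ y * conj (indFun (stabilizer G a) μ (y : G)) = (Nat.card (stabilizer G a) : ℂ) := by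
    simp only [indFun_apply, map_mul, map_sum, Finset.mul_sum]
    rw [Finset.sum_comm]
    have h2 : ∀ x : G, ∑ y : (stabilizer G a), μ y * (conj ((Nat.card (stabilizer G a) : ℂ)⁻¹) *
        conj (extendByZero (stabilizer G a) μ (x⁻¹ * (y : G) * x))) =
        (Nat.card (stabilizer G a) : ℂ)⁻¹ * (if x ∈ (stabilizer G a) then (Nat.card (stabilizer G a) : ℂ) else 0) := by
      intro x
      rw [← hS x, Finset.mul_sum]
      refine Finset.sum_congr rfl fun y _ => ?_
      rw [map_inv₀, Complex.conj_natCast]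
      ring
    simp only [h2]
    rw [← Finset.mul_sum, sum_ite_mem_subgroup]
    field_simp
  rw [h1]
  field_simp

end Ind

end Cfsg.Agent.H19
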