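import Mathlib
import Cfsg.Agent.H19.ZassInd
import Cfsg.Agent.H19.Invol
import Cfsg.Agent.S0042

/-!
# helper19: Zassenhaus groups: the point stabilizer as a Frobenius group, involutions

* `zass_card_two_stab`, `zass_card_stab` : orders of stabilizers
* `zass_invol_fix_unique`, `zass_invol_exists_fix` : fixed points of involutions (odd `e`)
* `zass_invol_isConj_of_odd_card` : for odd degree, all involutions are conjugate
* `zass_isFrobeniusComplement` : `G_{ab}` is a Frobenius complement in `G_a`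
* `zass_kernel_eq`, `zass_kernel_nilpotent`, `zass_exists_kernel`
* `zass_kernel_invol_commute`, `zass_kernel_invol_central`
-/

set_option autoImplicit false
set_option linter.style.haveILetI false
set_option linter.unusedSectionVars false

namespace Cfsg.Agent.H19

open Cfsg MulAction
open scoped Pointwise

variable {G Ω : Type*} [Group G] [MulAction G Ω]

theorem zass_two_trans (hZ : IsZassenhausGroup G Ω) {a b c d : Ω} (hab : a ≠ b) (hcd : c ≠ d) :
    ∃ g : G, g • a = c ∧ g • b = d :=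
  (MulAction.is_two_pretransitive_iff (G := G) (α := Ω)).mp hZ.2.1 hab hcd

theorem zass_card_two_stab [Finite G] [Fintype Ω] (hZ : IsZassenhausGroup G Ω) {a b c d : Ω}
    (hab : a ≠ b) (hcd : c ≠ d) :
    Nat.card (stabilizer G c ⊓ stabilizer G d : Subgroup G) =
      Nat.card (stabilizer G a ⊓ stabilizer G b : Subgroup G) := by
  have h1 := card_eq_of_two_pretransitive hZ.2.1 hab
  have h2 := card_eq_of_two_pretransitive hZ.2.1 hcd
  have hn3 := zass_three_le_card hZ
  have hpos : 0 < Nat.card Ω * Nat.card Ω - Nat.card Ω := by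
    rw [Nat.card_eq_fintype_card]
    have : Fintype.card Ω * 3 ≤ Fintype.card Ω * Fintype.card Ω := Nat.mul_le_mul_left _ hn3
    omega
  rw [h1] at h2
  exact (Nat.eq_of_mul_eq_mul_left hpos h2).symm

theorem zass_card_stab [Finite G] [Fintype Ω] (hZ : IsZassenhausGroup G Ω) {a b : Ω}
    (hab : a ≠ b) :
    Nat.card (stabilizer G a) =
      (Fintype.card Ω - 1) * Nat.card (stabilizer G a ⊓ stabilizer G b : Subgroup G) := by
  have h1 := card_eq_of_two_pretransitive hZ.2.1 hab
  haveI := hZ.2.1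
  haveI : IsPretransitive G Ω := MulAction.isPretransitive_of_is_two_pretransitive
  have h2 := Subgroup.card_mul_index (stabilizer G a)
  rw [MulAction.index_stabilizer_of_transitive G a, h1, Nat.card_eq_fintype_card (α := Ω)] at h2
  have hn3 := zass_three_le_card hZ
  have h3 : (Fintype.card Ω * Fintype.card Ω - Fintype.card Ω) =
      (Fintype.card Ω - 1) * Fintype.card Ω := by
    rw [Nat.sub_mul, one_mul]
  rw [h3, mul_assoc, mul_comm (Fintype.card Ω) (Nat.card _), ← mul_assoc] at h2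
  exact Nat.eq_of_mul_eq_mul_right (by omega) h2

theorem zass_invol_fix_unique [Finite G] [Fintype Ω] (hZ : IsZassenhausGroup G Ω) {a b : Ω}
    (hab : a ≠ b) (hodd : Odd (Nat.card (stabilizer G a ⊓ stabilizer G b : Subgroup G)))
    {x : G} (hx : orderOf x = 2) {c d : Ω} (hc : x • c = c) (hd : x • d = d) : c = d := by
  by_contra hcd
  have h1 := zass_card_two_stab hZ hab hcd
  have hmem : x ∈ (stabilizer G c ⊓ stabilizer G d : Subgroup G) := ⟨hc, hd⟩
  have h2 : orderOf x ∣ Nat.card (stabilizer G c ⊓ stabilizer G d : Subgroup G) := by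
    have := orderOf_dvd_natCard (⟨x, hmem⟩ : (stabilizer G c ⊓ stabilizer G d : Subgroup G))
    rwa [← Subgroup.orderOf_coe] at this
  rw [hx, h1] at h2
  exact (Nat.not_even_iff_odd.mpr hodd) (even_iff_two_dvd.mpr h2)

theorem zass_invol_exists_fix [Fintype Ω] (hn : Odd (Fintype.card Ω)) {x : G}
    (hx : orderOf x = 2) : ∃ c : Ω, x • c = c := by
  haveI : Fact (Nat.Prime 2) := ⟨Nat.prime_two⟩
  have h2 : ¬ 2 ∣ Fintype.card Ω := fun h =>
    (Nat.not_even_iff_odd.mpr hn) (even_iff_two_dvd.mpr h)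
  have hσ : (MulAction.toPermHom G Ω x) ^ 2 ^ 1 = 1 := by
    rw [pow_one, ← map_pow, ← hx, pow_orderOf_eq_one, map_one]
  obtain ⟨c, hc⟩ := Equiv.Perm.exists_fixed_point_of_prime (n := 1) h2 hσ
  exact ⟨c, hc⟩

theorem invol_mul_self {x : G} (hx : orderOf x = 2) : x * x = 1 := by
  rw [← pow_two, ← hx, pow_orderOf_eq_one]

theorem zass_invol_isConj_of_ne [Finite G] [Fintype Ω] (hZ : IsZassenhausGroup G Ω) {a b : Ω}
    (hab : a ≠ b) (hodd : Odd (Nat.card (stabilizer G a ⊓ stabilizer G b : Subgroup G)))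
    (hn : Odd (Fintype.card Ω)) {x y : G} (hx : orderOf x = 2) (hy : orderOf y = 2) {c d : Ω}
    (hc : x • c = c) (hd : y • d = d) (hcd : c ≠ d) : ∃ g : G, g * x * g⁻¹ = y := by
  have hx2 := invol_mul_self hx
  have hy2 := invol_mul_self hy
  rcases Nat.even_or_odd (orderOf (x * y)) with ⟨k, hk⟩ | ⟨k, hk⟩
  · exfalso
    have hk0 : 0 < k := by have := orderOf_pos (x * y); omega
    obtain ⟨ht, htx, hty⟩ := invol_central_of_even hx2 hy2 (by rw [hk, two_mul]) hk0
    obtain ⟨p, hp⟩ := zass_invol_exists_fix hn ht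
    have h1 : (x * y) ^ k • (x • p) = x • p := by rw [← mul_smul, htx, mul_smul, hp]
    have h2 : x • p = p := zass_invol_fix_unique hZ hab hodd ht h1 hp
    have h3 : p = c := zass_invol_fix_unique hZ hab hodd hx h2 hc
    have h4 : (x * y) ^ k • (y • p) = y • p := by rw [← mul_smul, hty, mul_smul, hp]
    have h5 : y • p = p := zass_invol_fix_unique hZ hab hodd ht h4 hp
    have h6 : p = d := zass_invol_fix_unique hZ hab hodd hy h5 hd
    exact hcd (h3.symm.trans h6)
  · exact ⟨(x * y) ^ k, invol_conj_of_odd hx2 hy2 (by rw [← hk, pow_orderOf_eq_one])⟩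

/-- For odd degree (and odd two-point stabilizers) all involutions are conjugate. -/
theorem zass_invol_isConj_of_odd_card [Finite G] [Fintype Ω] (hZ : IsZassenhausGroup G Ω)
    {a b : Ω} (hab : a ≠ b)
    (hodd : Odd (Nat.card (stabilizer G a ⊓ stabilizer G b : Subgroup G)))
    (hn : Odd (Fintype.card Ω)) {x y : G} (hx : orderOf x = 2) (hy : orderOf y = 2) :
    ∃ g : G, g * x * g⁻¹ = y := by
  obtain ⟨c, hc⟩ := zass_invol_exists_fix hn hx
  obtain ⟨d, hd⟩ := zass_invol_exists_fix hn hy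
  by_cases hcd : c = d
  · subst hcd
    have hn3 := zass_three_le_card hZ
    obtain ⟨c', hc'⟩ := Fintype.exists_ne_of_one_lt_card (by omega : 1 < Fintype.card Ω) c
    obtain ⟨g₀, hg₀, -⟩ := zass_two_trans hZ (Ne.symm hc') hc'
    have hx' : orderOf (g₀ * x * g₀⁻¹) = 2 := by rw [orderOf_conj_eq]; exact hx
    have hc'' : (g₀ * x * g₀⁻¹) • c' = c' := by
      rw [← hg₀, mul_smul, mul_smul, inv_smul_smul, hc]
    obtain ⟨g, hg⟩ := zass_invol_isConj_of_ne hZ hab hodd hn hx' hy hc'' hd hc'
    exact ⟨g * g₀, by rw [← hg]; group⟩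
  · exact zass_invol_isConj_of_ne hZ hab hodd hn hx hy hc hd hcd

theorem mem_conj_smul_stab_iff {a b : Ω} (w g : stabilizer G a) :
    w ∈ MulAut.conj g • ((stabilizer G b).subgroupOf (stabilizer G a)) ↔
      (w : G) • ((g : G) • b) = (g : G) • b := by
  rw [Subgroup.mem_pointwise_smul_iff_inv_smul_mem, Subgroup.mem_subgroupOf, mem_stabilizer_iff]
  have h1 : (((MulAut.conj g)⁻¹ • w : stabilizer G a) : G) = (g : G)⁻¹ * (w : G) * (g : G) := by
    rw [MulAut.smul_def, MulAut.conj_inv_apply]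
    simp
  rw [h1, mul_smul, mul_smul]
  constructor
  · intro h
    have := congrArg (fun z => (g : G) • z) h
    simpa only [smul_inv_smul] using this
  · intro h
    rw [h, inv_smul_smul]

/-- The two-point stabilizer is a Frobenius complement in the point stabilizer. -/
theorem zass_isFrobeniusComplement [Finite G] [Fintype Ω] (hZ : IsZassenhausGroup G Ω) {a b : Ω}
    (hab : a ≠ b) : IsFrobeniusComplement ((stabilizer G b).subgroupOf (stabilizer G a)) := by
  classical
  have hZ' := hZ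
  obtain ⟨hfaith, h2, h3, ⟨g0, hg0, a0, b0, hab0, hga0, hgb0⟩, -⟩ := hZ
  refine ⟨?_, ?_, ?_⟩
  · obtain ⟨x, hxa, hxb⟩ := zass_two_trans hZ' hab0 hab
    have ha : (x * g0 * x⁻¹) • a = a := by
      rw [← hxa, mul_smul, mul_smul, inv_smul_smul, hga0]
    have hb : (x * g0 * x⁻¹) • b = b := by
      rw [← hxb, mul_smul, mul_smul, inv_smul_smul, hgb0]
    intro hbot
    have hmem : (⟨x * g0 * x⁻¹, ha⟩ : stabilizer G a) ∈
        (stabilizer G b).subgroupOf (stabilizer G a) := by
      rw [Subgroup.mem_subgroupOf]; exact hb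
    rw [hbot, Subgroup.mem_bot] at hmem
    have h1 : x * g0 * x⁻¹ = 1 := congrArg Subtype.val hmem
    apply hg0
    have h4 : g0 = x⁻¹ * (x * g0 * x⁻¹) * x := by group
    rw [h4, h1]; group
  · have hn3 := zass_three_le_card hZ'
    obtain ⟨c, hca, hcb⟩ : ∃ c : Ω, c ≠ a ∧ c ≠ b := by
      by_contra hcon
      push Not at hcon
      have h4 : (Finset.univ : Finset Ω) ⊆ {a, b} := by
        intro c _
        by_cases hca : c = a
        · simp [hca]
        · simp [hcon c hca]
      have h5 := Finset.card_le_card h4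
      have h6 : ({a, b} : Finset Ω).card ≤ 2 := Finset.card_le_two
      rw [Finset.card_univ] at h5
      omega
    obtain ⟨g, hga, hgb⟩ := zass_two_trans hZ' hab (Ne.symm hca)
    intro htop
    have hmem : (⟨g, hga⟩ : stabilizer G a) ∈ (stabilizer G b).subgroupOf (stabilizer G a) :=
      htop ▸ Subgroup.mem_top _
    rw [Subgroup.mem_subgroupOf] at hmem
    exact hcb (hgb.symm.trans hmem)
  · intro g hg
    rw [Subgroup.mem_subgroupOf] at hg
    rw [eq_bot_iff]
    rintro w ⟨hw1, hw2⟩
    rw [Subgroup.mem_bot]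
    have hwb : (w : G) • b = b := Subgroup.mem_subgroupOf.mp hw1
    have hwgb : (w : G) • ((g : G) • b) = (g : G) • b := (mem_conj_smul_stab_iff w g).mp hw2
    have hgb : (g : G) • b ≠ b := hg
    have hga : (g : G) • b ≠ a := by
      intro h
      have h1 : (g : G) • a = a := g.2
      exact hab (smul_left_cancel _ (h.trans h1.symm)).symm
    apply Subtype.ext
    exact h3 (w : G) a b ((g : G) • b) hab (Ne.symm hgb) (Ne.symm hga) w.2 hwb hwgb

theorem zass_kernel_eq [Finite G] [Fintype Ω] (hZ : IsZassenhausGroup G Ω) {a b : Ω}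
    (hab : a ≠ b) (H : Subgroup G) (hHa : H ≤ stabilizer G a)
    (hHcard : Nat.card H + 1 = Fintype.card Ω)
    (hHfix : ∀ u ∈ H, u ≠ 1 → ∀ c : Ω, u • c = c → c = a) :
    ((H.subgroupOf (stabilizer G a) : Subgroup (stabilizer G a)) : Set (stabilizer G a)) =
      frobeniusKernel ((stabilizer G b).subgroupOf (stabilizer G a)) := by
  ext w
  simp only [SetLike.mem_coe, Subgroup.mem_subgroupOf, frobeniusKernel, Set.mem_ofPred_eq]
  constructor
  · intro hw
    by_cases hw1 : w = 1
    · exact Or.inl hw1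
    right
    intro g hg
    rw [mem_conj_smul_stab_iff] at hg
    have h1 := hHfix (w : G) hw (fun h => hw1 (Subtype.ext h)) _ hg
    have h2 : (g : G) • a = a := g.2
    exact hab (smul_left_cancel _ (h1.trans h2.symm)).symm
  · rintro (rfl | hw)
    · exact H.one_mem
    · apply zass_mem_kernel hZ a H hHa hHcard hHfix (w : G) w.2
      intro c hc
      by_contra hca
      obtain ⟨g, hga, hgb⟩ := zass_two_trans hZ hab (Ne.symm hca)
      apply hw ⟨g, hga⟩
      rw [mem_conj_smul_stab_iff]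
      show (w : G) • (g • b) = g • b
      rw [hgb, hc]

theorem zass_kernel_nilpotent [Finite G] [Fintype Ω] (hZ : IsZassenhausGroup G Ω) {a b : Ω}
    (hab : a ≠ b) (H : Subgroup G) (hHa : H ≤ stabilizer G a)
    (hHcard : Nat.card H + 1 = Fintype.card Ω)
    (hHfix : ∀ u ∈ H, u ≠ 1 → ∀ c : Ω, u • c = c → c = a) : Group.IsNilpotent H := by
  obtain ⟨N, hN, -, hnil⟩ := Cfsg.Agent.S0042.result _ (zass_isFrobeniusComplement hZ hab)
  have hNH : N = H.subgroupOf (stabilizer G a) :=
    SetLike.coe_injective (hN.trans (zass_kernel_eq hZ hab H hHa hHcard hHfix).symm)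
  subst hNH
  exact Group.nilpotent_of_mulEquiv (Subgroup.subgroupOfEquivOfLe hHa)

theorem zass_card_subgroupOf_stab (a b : Ω) :
    Nat.card ((stabilizer G b).subgroupOf (stabilizer G a)) =
      Nat.card (stabilizer G a ⊓ stabilizer G b : Subgroup G) := by
  rw [← Subgroup.inf_subgroupOf_left]
  exact Nat.card_congr (Subgroup.subgroupOfEquivOfLe inf_le_left).toEquiv

/-- Existence of the Frobenius kernel of the point stabilizer (Frobenius' theorem). -/
theorem zass_exists_kernel [Finite G] [Fintype Ω] (hZ : IsZassenhausGroup G Ω) {a b : Ω}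
    (hab : a ≠ b) :
    ∃ H : Subgroup G, H ≤ stabilizer G a ∧ Nat.card H + 1 = Fintype.card Ω ∧
      ∀ u ∈ H, u ≠ 1 → ∀ c : Ω, u • c = c → c = a := by
  obtain ⟨N, hN, -, hcompl⟩ := Cfsg.Agent.S0035.result _ (zass_isFrobeniusComplement hZ hab)
  refine ⟨N.map (stabilizer G a).subtype, ?_, ?_, ?_⟩
  · rintro _ ⟨w, -, rfl⟩
    exact w.2
  · have h1 := hcompl.card_mul_card
    rw [zass_card_subgroupOf_stab, zass_card_stab hZ hab] at h1
    have h4 : Nat.card (N.map (stabilizer G a).subtype) = Nat.card N :=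
      Subgroup.card_map_of_injective (Subgroup.subtype_injective _)
    have hn3 := zass_three_le_card hZ
    have hpos : 0 < Nat.card (stabilizer G a ⊓ stabilizer G b : Subgroup G) := Nat.card_pos
    have h5 := Nat.eq_of_mul_eq_mul_right hpos h1
    rw [h4, h5]
    omega
  · rintro _ ⟨w, hw, rfl⟩ hw1 c hc
    by_contra hca
    have hwk : w ∈ frobeniusKernel ((stabilizer G b).subgroupOf (stabilizer G a)) := by
      rw [← hN]; exact hw
    rcases hwk with rfl | hwk
    · exact hw1 rfl
    · obtain ⟨g, hga, hgb⟩ := zass_two_trans hZ hab (Ne.symm hca)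
      apply hwk ⟨g, hga⟩
      rw [mem_conj_smul_stab_iff]
      show (w : G) • (g • b) = g • b
      rw [hgb]
      exact hc

section Kernel

variable [Finite G] [Fintype Ω] (hZ : IsZassenhausGroup G Ω) {a b : Ω} (hab : a ≠ b)
  (hodd : Odd (Nat.card (stabilizer G a ⊓ stabilizer G b : Subgroup G)))
  (H : Subgroup G) (hHa : H ≤ stabilizer G a) (hHcard : Nat.card H + 1 = Fintype.card Ω)
  (hHfix : ∀ u ∈ H, u ≠ 1 → ∀ c : Ω, u • c = c → c = a)

include hZ hab hodd hHa hHcard hHfix

theorem zass_odd_card_of_invol {x : G} (hx : orderOf x = 2) (hxH : x ∈ H) :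
    Odd (Fintype.card Ω) := by
  have h1 : orderOf x ∣ Nat.card H := by
    have := orderOf_dvd_natCard (⟨x, hxH⟩ : H)
    rwa [← Subgroup.orderOf_coe] at this
  rw [hx] at h1
  rw [← hHcard]
  exact Even.add_one (even_iff_two_dvd.mpr h1)

/-- An involution of the kernel commutes with every 2-element of the kernel. -/
theorem zass_kernel_invol_commute {x w : G} (hx : orderOf x = 2) (hxH : x ∈ H) (hwH : w ∈ H)
    {k : ℕ} (hw : orderOf w = 2 ^ k) : x * w = w * x := by
  classical
  haveI : Fact (Nat.Prime 2) := ⟨Nat.prime_two⟩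
  have hn := zass_odd_card_of_invol hZ hab hodd H hHa hHcard hHfix hx hxH
  haveI : Group.IsNilpotent H := zass_kernel_nilpotent hZ hab H hHa hHcard hHfix
  have h2 : 2 ∣ Nat.card H := by
    have := orderOf_dvd_natCard (⟨x, hxH⟩ : H)
    rwa [← Subgroup.orderOf_coe, hx] at this
  obtain ⟨S⟩ : Nonempty (Sylow 2 H) := inferInstance
  obtain ⟨z, hz2, hzS, hzcomm⟩ := exists_invol_commute_of_nilpotent h2 S
  have hz2' : orderOf (z : G) = 2 := by rw [Subgroup.orderOf_coe]; exact hz2
  obtain ⟨g, hg⟩ := zass_invol_isConj_of_odd_card hZ hab hodd hn hz2' hx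
  have hza : (z : G) • a = a := hHa z.2
  have hxa : x • a = a := hHa hxH
  have hga : g • a = a := by
    apply zass_invol_fix_unique hZ hab hodd hx _ hxa
    rw [← hg, mul_smul, mul_smul, inv_smul_smul, hza]
  have hginv : g⁻¹ • a = a := by
    conv_lhs => rw [← hga]
    rw [inv_smul_smul]
  have hw'H : g⁻¹ * w * g ∈ H := by
    have := zass_conj_mem_kernel hZ a H hHa hHcard hHfix g⁻¹ hginv w hwH
    rwa [inv_inv] at this
  have hw'ord : orderOf (⟨g⁻¹ * w * g, hw'H⟩ : H) = 2 ^ k := by
    rw [← Subgroup.orderOf_coe]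
    have := orderOf_conj_eq g⁻¹ w
    rw [inv_inv] at this
    rw [this, hw]
  have hw'S := mem_sylow_of_nilpotent S hw'ord
  have h3 := congrArg (Subtype.val : H → G) (hzcomm _ hw'S)
  simp only [Subgroup.coe_mul] at h3
  rw [← hg]
  calc g * (z : G) * g⁻¹ * w = g * ((z : G) * (g⁻¹ * w * g)) * g⁻¹ := by group
    _ = g * ((g⁻¹ * w * g) * (z : G)) * g⁻¹ := by rw [h3]
    _ = w * (g * (z : G) * g⁻¹) := by group

/-- An involution of the kernel is central in the kernel. -/
theorem zass_kernel_invol_central {x : G} (hx : orderOf x = 2) (hxH : x ∈ H) (y : G)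
    (hyH : y ∈ H) : x * y = y * x := by
  classical
  haveI : Fact (Nat.Prime 2) := ⟨Nat.prime_two⟩
  haveI : Group.IsNilpotent H := zass_kernel_nilpotent hZ hab H hHa hHcard hHfix
  obtain ⟨S⟩ : Nonempty (Sylow 2 H) := inferInstance
  have hxS : (⟨x, hxH⟩ : H) ∈ S := by
    apply mem_sylow_of_nilpotent S (k := 1)
    rw [← Subgroup.orderOf_coe, pow_one]; exact hx
  have hcomm : ∀ w ∈ S, (⟨x, hxH⟩ : H) * w = w * ⟨x, hxH⟩ := by
    intro w hw
    obtain ⟨k, hk⟩ := (IsPGroup.iff_orderOf.mp S.isPGroup') ⟨w, hw⟩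
    have hk' : orderOf (w : G) = 2 ^ k := by
      rw [Subgroup.orderOf_coe, ← hk, ← Subgroup.orderOf_coe (⟨w, hw⟩ : (S : Subgroup H))]
    apply Subtype.ext
    simp only [Subgroup.coe_mul]
    exact zass_kernel_invol_commute hZ hab hodd H hHa hHcard hHfix hx hxH w.2 hk'
  have := central_of_nilpotent_of_commute_sylow S ⟨x, hxH⟩ hxS hcomm ⟨y, hyH⟩
  have h3 := congrArg (Subtype.val : H → G) this
  simpa only [Subgroup.coe_mul] using h3

end Kernel

end Cfsg.Agent.H19
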