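import Mathlib
import Cfsg.Agent.S0700
import Cfsg.Agent.H19.ZassFrob
import Cfsg.Agent.H19.Zassenhaus

/-!
# Identification of Zassenhaus groups: auxiliary group theory (helper19)

* `swap_invol_of_count` : if there are at least `|G_ab|` involutions mapping `a` to `b`, every
  element swapping `a` and `b` is an involution;
* `normal_transitive_of_two_trans` : non-trivial normal subgroups of faithful doubly transitive
  groups are transitive;
* `simple_no_unique_fix` : a finite simple group cannot act transitively with abelian point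
  stabilizers such that non-identity elements fix at most one point (Burnside transfer);
* `exists_simple_normal_of_two_trans` : a faithful doubly transitive group without regular normal
  subgroup has a simple normal subgroup;
* `kernel_of_regular`, `regular_of_kernel`, `conj_mem_of_subgroupOf_normal`,
  `subgroupOf_normal_of_conj_mem` : conversions between forms of the kernel hypotheses.
-/

set_option autoImplicit false
set_option linter.style.haveILetI false
set_option linter.unusedSectionVars false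

namespace Cfsg.Agent.H19

open MulAction

universe u v

variable {G : Type u} {Ω : Type v} [Group G] [MulAction G Ω]

theorem swap_invol_of_count [Fintype G] [DecidableEq G] [DecidableEq Ω] {a b : Ω}
    (hcount : Nat.card (stabilizer G a ⊓ stabilizer G b : Subgroup G) ≤
      (Finset.univ.filter (fun t : G => (t ≠ 1 ∧ t * t = 1) ∧ t • a = b)).card)
    (s : G) (hsa : s • a = b) (hsb : s • b = a) : s * s = 1 := by
  classical
  obtain ⟨W, hW⟩ : ∃ W : Finset G,
      W = Finset.univ.filter (fun t : G => (t ≠ 1 ∧ t * t = 1) ∧ t • a = b) := ⟨_, rfl⟩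
  rw [← hW] at hcount
  have hWmem : ∀ t, t ∈ W ↔ (t ≠ 1 ∧ t * t = 1) ∧ t • a = b := by
    intro t
    rw [hW]
    simp
  obtain ⟨Hf, hHf⟩ : ∃ Hf : Finset G, Hf = Finset.univ.filter
      (fun g : G => g ∈ (stabilizer G a ⊓ stabilizer G b : Subgroup G)) := ⟨_, rfl⟩
  have hHfmem : ∀ g, g ∈ Hf ↔ g • a = a ∧ g • b = b := by
    intro g
    rw [hHf]
    simp [Subgroup.mem_inf, mem_stabilizer_iff]
  have hHfcard : Hf.card = Nat.card (stabilizer G a ⊓ stabilizer G b : Subgroup G) := by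
    rw [hHf, Nat.card_eq_fintype_card, Fintype.card_subtype]
  have hpos : 0 < W.card := lt_of_lt_of_le Nat.card_pos hcount
  obtain ⟨s₀, hs₀⟩ := Finset.card_pos.mp hpos
  obtain ⟨⟨-, hs₀2⟩, hs₀a⟩ := (hWmem s₀).mp hs₀
  have hs₀b : s₀ • b = a := by rw [← hs₀a, ← mul_smul, hs₀2, one_smul]
  have himg : W.image (fun t => s₀⁻¹ * t) = Hf := by
    apply Finset.eq_of_subset_of_card_le
    · intro g hg
      obtain ⟨t, ht, rfl⟩ := Finset.mem_image.mp hg
      obtain ⟨⟨-, ht2⟩, hta⟩ := (hWmem t).mp ht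
      have htb : t • b = a := by rw [← hta, ← mul_smul, ht2, one_smul]
      rw [hHfmem]
      constructor
      · rw [mul_smul, hta, inv_smul_eq_iff, hs₀a]
      · rw [mul_smul, htb, inv_smul_eq_iff, hs₀b]
    · rw [Finset.card_image_of_injective _ (mul_right_injective s₀⁻¹), hHfcard]
      exact hcount
  have hmem : s₀⁻¹ * s ∈ Hf := by
    rw [hHfmem]
    constructor
    · rw [mul_smul, hsa, inv_smul_eq_iff, hs₀a]
    · rw [mul_smul, hsb, inv_smul_eq_iff, hs₀b]
  rw [← himg] at hmem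
  obtain ⟨t, ht, hte⟩ := Finset.mem_image.mp hmem
  have hts : t = s := mul_left_cancel hte
  subst hts
  exact ((hWmem t).mp ht).1.2

theorem normal_transitive_of_two_trans [FaithfulSMul G Ω]
    (h2 : ∀ x y x' y' : Ω, x ≠ y → x' ≠ y' → ∃ g : G, g • x = x' ∧ g • y = y')
    (M : Subgroup G) (hMn : M.Normal) (hM : M ≠ ⊥) (y z : Ω) : ∃ m ∈ M, m • y = z := by
  by_cases hyz : y = z
  · exact ⟨1, M.one_mem, by rw [one_smul, hyz]⟩
  obtain ⟨l, hl, hl1⟩ : ∃ l ∈ M, l ≠ 1 := by
    by_contra hcon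
    push Not at hcon
    exact hM ((Subgroup.eq_bot_iff_forall M).mpr hcon)
  obtain ⟨x, hx⟩ : ∃ x : Ω, l • x ≠ x := by
    by_contra hcon
    push Not at hcon
    exact hl1 (FaithfulSMul.eq_of_smul_eq_smul (α := Ω) (fun x => by rw [hcon x, one_smul]))
  obtain ⟨g, hg1, hg2⟩ := h2 x (l • x) y z (Ne.symm hx) hyz
  refine ⟨g * l * g⁻¹, hMn.conj_mem l hl g, ?_⟩
  rw [mul_smul, mul_smul, ← hg1, inv_smul_smul, hg2]

theorem simple_no_unique_fix {M : Type u} [Group M] [Finite M] [IsSimpleGroup M] [MulAction M Ω]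
    [Finite Ω]
    (htr : ∀ y z : Ω, ∃ m : M, m • y = z)
    (hfix : ∀ m : M, m ≠ 1 → ∀ c c' : Ω, m • c = c → m • c' = c' → c = c')
    (hab : ∀ c : Ω, ∀ m n : M, m • c = c → n • c = c → m * n = n * m)
    (p : ℕ) (hp : p.Prime) (hpM : p ∣ Nat.card M) (hpΩ : ¬ p ∣ Nat.card Ω)
    (x y : Ω) (hxy : x ≠ y) : False := by
  haveI : Fact p.Prime := ⟨hp⟩
  obtain ⟨P⟩ : Nonempty (Sylow p M) := inferInstance
  have hP1 : (P : Subgroup M) ≠ ⊥ := P.ne_bot_of_dvd_card hpM
  obtain ⟨c, hc⟩ := P.2.nonempty_fixed_point_of_prime_not_dvd_card Ω hpΩ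
  have hPc : ∀ g ∈ (P : Subgroup M), g • c = c := fun g hg => hc ⟨g, hg⟩
  obtain ⟨x₀, hx₀, hx₀1⟩ : ∃ x₀ ∈ (P : Subgroup M), x₀ ≠ 1 := by
    by_contra hcon
    push Not at hcon
    exact hP1 ((Subgroup.eq_bot_iff_forall _).mpr hcon)
  have hN : ∀ g ∈ Subgroup.normalizer ((P : Subgroup M) : Set M), g • c = c := by
    intro g hg
    have h1 : g * x₀ * g⁻¹ ∈ (P : Subgroup M) := (Subgroup.mem_normalizer_iff.mp hg x₀).mp hx₀
    have h2 := hPc _ h1
    rw [mul_smul, mul_smul, smul_eq_iff_eq_inv_smul] at h2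
    have h3 := hfix x₀ hx₀1 c (g⁻¹ • c) (hPc x₀ hx₀) h2
    rw [eq_inv_smul_iff] at h3
    exact h3
  have hNC : Subgroup.normalizer ((P : Subgroup M) : Set M) ≤ Subgroup.centralizer (P : Set M) := by
    intro g hg
    rw [Subgroup.mem_centralizer_iff]
    intro h hh
    exact hab c h g (hPc h hh) (hN g hg)
  have hcompl := MonoidHom.ker_transferSylow_isComplement' P hNC
  rcases (MonoidHom.normal_ker (MonoidHom.transferSylow P hNC)).eq_bot_or_eq_top with h | h
  · rw [h, Subgroup.isComplement'_bot_left] at hcompl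
    have hall : ∀ m : M, m • c = c := fun m => hPc m (by rw [hcompl]; exact Subgroup.mem_top m)
    by_cases hcx : c = x
    · obtain ⟨m, hm⟩ := htr c y
      rw [hall m] at hm
      exact hxy (hcx.symm.trans hm)
    · obtain ⟨m, hm⟩ := htr c x
      rw [hall m] at hm
      exact hcx hm
  · rw [h, Subgroup.isComplement'_top_left] at hcompl
    exact hP1 hcompl

theorem exists_simple_normal_of_two_trans [Finite G] [Fintype Ω] [FaithfulSMul G Ω]
    [Nontrivial G] (h2 : IsMultiplyPretransitive G Ω 2)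
    (hnoreg : ∀ N : Subgroup G, N.Normal → N ≠ ⊥ → ∃ a : Ω, ∃ n ∈ N, n ≠ 1 ∧ n • a = a) :
    ∃ M : Subgroup G, M.Normal ∧ M ≠ ⊥ ∧ IsSimpleGroup M := by
  classical
  have hφinj : Function.Injective (MulAction.toPermHom G Ω) := MulAction.toPerm_injective
  obtain ⟨G', hG'⟩ : ∃ G' : Subgroup (Equiv.Perm Ω), G' = (MulAction.toPermHom G Ω).range :=
    ⟨_, rfl⟩
  subst hG'
  let e : G ≃* (MulAction.toPermHom G Ω).range := MonoidHom.ofInjective hφinj
  have he : ∀ (g : G) (x : Ω), (e g) • x = g • x := fun g x => rfl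
  have h2' : IsMultiplyPretransitive (MulAction.toPermHom G Ω).range Ω 2 := by
    rw [is_two_pretransitive_iff]
    intro a b c d hab hcd
    obtain ⟨g, hg1, hg2⟩ := is_two_pretransitive_iff.mp h2 hab hcd
    exact ⟨e g, by rw [he, hg1], by rw [he, hg2]⟩
  haveI : Nontrivial (MulAction.toPermHom G Ω).range := e.symm.toEquiv.nontrivial
  have hex : ∃ n : ℕ, ∃ N : Subgroup (MulAction.toPermHom G Ω).range,
      N.Normal ∧ N ≠ ⊥ ∧ Nat.card N = n := ⟨_, ⊤, inferInstance, top_ne_bot, rfl⟩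
  obtain ⟨N, hNn, hN1, hNc⟩ := Nat.find_spec hex
  have hNmin : ∀ L : Subgroup (MulAction.toPermHom G Ω).range, L.Normal → L ≠ ⊥ →
      Nat.card N ≤ Nat.card L := by
    intro L hL hL1
    rw [hNc]
    exact Nat.find_min' hex ⟨L, hL, hL1, rfl⟩
  haveI := hNn
  have hmin : ∀ L : Subgroup (MulAction.toPermHom G Ω).range, L.Normal → L ≤ N →
      L = ⊥ ∨ L = N := by
    intro L hL hLN
    by_cases hL1 : L = ⊥
    · exact Or.inl hL1
    · exact Or.inr (Subgroup.eq_of_le_of_card_ge hLN (hNmin L hL hL1))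
  have hMn : (N.map e.symm.toMonoidHom).Normal := hNn.map _ e.symm.surjective
  have hM1 : N.map e.symm.toMonoidHom ≠ ⊥ := by
    intro h
    exact hN1 ((Subgroup.map_eq_bot_iff_of_injective N e.symm.injective).mp h)
  rcases Cfsg.Agent.S0700.result _ h2' N hN1 hmin with ⟨-, -, hreg⟩ | ⟨hsimple, -⟩
  · exfalso
    obtain ⟨a, n, hn, hn1, hna⟩ := hnoreg _ hMn hM1
    obtain ⟨n', hn', rfl⟩ := hn
    have h1 : (⟨n', hn'⟩ : N) ∈ stabilizer N a := by
      rw [mem_stabilizer_iff]
      have h2 := he (e.symm n') a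
      rw [MulEquiv.apply_symm_apply] at h2
      exact h2.trans hna
    rw [hreg a, Subgroup.mem_bot] at h1
    apply hn1
    have h3 : n' = 1 := congrArg Subtype.val h1
    rw [h3]
    exact map_one _
  · refine ⟨N.map e.symm.toMonoidHom, hMn, hM1, ?_⟩
    exact (e.symm.subgroupMap N).symm.isSimpleGroup

theorem kernel_of_regular [Finite G] [Fintype Ω] {a b : Ω} (hab : a ≠ b) (F : Subgroup G)
    (hFle : F ≤ stabilizer G a)
    (hreg : ∀ y z : Ω, y ≠ a → z ≠ a → ∃! u : F, (u : G) • y = z) :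
    Nat.card F + 1 = Fintype.card Ω ∧ ∀ u ∈ F, u ≠ 1 → ∀ c : Ω, u • c = c → c = a := by
  have hfix : ∀ u ∈ F, u ≠ 1 → ∀ c : Ω, u • c = c → c = a := by
    intro u hu hu1 c hc
    by_contra hca
    obtain ⟨w, -, hw⟩ := hreg c c hca hca
    have h1 := hw ⟨u, hu⟩ hc
    have h2 := hw 1 (one_smul _ c)
    exact hu1 (congrArg Subtype.val (h1.trans h2.symm))
  refine ⟨?_, hfix⟩
  have hba : b ≠ a := hab.symm
  have hne : ∀ u : F, (u : G) • b ≠ a := by
    intro u h
    have h1 : (u : G) • b = (u : G) • a := by rw [h, hFle u.2]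
    exact hba (smul_left_cancel _ h1)
  have hbij : Function.Bijective (fun u : F => (⟨(u : G) • b, hne u⟩ : {e : Ω // e ≠ a})) := by
    constructor
    · intro u w huw
      have h1 : (u : G) • b = (w : G) • b := congrArg Subtype.val huw
      obtain ⟨z, -, hz⟩ := hreg b ((u : G) • b) hba (hne u)
      exact (hz u rfl).trans (hz w h1.symm).symm
    · rintro ⟨z, hz⟩
      obtain ⟨u, hu, -⟩ := hreg b z hba hz
      exact ⟨u, Subtype.ext hu⟩
  rw [Nat.card_congr (Equiv.ofBijective _ hbij), card_ne_add_one, Nat.card_eq_fintype_card]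

theorem regular_of_kernel [Finite G] [Fintype Ω] (a : Ω) (F : Subgroup G)
    (hFle : F ≤ stabilizer G a) (hFcard : Nat.card F + 1 = Fintype.card Ω)
    (hFfix : ∀ u ∈ F, u ≠ 1 → ∀ c : Ω, u • c = c → c = a) :
    ∀ y z : Ω, y ≠ a → z ≠ a → ∃! u : F, (u : G) • y = z := by
  intro y z hy hz
  obtain ⟨h, hh, hhy⟩ := zass_kernel_regular a F hFle hFcard hFfix y z hy hz
  refine ⟨⟨h, hh⟩, hhy, ?_⟩
  intro w hw
  by_contra hne
  have h1 : ((w : G)⁻¹ * h) ≠ 1 := by
    intro h2
    apply hne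
    apply Subtype.ext
    exact (inv_mul_eq_one.mp h2)
  have h3 : ((w : G)⁻¹ * h) • y = y := by
    rw [mul_smul, hhy, inv_smul_eq_iff, hw]
  exact hy (hFfix _ (F.mul_mem (F.inv_mem w.2) hh) h1 y h3)

theorem conj_mem_of_subgroupOf_normal {a : Ω} (F : Subgroup G) (hFle : F ≤ stabilizer G a)
    (hFn : (F.subgroupOf (stabilizer G a)).Normal) :
    ∀ g ∈ stabilizer G a, ∀ u ∈ F, g * u * g⁻¹ ∈ F := by
  intro g hg u hu
  have h1 := hFn.conj_mem ⟨u, hFle hu⟩ (Subgroup.mem_subgroupOf.mpr hu) ⟨g, hg⟩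
  rw [Subgroup.mem_subgroupOf] at h1
  exact h1

theorem subgroupOf_normal_of_conj_mem {a : Ω} (F : Subgroup G)
    (hFn : ∀ g ∈ stabilizer G a, ∀ u ∈ F, g * u * g⁻¹ ∈ F) :
    (F.subgroupOf (stabilizer G a)).Normal := by
  refine ⟨fun n hn g => ?_⟩
  rw [Subgroup.mem_subgroupOf] at hn ⊢
  exact hFn g g.2 n hn

end Cfsg.Agent.H19
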