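import Mathlib
import Cfsg.Agent.H19.ZassFrob
import Cfsg.Agent.H19.TransferTwo
import Cfsg.Agent.Lib.Helper96.Frob6

/-!
# helper19: Zassenhaus groups with two-point stabilizer `E` of odd order

* `pairStab G a b` : the setwise stabilizer of `{a, b}`
* `zass_two_stab_isZGroup`, `zass_pairStab_isZGroup` : `E` and `N(E)` are Z-groups
* `zass_transfer_two_stab` : transfer from `E`: `V(w) = ϕ(w) ϕ(s⁻¹ w s)`
* `zass_swap_inverts` : if `G` has no non-trivial abelian `q`-quotients for the primes `q ∣ |E|`,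
  then `E` is cyclic and is inverted by every element swapping `a` and `b`
-/

set_option autoImplicit false
set_option linter.style.haveILetI false
set_option linter.unusedSectionVars false

namespace Cfsg.Agent.H19

open Cfsg MulAction
open scoped Pointwise

universe u v

variable {G : Type u} {Ω : Type v} [Group G] [MulAction G Ω]

/-- The setwise stabilizer of `{a, b}`. -/
def pairStab (G : Type*) {Ω : Type*} [Group G] [MulAction G Ω] (a b : Ω) : Subgroup G where
  carrier := {g | (g • a = a ∧ g • b = b) ∨ (g • a = b ∧ g • b = a)}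
  mul_mem' := by
    rintro x y (⟨hx1, hx2⟩ | ⟨hx1, hx2⟩) (⟨hy1, hy2⟩ | ⟨hy1, hy2⟩)
    · left; exact ⟨by rw [mul_smul, hy1, hx1], by rw [mul_smul, hy2, hx2]⟩
    · right; exact ⟨by rw [mul_smul, hy1, hx2], by rw [mul_smul, hy2, hx1]⟩
    · right; exact ⟨by rw [mul_smul, hy1, hx1], by rw [mul_smul, hy2, hx2]⟩
    · left; exact ⟨by rw [mul_smul, hy1, hx2], by rw [mul_smul, hy2, hx1]⟩
  one_mem' := Or.inl ⟨one_smul _ _, one_smul _ _⟩
  inv_mem' := by
    rintro x (⟨hx1, hx2⟩ | ⟨hx1, hx2⟩)
    · left; exact ⟨by rw [inv_smul_eq_iff, hx1], by rw [inv_smul_eq_iff, hx2]⟩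
    · right; exact ⟨by rw [inv_smul_eq_iff, hx2], by rw [inv_smul_eq_iff, hx1]⟩

theorem mem_pairStab {a b : Ω} {g : G} :
    g ∈ pairStab G a b ↔ (g • a = a ∧ g • b = b) ∨ (g • a = b ∧ g • b = a) := Iff.rfl

theorem two_stab_le_pairStab (a b : Ω) :
    (stabilizer G a ⊓ stabilizer G b : Subgroup G) ≤ pairStab G a b := fun _ hg => Or.inl hg

instance two_stab_subgroupOf_normal (a b : Ω) :
    ((stabilizer G a ⊓ stabilizer G b : Subgroup G).subgroupOf (pairStab G a b)).Normal := by
  constructor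
  intro w hw m
  rw [Subgroup.mem_subgroupOf] at hw ⊢
  obtain ⟨hwa, hwb⟩ := hw
  have hwa' : (w : G) • a = a := hwa
  have hwb' : (w : G) • b = b := hwb
  simp only [Subgroup.coe_mul, Subgroup.coe_inv]
  rcases m.2 with ⟨h1, h2⟩ | ⟨h1, h2⟩
  · have hi1 : (m : G)⁻¹ • a = a := by rw [inv_smul_eq_iff, h1]
    have hi2 : (m : G)⁻¹ • b = b := by rw [inv_smul_eq_iff, h2]
    exact ⟨by show ((m : G) * w * (m : G)⁻¹) • a = a; rw [mul_smul, mul_smul, hi1, hwa', h1],
      by show ((m : G) * w * (m : G)⁻¹) • b = b; rw [mul_smul, mul_smul, hi2, hwb', h2]⟩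
  · have hi1 : (m : G)⁻¹ • a = b := by rw [inv_smul_eq_iff, h2]
    have hi2 : (m : G)⁻¹ • b = a := by rw [inv_smul_eq_iff, h1]
    exact ⟨by show ((m : G) * w * (m : G)⁻¹) • a = a; rw [mul_smul, mul_smul, hi1, hwb', h2],
      by show ((m : G) * w * (m : G)⁻¹) • b = b; rw [mul_smul, mul_smul, hi2, hwa', h1]⟩

theorem two_stab_index {a b : Ω} (hab : a ≠ b) (s : G) (hsa : s • a = b) (hsb : s • b = a) :
    ((stabilizer G a ⊓ stabilizer G b : Subgroup G).subgroupOf (pairStab G a b)).index = 2 := by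
  rw [Subgroup.index_eq_two_iff]
  refine ⟨⟨s, Or.inr ⟨hsa, hsb⟩⟩, fun m => ?_⟩
  rcases m.2 with ⟨h1, h2⟩ | ⟨h1, h2⟩
  · refine Or.inr ⟨?_, ?_⟩
    · rw [Subgroup.mem_subgroupOf]; exact ⟨h1, h2⟩
    · rw [Subgroup.mem_subgroupOf]
      rintro ⟨h3, -⟩
      have h4 : ((m : G) * s) • a = a := h3
      rw [mul_smul, hsa, h2] at h4
      exact hab h4.symm
  · refine Or.inl ⟨?_, ?_⟩
    · rw [Subgroup.mem_subgroupOf]
      exact ⟨by show ((m : G) * s) • a = a; rw [mul_smul, hsa, h2],
        by show ((m : G) * s) • b = b; rw [mul_smul, hsb, h1]⟩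
    · rw [Subgroup.mem_subgroupOf]
      rintro ⟨h3, -⟩
      have h4 : (m : G) • a = a := h3
      exact hab (h4.symm.trans h1)

theorem two_stab_card_pairStab [Finite G] {a b : Ω} (hab : a ≠ b) (s : G) (hsa : s • a = b)
    (hsb : s • b = a) :
    Nat.card (pairStab G a b) = 2 * Nat.card (stabilizer G a ⊓ stabilizer G b : Subgroup G) := by
  have h1 := Subgroup.card_mul_index
    ((stabilizer G a ⊓ stabilizer G b : Subgroup G).subgroupOf (pairStab G a b))
  rw [two_stab_index hab s hsa hsb,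
    Nat.card_congr (Subgroup.subgroupOfEquivOfLe (two_stab_le_pairStab a b)).toEquiv] at h1
  omega

/-- The two-point stabilizer of a Zassenhaus group, if of odd order, is a Z-group. -/
theorem zass_two_stab_isZGroup [Finite G] [Fintype Ω] (hZ : IsZassenhausGroup G Ω) {a b : Ω}
    (hab : a ≠ b) (hodd : Odd (Nat.card (stabilizer G a ⊓ stabilizer G b : Subgroup G))) :
    IsZGroup ↥(stabilizer G a ⊓ stabilizer G b : Subgroup G) := by
  classical
  have hF := zass_isFrobeniusComplement hZ hab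
  obtain ⟨K, hKn, hKbot, -, hfpf⟩ := Cfsg.Agent.Lib.Helper96.frob_exists_kernel hF
  haveI := hKn
  have hz : IsZGroup ↥((stabilizer G b).subgroupOf (stabilizer G a)) := by
    refine ⟨fun p hp P => ?_⟩
    haveI := Fact.mk hp
    rcases Cfsg.Agent.Lib.Helper96.fpf_sylow_cyclic_or_quaternion
      (Cfsg.Agent.Lib.Helper96.s41 _) K _ hKbot hfpf p P with h | ⟨n, ⟨e⟩⟩
    · exact h
    · exfalso
      have h1 : Nat.card P = 4 * 2 ^ n := by
        rw [Nat.card_congr e.toEquiv, Nat.card_eq_fintype_card, QuaternionGroup.card]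
      have h2 : Nat.card P ∣ Nat.card ((stabilizer G b).subgroupOf (stabilizer G a)) :=
        Subgroup.card_subgroup_dvd_card _
      rw [zass_card_subgroupOf_stab, h1] at h2
      have h3 : 2 ∣ Nat.card (stabilizer G a ⊓ stabilizer G b : Subgroup G) :=
        (Dvd.intro (2 * 2 ^ n) (by ring)).trans h2
      exact (Nat.not_even_iff_odd.mpr hodd) (even_iff_two_dvd.mpr h3)
  rw [← Subgroup.inf_subgroupOf_left] at hz
  exact IsZGroup.of_injective
    (f := (Subgroup.subgroupOfEquivOfLe (inf_le_left :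
      (stabilizer G a ⊓ stabilizer G b : Subgroup G) ≤ stabilizer G a)).symm.toMonoidHom)
    (MulEquiv.injective _)

/-- The setwise stabilizer of two points of a Zassenhaus group with two-point stabilizers of odd
order is a Z-group. -/
theorem zass_pairStab_isZGroup [Finite G] [Fintype Ω] (hZ : IsZassenhausGroup G Ω) {a b : Ω}
    (hab : a ≠ b) (hodd : Odd (Nat.card (stabilizer G a ⊓ stabilizer G b : Subgroup G))) :
    IsZGroup ↥(pairStab G a b) := by
  haveI := zass_two_stab_isZGroup hZ hab hodd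
  obtain ⟨s, hsa, hsb⟩ := zass_two_trans hZ hab (Ne.symm hab)
  have hidx := two_stab_index hab s hsa hsb
  have hcard : Nat.card (↥(pairStab G a b) ⧸
      (stabilizer G a ⊓ stabilizer G b : Subgroup G).subgroupOf (pairStab G a b)) = 2 := by
    rw [← Subgroup.index_eq_card, hidx]
  haveI : IsZGroup (↥(pairStab G a b) ⧸
      (stabilizer G a ⊓ stabilizer G b : Subgroup G).subgroupOf (pairStab G a b)) :=
    IsZGroup.of_squarefree (by rw [hcard]; exact Nat.prime_two.squarefree)
  refine isZGroup_of_coprime (f := Subgroup.inclusion (two_stab_le_pairStab a b))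
    (f' := QuotientGroup.mk'
      ((stabilizer G a ⊓ stabilizer G b : Subgroup G).subgroupOf (pairStab G a b))) ?_ ?_
  · rw [QuotientGroup.ker_mk']
    intro m hm
    exact ⟨⟨m.1, hm⟩, rfl⟩
  · rw [hcard]
    exact hodd.coprime_two_right

/-- Transfer from the two-point stabilizer `E` of a Zassenhaus group into an abelian group. -/
theorem zass_transfer_two_stab [Finite G] (hZ : IsZassenhausGroup G Ω) {a b : Ω} (hab : a ≠ b)
    {A : Type*} [CommGroup A]
    (ϕ : ↥(stabilizer G a ⊓ stabilizer G b : Subgroup G) →* A) (s : G) (hsa : s • a = b)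
    (hsb : s • b = a) (w : ↥(stabilizer G a ⊓ stabilizer G b : Subgroup G))
    (hmem : s⁻¹ * (w : G) * s ∈ (stabilizer G a ⊓ stabilizer G b : Subgroup G)) :
    MonoidHom.transfer ϕ (w : G) = ϕ w * ϕ ⟨s⁻¹ * (w : G) * s, hmem⟩ := by
  apply transfer_eq_mul_of_two_fixed ϕ w s
  · intro hs
    exact hab (hs.1.symm.trans hsa)
  · intro k g₀ hk
    by_cases h1 : (w : G) ^ k = 1
    · exact Or.inl h1
    right
    have hwk := (stabilizer G a ⊓ stabilizer G b : Subgroup G).pow_mem w.2 k
    have hwa : (w : G) ^ k • a = a := hwk.1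
    have hwb : (w : G) ^ k • b = b := hwk.2
    have hga : (w : G) ^ k • (g₀ • a) = g₀ • a := by
      have h2 : (g₀⁻¹ * (w : G) ^ k * g₀) • a = a := hk.1
      rw [mul_smul, mul_smul, inv_smul_eq_iff] at h2
      exact h2
    have hgb : (w : G) ^ k • (g₀ • b) = g₀ • b := by
      have h2 : (g₀⁻¹ * (w : G) ^ k * g₀) • b = b := hk.2
      rw [mul_smul, mul_smul, inv_smul_eq_iff] at h2
      exact h2
    have h3 := hZ.2.2.1
    have ha' : g₀ • a = a ∨ g₀ • a = b := by
      by_contra hcon
      push Not at hcon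
      exact h1 (h3 _ a b (g₀ • a) hab (Ne.symm hcon.2) (Ne.symm hcon.1) hwa hwb hga)
    have hb' : g₀ • b = a ∨ g₀ • b = b := by
      by_contra hcon
      push Not at hcon
      exact h1 (h3 _ a b (g₀ • b) hab (Ne.symm hcon.2) (Ne.symm hcon.1) hwa hwb hgb)
    rcases ha' with ha' | ha' <;> rcases hb' with hb' | hb'
    · exfalso; exact hab (smul_left_cancel g₀ (ha'.trans hb'.symm))
    · left; exact ⟨ha', hb'⟩
    · right
      exact ⟨by show (s⁻¹ * g₀) • a = a; rw [mul_smul, ha', inv_smul_eq_iff, hsa],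
        by show (s⁻¹ * g₀) • b = b; rw [mul_smul, hb', inv_smul_eq_iff, hsb]⟩
    · exfalso; exact hab (smul_left_cancel g₀ (ha'.trans hb'.symm))

theorem eq_one_of_pow_ordCompl {A : Type*} [Group A] (y : A) (N : ℕ) (hN : N ≠ 0)
    (hy : y ^ N = 1)
    (h : ∀ q : ℕ, q.Prime → q ∣ N → y ^ (N / q ^ N.factorization q) = 1) : y = 1 := by
  by_contra hy1
  have h1 : orderOf y ≠ 1 := fun h => hy1 (orderOf_eq_one_iff.mp h)
  obtain ⟨r, hr, hrd⟩ := Nat.exists_prime_and_dvd h1
  have h2 : orderOf y ∣ N := orderOf_dvd_of_pow_eq_one hy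
  have h3 := orderOf_dvd_of_pow_eq_one (h r hr (hrd.trans h2))
  exact Nat.not_dvd_ordCompl hr hN (hrd.trans h3)

theorem swap_conj_mem {a b : Ω} (s : G) (hsa : s • a = b) (hsb : s • b = a) (w : G)
    (hw : w ∈ (stabilizer G a ⊓ stabilizer G b : Subgroup G)) :
    s⁻¹ * w * s ∈ (stabilizer G a ⊓ stabilizer G b : Subgroup G) := by
  have hwa : w • a = a := hw.1
  have hwb : w • b = b := hw.2
  exact ⟨by show (s⁻¹ * w * s) • a = a; rw [mul_smul, mul_smul, hsa, hwb, inv_smul_eq_iff, hsa],
    by show (s⁻¹ * w * s) • b = b; rw [mul_smul, mul_smul, hsb, hwa, inv_smul_eq_iff, hsb]⟩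

/-- If `G` has no non-trivial abelian `q`-quotient for the primes `q` dividing the (odd) order of
the two-point stabilizer `E`, then `E` is cyclic and inverted by the elements swapping `a, b`. -/
theorem zass_swap_inverts [Finite G] [Fintype Ω] (hZ : IsZassenhausGroup G Ω) {a b : Ω}
    (hab : a ≠ b) (hodd : Odd (Nat.card (stabilizer G a ⊓ stabilizer G b : Subgroup G)))
    (hq : ∀ q : ℕ, q.Prime → q ∣ Nat.card (stabilizer G a ⊓ stabilizer G b : Subgroup G) →
      ∀ (A : Type u) [CommGroup A] (f : G →* A), (∀ x, ∃ k : ℕ, f x ^ q ^ k = 1) →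
        ∀ x, f x = 1) :
    IsCyclic ↥(stabilizer G a ⊓ stabilizer G b : Subgroup G) ∧
      ∀ s : G, s • a = b → s • b = a →
        ∀ w ∈ (stabilizer G a ⊓ stabilizer G b : Subgroup G), s * w * s⁻¹ = w⁻¹ := by
  classical
  obtain ⟨s₀, hs₀a, hs₀b⟩ := zass_two_trans hZ hab (Ne.symm hab)
  have hd0 : Nat.card (stabilizer G a ⊓ stabilizer G b : Subgroup G) ≠ 0 := Nat.card_pos.ne'
  have hEM := two_stab_le_pairStab (G := G) a b
  have hcardM := two_stab_card_pairStab hab s₀ hs₀a hs₀b
  haveI := zass_pairStab_isZGroup hZ hab hodd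
  -- Step 1: E lies in the commutator subgroup of M
  have hcomm : ∀ w : ↥(stabilizer G a ⊓ stabilizer G b : Subgroup G),
      Subgroup.inclusion hEM w ∈ commutator ↥(pairStab G a b) := by
    intro w
    rw [← Abelianization.ker_of, MonoidHom.mem_ker]
    set ψ : ↥(stabilizer G a ⊓ stabilizer G b : Subgroup G) →* Abelianization ↥(pairStab G a b) :=
      (Abelianization.of).comp (Subgroup.inclusion hEM) with hψ
    show ψ w = 1
    have hmem := swap_conj_mem s₀ hs₀a hs₀b (w : G) w.2
    have hT := zass_transfer_two_stab hZ hab ψ s₀ hs₀a hs₀b w hmem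
    have hψconj : ψ ⟨s₀⁻¹ * (w : G) * s₀, hmem⟩ = ψ w := by
      have h1 : Subgroup.inclusion hEM ⟨s₀⁻¹ * (w : G) * s₀, hmem⟩ =
          (⟨s₀, Or.inr ⟨hs₀a, hs₀b⟩⟩ : pairStab G a b)⁻¹ * Subgroup.inclusion hEM w *
            ⟨s₀, Or.inr ⟨hs₀a, hs₀b⟩⟩ := by
        apply Subtype.ext
        simp
      rw [hψ, MonoidHom.comp_apply, h1, map_mul, map_mul, map_inv, mul_comm,
        mul_inv_cancel_left]
      rfl
    rw [hψconj] at hT
    have hz2d : ∀ z : Abelianization ↥(pairStab G a b),
        z ^ (2 * Nat.card (stabilizer G a ⊓ stabilizer G b : Subgroup G)) = 1 := by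
      intro z
      have h1 : Nat.card (Abelianization ↥(pairStab G a b)) ∣ Nat.card ↥(pairStab G a b) :=
        Subgroup.card_quotient_dvd_card _
      rw [hcardM] at h1
      obtain ⟨j, hj⟩ := h1
      rw [hj, pow_mul, pow_card_eq_one', one_pow]
    have hwd : ψ w ^ Nat.card (stabilizer G a ⊓ stabilizer G b : Subgroup G) = 1 := by
      rw [← map_pow, pow_card_eq_one', map_one]
    apply eq_one_of_pow_ordCompl (ψ w) _ hd0 hwd
    intro q hqp hqd
    set c := Nat.card (stabilizer G a ⊓ stabilizer G b : Subgroup G) /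
      q ^ (Nat.card (stabilizer G a ⊓ stabilizer G b : Subgroup G)).factorization q with hc
    have hcq : c * q ^ (Nat.card (stabilizer G a ⊓ stabilizer G b : Subgroup G)).factorization q =
        Nat.card (stabilizer G a ⊓ stabilizer G b : Subgroup G) :=
      Nat.div_mul_cancel (Nat.ordProj_dvd _ _)
    have hf := hq q hqp hqd (Abelianization ↥(pairStab G a b))
      ((powMonoidHom (2 * c)).comp (MonoidHom.transfer ψ))
      (fun x => ⟨(Nat.card (stabilizer G a ⊓ stabilizer G b : Subgroup G)).factorization q, by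
        rw [MonoidHom.comp_apply, powMonoidHom_apply, ← pow_mul, mul_assoc, hcq]
        exact hz2d _⟩) (w : G)
    rw [MonoidHom.comp_apply, powMonoidHom_apply, hT, ← pow_two, ← pow_mul] at hf
    have h4 : orderOf (ψ w) ∣ 4 * c := by
      apply orderOf_dvd_of_pow_eq_one
      rw [← hf]; congr 1; ring
    have h5 : orderOf (ψ w) ∣ Nat.card (stabilizer G a ⊓ stabilizer G b : Subgroup G) :=
      orderOf_dvd_of_pow_eq_one hwd
    have h6 : Nat.Coprime (orderOf (ψ w)) 4 := by
      have : Nat.Coprime (Nat.card (stabilizer G a ⊓ stabilizer G b : Subgroup G)) (2 ^ 2) :=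
        Nat.Coprime.pow_right 2 hodd.coprime_two_right
      exact Nat.Coprime.coprime_dvd_left h5 this
    have h7 : orderOf (ψ w) ∣ c := h6.dvd_of_dvd_mul_left h4
    exact orderOf_dvd_iff_pow_eq_one.mp h7
  -- Step 2: E is cyclic
  haveI hcycM : IsCyclic ↥(commutator ↥(pairStab G a b)) :=
    IsZGroup.isCyclic_commutator _
  have hcyc : IsCyclic ↥(stabilizer G a ⊓ stabilizer G b : Subgroup G) := by
    apply isCyclic_of_injective
      ((Subgroup.inclusion hEM).codRestrict (commutator ↥(pairStab G a b)) hcomm)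
    intro x y hxy
    have h1 := congrArg
      (fun z : ↥(commutator ↥(pairStab G a b)) => ((z : ↥(pairStab G a b)) : G)) hxy
    exact Subtype.ext h1
  refine ⟨hcyc, ?_⟩
  -- Step 3: inversion
  have hEcomm : ∀ x y : ↥(stabilizer G a ⊓ stabilizer G b : Subgroup G), x * y = y * x := by
    intro x y
    obtain ⟨g, hg⟩ := hcyc.exists_generator
    obtain ⟨i, rfl⟩ := Subgroup.mem_zpowers_iff.mp (hg x)
    obtain ⟨j, rfl⟩ := Subgroup.mem_zpowers_iff.mp (hg y)
    rw [← zpow_add, ← zpow_add, add_comm]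
  have hinv : ∀ s : G, s • a = b → s • b = a →
      ∀ w ∈ (stabilizer G a ⊓ stabilizer G b : Subgroup G), s⁻¹ * w * s = w⁻¹ := by
    intro s hsa hsb w hw
    have hmem := swap_conj_mem s hsa hsb w hw
    set ψ : ↥(stabilizer G a ⊓ stabilizer G b : Subgroup G) →*
        Abelianization ↥(stabilizer G a ⊓ stabilizer G b : Subgroup G) := Abelianization.of with hψ
    have hT := zass_transfer_two_stab hZ hab ψ s hsa hsb ⟨w, hw⟩ hmem
    rw [← map_mul] at hT
    have hzd : ∀ z : Abelianization ↥(stabilizer G a ⊓ stabilizer G b : Subgroup G),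
        z ^ Nat.card (stabilizer G a ⊓ stabilizer G b : Subgroup G) = 1 := by
      intro z
      have h1 : Nat.card (Abelianization ↥(stabilizer G a ⊓ stabilizer G b : Subgroup G)) ∣
          Nat.card ↥(stabilizer G a ⊓ stabilizer G b : Subgroup G) :=
        Subgroup.card_quotient_dvd_card _
      obtain ⟨j, hj⟩ := h1
      rw [hj, pow_mul, pow_card_eq_one', one_pow]
    have hy1 : ψ (⟨w, hw⟩ * ⟨s⁻¹ * w * s, hmem⟩) = 1 := by
      apply eq_one_of_pow_ordCompl _ _ hd0 (hzd _)
      intro q hqp hqd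
      have hcq : Nat.card (stabilizer G a ⊓ stabilizer G b : Subgroup G) /
          q ^ (Nat.card (stabilizer G a ⊓ stabilizer G b : Subgroup G)).factorization q *
          q ^ (Nat.card (stabilizer G a ⊓ stabilizer G b : Subgroup G)).factorization q =
          Nat.card (stabilizer G a ⊓ stabilizer G b : Subgroup G) :=
        Nat.div_mul_cancel (Nat.ordProj_dvd _ _)
      have hf := hq q hqp hqd (Abelianization ↥(stabilizer G a ⊓ stabilizer G b : Subgroup G))
        ((powMonoidHom (Nat.card (stabilizer G a ⊓ stabilizer G b : Subgroup G) /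
          q ^ (Nat.card (stabilizer G a ⊓ stabilizer G b : Subgroup G)).factorization q)).comp
          (MonoidHom.transfer ψ))
        (fun x => ⟨(Nat.card (stabilizer G a ⊓ stabilizer G b : Subgroup G)).factorization q, by
          rw [MonoidHom.comp_apply, powMonoidHom_apply, ← pow_mul, hcq]
          exact hzd _⟩) w
      rw [MonoidHom.comp_apply, powMonoidHom_apply] at hf
      rw [← hf]
      congr 1
      exact hT.symm
    have hker : (⟨w, hw⟩ * ⟨s⁻¹ * w * s, hmem⟩ :
        ↥(stabilizer G a ⊓ stabilizer G b : Subgroup G)) ∈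
        commutator ↥(stabilizer G a ⊓ stabilizer G b : Subgroup G) := by
      rw [← Abelianization.ker_of, MonoidHom.mem_ker]
      exact hy1
    have hbot : commutator ↥(stabilizer G a ⊓ stabilizer G b : Subgroup G) = ⊥ := by
      rw [commutator_def, Subgroup.commutator_eq_bot_iff_le_centralizer]
      intro x _
      rw [Subgroup.mem_centralizer_iff]
      intro y _
      exact hEcomm y x
    rw [hbot, Subgroup.mem_bot] at hker
    have h1 : w * (s⁻¹ * w * s) = 1 := congrArg Subtype.val hker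
    exact (eq_inv_of_mul_eq_one_right h1)
  intro s hsa hsb w hw
  have hsinva : s⁻¹ • a = b := by rw [inv_smul_eq_iff, hsb]
  have hsinvb : s⁻¹ • b = a := by rw [inv_smul_eq_iff, hsa]
  have := hinv s⁻¹ hsinva hsinvb w hw
  rwa [inv_inv] at this

end Cfsg.Agent.H19
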