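import Mathlib
import Cfsg.Agent.H19.ZassSwap

/-!
# helper19: Zassenhaus groups with odd two-point stabilizers, continued

* `zass_exists_ne_one` : the two-point stabilizer is non-trivial
* `zass_factorization_eq` : for `q ∣ |E|`, the `q`-parts of `|G|` and `|E|` agree
* `zass_hq_of_hnil` : if `G` has no normal `q`-complement (`q ∣ |E|`, `|E|` odd), then `G` has
  no non-trivial abelian `q`-quotient
* `zass_centralizer_two_stab` : `C_G(E) = E`
-/

set_option autoImplicit false
set_option linter.style.haveILetI false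
set_option linter.unusedSectionVars false

namespace Cfsg.Agent.H19

open Cfsg MulAction
open scoped Pointwise

universe u v

variable {G : Type u} {Ω : Type v} [Group G] [MulAction G Ω]

theorem zass_exists_ne_one (hZ : IsZassenhausGroup G Ω) {a b : Ω} (hab : a ≠ b) :
    ∃ w ∈ (stabilizer G a ⊓ stabilizer G b : Subgroup G), w ≠ 1 := by
  obtain ⟨g0, hg0, a0, b0, hab0, hga0, hgb0⟩ := hZ.2.2.2.1
  obtain ⟨x, hxa, hxb⟩ := zass_two_trans hZ hab0 hab
  refine ⟨x * g0 * x⁻¹, ⟨?_, ?_⟩, ?_⟩
  · show (x * g0 * x⁻¹) • a = a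
    rw [← hxa, mul_smul, mul_smul, inv_smul_smul, hga0]
  · show (x * g0 * x⁻¹) • b = b
    rw [← hxb, mul_smul, mul_smul, inv_smul_smul, hgb0]
  · intro h1
    apply hg0
    have h4 : g0 = x⁻¹ * (x * g0 * x⁻¹) * x := by group
    rw [h4, h1]; group

theorem zass_factorization_eq [Finite G] [Fintype Ω] (hZ : IsZassenhausGroup G Ω) {a b : Ω}
    (hab : a ≠ b) (hodd : Odd (Nat.card (stabilizer G a ⊓ stabilizer G b : Subgroup G)))
    {q : ℕ} (hqp : q.Prime)
    (hqd : q ∣ Nat.card (stabilizer G a ⊓ stabilizer G b : Subgroup G)) :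
    (Nat.card G).factorization q =
      (Nat.card (stabilizer G a ⊓ stabilizer G b : Subgroup G)).factorization q := by
  have h1 := card_eq_of_two_pretransitive hZ.2.1 hab
  obtain ⟨k, hk⟩ := zass_card_modEq hZ hab
  have hn3 := zass_three_le_card hZ
  rw [h1, Nat.card_eq_fintype_card (α := Ω)]
  have hq2 : q ≠ 2 := by
    rintro rfl
    exact (Nat.not_even_iff_odd.mpr hodd) (even_iff_two_dvd.mpr hqd)
  have h3 : q ∣ Fintype.card Ω - 2 := by
    have h4 : Fintype.card Ω - 2 =
        k * Nat.card (stabilizer G a ⊓ stabilizer G b : Subgroup G) -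
          2 * Nat.card (stabilizer G a ⊓ stabilizer G b : Subgroup G) := by omega
    rw [h4]
    exact Nat.dvd_sub (Dvd.dvd.mul_left hqd k) (Dvd.dvd.mul_left hqd 2)
  have hnd : ¬ q ∣ Fintype.card Ω * Fintype.card Ω - Fintype.card Ω := by
    intro h
    have h2 : Fintype.card Ω * Fintype.card Ω - Fintype.card Ω =
        Fintype.card Ω * (Fintype.card Ω - 1) := by
      rw [Nat.mul_sub, mul_one]
    rw [h2] at h
    rcases (Nat.Prime.dvd_mul hqp).mp h with h4 | h4
    · have h5 : q ∣ Fintype.card Ω - (Fintype.card Ω - 2) := Nat.dvd_sub h4 h3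
      have h6 : Fintype.card Ω - (Fintype.card Ω - 2) = 2 := by omega
      rw [h6] at h5
      exact hq2 ((Nat.prime_dvd_prime_iff_eq hqp Nat.prime_two).mp h5)
    · have h5 : q ∣ (Fintype.card Ω - 1) - (Fintype.card Ω - 2) := Nat.dvd_sub h4 h3
      have h6 : (Fintype.card Ω - 1) - (Fintype.card Ω - 2) = 1 := by omega
      rw [h6] at h5
      exact hqp.one_lt.ne' (Nat.dvd_one.mp h5)
  have hpos : Fintype.card Ω * Fintype.card Ω - Fintype.card Ω ≠ 0 := by
    have : Fintype.card Ω * 3 ≤ Fintype.card Ω * Fintype.card Ω := Nat.mul_le_mul_left _ hn3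
    omega
  rw [Nat.factorization_mul hpos Nat.card_pos.ne', Finsupp.add_apply,
    Nat.factorization_eq_zero_of_not_dvd hnd, zero_add]

/-- No normal `q`-complement (for `q` dividing the odd order of the two-point stabilizer) implies
no non-trivial abelian `q`-quotient. -/
theorem zass_hq_of_hnil [Finite G] [Fintype Ω] (hZ : IsZassenhausGroup G Ω) {a b : Ω}
    (hab : a ≠ b) (hodd : Odd (Nat.card (stabilizer G a ⊓ stabilizer G b : Subgroup G)))
    (hnil : ∀ q : ℕ, q.Prime →
      q ∣ Nat.card (stabilizer G a ⊓ stabilizer G b : Subgroup G) →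
      ¬ ∃ N : Subgroup G, N.Normal ∧ N.index = q ^ (Nat.card G).factorization q)
    (q : ℕ) (hqp : q.Prime)
    (hqd : q ∣ Nat.card (stabilizer G a ⊓ stabilizer G b : Subgroup G))
    (A : Type*) [CommGroup A] (f : G →* A) (hf : ∀ x, ∃ k : ℕ, f x ^ q ^ k = 1) (x : G) :
    f x = 1 := by
  classical
  haveI := Fact.mk hqp
  haveI := zass_two_stab_isZGroup hZ hab hodd
  obtain ⟨Q₀⟩ : Nonempty (Sylow q ↥(stabilizer G a ⊓ stabilizer G b : Subgroup G)) := inferInstance
  have hcard : Nat.card ((Q₀ : Subgroup ↥(stabilizer G a ⊓ stabilizer G b : Subgroup G)).map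
      (stabilizer G a ⊓ stabilizer G b : Subgroup G).subtype) =
      q ^ (Nat.card G).factorization q := by
    rw [Subgroup.card_map_of_injective (Subgroup.subtype_injective _), Sylow.card_eq_multiplicity,
      zass_factorization_eq hZ hab hodd hqp hqd]
  let P : Sylow q G := Sylow.ofCard _ hcard
  haveI : IsCyclic ↥P := by
    show IsCyclic ↥((Q₀ : Subgroup ↥(stabilizer G a ⊓ stabilizer G b : Subgroup G)).map
      (stabilizer G a ⊓ stabilizer G b : Subgroup G).subtype)
    exact isCyclic_of_surjective _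
      (Subgroup.equivMapOfInjective _ _ (Subgroup.subtype_injective _)).surjective
  rcases Sylow.normalizer_le_centralizer_or_le_commutator P with hP | hP
  · exfalso
    apply hnil q hqp hqd
    have hc := MonoidHom.ker_transferSylow_isComplement' P hP
    refine ⟨(MonoidHom.transferSylow P hP).ker, MonoidHom.normal_ker _, ?_⟩
    rw [hc.symm.index_eq_card, Sylow.card_eq_multiplicity]
  · obtain ⟨k, hk⟩ := hf x
    have h1 : x ^ (commutator G).index ∈ commutator G := Subgroup.pow_index_mem _ x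
    have h2 : f x ^ (commutator G).index = 1 := by
      rw [← map_pow]
      exact (Abelianization.commutator_subset_ker f) h1
    have h3 : orderOf (f x) ∣ q ^ k := orderOf_dvd_of_pow_eq_one hk
    have h4 : orderOf (f x) ∣ (commutator G).index := orderOf_dvd_of_pow_eq_one h2
    have h5 : (commutator G).index ∣ (P : Subgroup G).index := Subgroup.index_dvd_of_le hP
    have h6 : Nat.Coprime (q ^ k) (P : Subgroup G).index :=
      Nat.Coprime.pow_left k ((Nat.Prime.coprime_iff_not_dvd hqp).mpr P.not_dvd_index)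
    have h7 : orderOf (f x) ∣ 1 := by
      have := Nat.dvd_gcd h3 (h4.trans h5)
      rwa [Nat.Coprime.gcd_eq_one h6] at this
    exact orderOf_eq_one_iff.mp (Nat.dvd_one.mp h7)

theorem zass_centralizer_two_stab [Finite G] [Fintype Ω] (hZ : IsZassenhausGroup G Ω) {a b : Ω}
    (hab : a ≠ b) (hodd : Odd (Nat.card (stabilizer G a ⊓ stabilizer G b : Subgroup G)))
    (hcyc : IsCyclic ↥(stabilizer G a ⊓ stabilizer G b : Subgroup G))
    (hinv : ∀ s : G, s • a = b → s • b = a →
      ∀ w ∈ (stabilizer G a ⊓ stabilizer G b : Subgroup G), s * w * s⁻¹ = w⁻¹) :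
    Subgroup.centralizer (((stabilizer G a ⊓ stabilizer G b : Subgroup G)) : Set G) =
      (stabilizer G a ⊓ stabilizer G b : Subgroup G) := by
  obtain ⟨w₀, hw₀, hw₀1⟩ := zass_exists_ne_one hZ hab
  apply le_antisymm
  · intro g hg
    rw [Subgroup.mem_centralizer_iff] at hg
    have hc := hg w₀ hw₀
    have hwa : w₀ • a = a := hw₀.1
    have hwb : w₀ • b = b := hw₀.2
    have hga : w₀ • (g • a) = g • a := by rw [← mul_smul, hc, mul_smul, hwa]
    have hgb : w₀ • (g • b) = g • b := by rw [← mul_smul, hc, mul_smul, hwb]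
    have h3 := hZ.2.2.1
    have ha' : g • a = a ∨ g • a = b := by
      by_contra hcon
      push Not at hcon
      exact hw₀1 (h3 _ a b (g • a) hab (Ne.symm hcon.2) (Ne.symm hcon.1) hwa hwb hga)
    have hb' : g • b = a ∨ g • b = b := by
      by_contra hcon
      push Not at hcon
      exact hw₀1 (h3 _ a b (g • b) hab (Ne.symm hcon.2) (Ne.symm hcon.1) hwa hwb hgb)
    rcases ha' with ha' | ha' <;> rcases hb' with hb' | hb'
    · exfalso; exact hab (smul_left_cancel g (ha'.trans hb'.symm))
    · exact ⟨ha', hb'⟩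
    · exfalso
      have h4 := hinv g ha' hb' w₀ hw₀
      rw [← hc, mul_inv_cancel_right] at h4
      have h5 : w₀ ^ 2 = 1 := by
        rw [pow_two]
        nth_rewrite 2 [h4]
        exact mul_inv_cancel w₀
      have h6 : orderOf w₀ ∣ 2 := orderOf_dvd_of_pow_eq_one h5
      have h7 : orderOf w₀ ∣ Nat.card (stabilizer G a ⊓ stabilizer G b : Subgroup G) := by
        have := orderOf_dvd_natCard (⟨w₀, hw₀⟩ : (stabilizer G a ⊓ stabilizer G b : Subgroup G))
        rwa [← Subgroup.orderOf_coe] at this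
      have h8 : orderOf w₀ ∣ 1 := by
        have := Nat.dvd_gcd h6 h7
        rwa [Nat.Coprime.gcd_eq_one hodd.coprime_two_left] at this
      exact hw₀1 (orderOf_eq_one_iff.mp (Nat.dvd_one.mp h8))
    · exfalso; exact hab (smul_left_cancel g (ha'.trans hb'.symm))
  · intro g hg
    rw [Subgroup.mem_centralizer_iff]
    intro y hy
    obtain ⟨z, hz⟩ := hcyc.exists_generator
    obtain ⟨i, hi⟩ := Subgroup.mem_zpowers_iff.mp (hz ⟨g, hg⟩)
    obtain ⟨j, hj⟩ := Subgroup.mem_zpowers_iff.mp (hz ⟨y, hy⟩)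
    have h1 : (⟨y, hy⟩ : (stabilizer G a ⊓ stabilizer G b : Subgroup G)) * ⟨g, hg⟩ =
        ⟨g, hg⟩ * ⟨y, hy⟩ := by
      rw [← hi, ← hj, ← zpow_add, ← zpow_add, add_comm]
    exact congrArg Subtype.val h1

end Cfsg.Agent.H19
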