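import Mathlib
import Cfsg.Agent.H19.ZassSwap2

/-!
# helper19: counting involutions in Zassenhaus groups with odd two-point stabilizers

* `card_invol_mul_card_centralizer` : if all involutions are conjugate to `z`, then
  `#involutions * |C(z)| = |G|`
* `zass_card_invol_of_odd_card` : odd degree `n`: `#involutions = |E| * n`
* `zass_invol_of_even_card` : even degree `n`, swapping elements invert: all involutions are
  conjugate and `#involutions = (n - 1) * |E|`
-/

set_option autoImplicit false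
set_option linter.style.haveILetI false
set_option linter.unusedSectionVars false

namespace Cfsg.Agent.H19

open Cfsg MulAction
open scoped Pointwise

universe u v

theorem card_invol_mul_card_centralizer {G : Type*} [Group G] [Finite G] (z : G)
    (hz : orderOf z = 2) (hconj : ∀ x : G, orderOf x = 2 → ∃ g, g * z * g⁻¹ = x) :
    Nat.card {x : G // orderOf x = 2} * Nat.card (Subgroup.centralizer ({z} : Set G)) =
      Nat.card G := by
  classical
  haveI : Fintype {x : G // orderOf x = 2} := Fintype.ofFinite _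
  let f : G → {x : G // orderOf x = 2} := fun g => ⟨g * z * g⁻¹, by rw [orderOf_conj_eq]; exact hz⟩
  have hfib : ∀ x, Nat.card {g // f g = x} = Nat.card (Subgroup.centralizer ({z} : Set G)) := by
    intro x
    obtain ⟨g₀, hg₀⟩ := hconj x.1 x.2
    apply Nat.card_congr
    refine ⟨fun g => ⟨g₀⁻¹ * g.1, ?_⟩, fun c => ⟨g₀ * c.1, ?_⟩, ?_, ?_⟩
    · rw [Subgroup.mem_centralizer_iff]
      intro w hw
      rw [Set.mem_singleton_iff] at hw
      rw [hw]
      have h1 : g.1 * z * g.1⁻¹ = g₀ * z * g₀⁻¹ := by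
        have := congrArg Subtype.val g.2
        rw [hg₀]; exact this
      calc z * (g₀⁻¹ * g.1) = g₀⁻¹ * (g₀ * z * g₀⁻¹) * g.1 := by group
        _ = g₀⁻¹ * (g.1 * z * g.1⁻¹) * g.1 := by rw [h1]
        _ = g₀⁻¹ * g.1 * z := by group
    · apply Subtype.ext
      show g₀ * c.1 * z * (g₀ * c.1)⁻¹ = x.1
      have hc : z * c.1 = c.1 * z := by
        have := Subgroup.mem_centralizer_iff.mp c.2 z rfl
        exact this
      rw [← hg₀]
      calc g₀ * c.1 * z * (g₀ * c.1)⁻¹ = g₀ * (c.1 * z) * c.1⁻¹ * g₀⁻¹ := by group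
        _ = g₀ * (z * c.1) * c.1⁻¹ * g₀⁻¹ := by rw [hc]
        _ = g₀ * z * g₀⁻¹ := by group
    · intro g
      apply Subtype.ext
      show g₀ * (g₀⁻¹ * g.1) = g.1
      group
    · intro c
      apply Subtype.ext
      show g₀⁻¹ * (g₀ * c.1) = c.1
      group
  rw [← Nat.card_congr (Equiv.sigmaFiberEquiv f), Nat.card_sigma,
    Finset.sum_congr rfl (fun x _ => hfib x), Finset.sum_const, Finset.card_univ, smul_eq_mul,
    Nat.card_eq_fintype_card]

variable {G : Type u} {Ω : Type v} [Group G] [MulAction G Ω]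

/-- Odd degree: the number of involutions is `|E| * n`. -/
theorem zass_card_invol_of_odd_card [Finite G] [Fintype Ω] (hZ : IsZassenhausGroup G Ω)
    {a b : Ω} (hab : a ≠ b)
    (hodd : Odd (Nat.card (stabilizer G a ⊓ stabilizer G b : Subgroup G)))
    (hn : Odd (Fintype.card Ω)) :
    Nat.card {x : G // orderOf x = 2} =
      Nat.card (stabilizer G a ⊓ stabilizer G b : Subgroup G) * Fintype.card Ω := by
  classical
  haveI : Fact (Nat.Prime 2) := ⟨Nat.prime_two⟩
  have hn3 := zass_three_le_card hZ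
  have hcardG := card_eq_of_two_pretransitive hZ.2.1 hab
  rw [Nat.card_eq_fintype_card (α := Ω)] at hcardG
  have hnn : Fintype.card Ω * Fintype.card Ω - Fintype.card Ω =
      Fintype.card Ω * (Fintype.card Ω - 1) := by
    rw [Nat.mul_sub, mul_one]
  have h2G : 2 ∣ Nat.card G := by
    rw [hcardG, hnn]
    apply Dvd.dvd.mul_right
    apply Dvd.dvd.mul_left
    obtain ⟨k, hk⟩ := hn
    omega
  obtain ⟨z, hz⟩ := exists_prime_orderOf_dvd_card' 2 h2G
  obtain ⟨c, hzc⟩ := zass_invol_exists_fix hn hz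
  obtain ⟨d, hd⟩ := Fintype.exists_ne_of_one_lt_card (by omega : 1 < Fintype.card Ω) c
  have hcd : c ≠ d := Ne.symm hd
  have hcard2 := zass_card_two_stab hZ hab hcd
  have hodd' : Odd (Nat.card (stabilizer G c ⊓ stabilizer G d : Subgroup G)) := by
    rw [hcard2]; exact hodd
  obtain ⟨H, hHa, hHcard, hHfix⟩ := zass_exists_kernel hZ hcd
  have hzH : z ∈ H := zass_mem_kernel hZ c H hHa hHcard hHfix z hzc
    (fun c' hc' => zass_invol_fix_unique hZ hcd hodd' hz hc' hzc)
  have hcent : Subgroup.centralizer ({z} : Set G) = H := by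
    apply le_antisymm
    · intro g hg
      have hgz : z * g = g * z := Subgroup.mem_centralizer_iff.mp hg z rfl
      have hgc : g • c = c := by
        apply zass_invol_fix_unique hZ hcd hodd' hz _ hzc
        rw [← mul_smul, hgz, mul_smul, hzc]
      by_cases hg1 : g = 1
      · rw [hg1]; exact H.one_mem
      apply zass_mem_kernel hZ c H hHa hHcard hHfix g hgc
      intro c' hc'
      by_contra hne
      have h1 : g • (z • c') = z • c' := by rw [← mul_smul, ← hgz, mul_smul, hc']
      have h2 : z • c' ≠ c' := fun h => hne (zass_invol_fix_unique hZ hcd hodd' hz h hzc)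
      have h3 : z • c' ≠ c := by
        intro h
        exact hne (smul_left_cancel z (h.trans hzc.symm))
      exact hg1 (hZ.2.2.1 g c c' (z • c') (Ne.symm hne) (Ne.symm h2) (Ne.symm h3) hgc hc' h1)
    · intro g hg
      rw [Subgroup.mem_centralizer_iff]
      intro w hw
      rw [Set.mem_singleton_iff] at hw
      rw [hw]
      exact zass_kernel_invol_central hZ hcd hodd' H hHa hHcard hHfix hz hzH g hg
  have hcount := card_invol_mul_card_centralizer z hz
    (fun x hx => zass_invol_isConj_of_odd_card hZ hab hodd hn hz hx)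
  rw [hcent, hcardG, hnn] at hcount
  have hH1 : Nat.card H = Fintype.card Ω - 1 := by omega
  rw [hH1] at hcount
  have hpos : 0 < Fintype.card Ω - 1 := by omega
  apply Nat.eq_of_mul_eq_mul_right hpos
  rw [hcount]; ring

theorem zass_invol_fpf [Finite G] [Fintype Ω] (hZ : IsZassenhausGroup G Ω) {a b : Ω}
    (hab : a ≠ b) (hodd : Odd (Nat.card (stabilizer G a ⊓ stabilizer G b : Subgroup G)))
    (hn : Even (Fintype.card Ω)) {x : G} (hx : orderOf x = 2) (c : Ω) : x • c ≠ c := by
  haveI : Fact (Nat.Prime 2) := ⟨Nat.prime_two⟩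
  intro hc
  have hσ : (MulAction.toPermHom G Ω x) ^ 2 ^ 1 = 1 := by
    rw [pow_one, ← map_pow, ← hx, pow_orderOf_eq_one, map_one]
  obtain ⟨d, hd, hdc⟩ := Equiv.Perm.exists_fixed_point_of_prime' (n := 1)
    (even_iff_two_dvd.mp hn) hσ (a := c) hc
  exact hdc (zass_invol_fix_unique hZ hab hodd hx hd hc)

/-- Even degree, swapping elements invert the two-point stabilizers: all involutions are
conjugate, and their number is `(n - 1) * |E|`. -/
theorem zass_invol_of_even_card [Finite G] [Fintype Ω] (hZ : IsZassenhausGroup G Ω) {a b : Ω}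
    (hab : a ≠ b) (hodd : Odd (Nat.card (stabilizer G a ⊓ stabilizer G b : Subgroup G)))
    (hn : Even (Fintype.card Ω))
    (hinv : ∀ c d : Ω, c ≠ d → ∀ s : G, s • c = d → s • d = c →
      ∀ w ∈ (stabilizer G c ⊓ stabilizer G d : Subgroup G), s * w * s⁻¹ = w⁻¹) :
    (∀ x y : G, orderOf x = 2 → orderOf y = 2 → ∃ g, g * x * g⁻¹ = y) ∧
      Nat.card {x : G // orderOf x = 2} =
        (Fintype.card Ω - 1) * Nat.card (stabilizer G a ⊓ stabilizer G b : Subgroup G) := by
  classical
  haveI : Fact (Nat.Prime 2) := ⟨Nat.prime_two⟩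
  have hn3 := zass_three_le_card hZ
  have hfpf := fun {x : G} (hx : orderOf x = 2) (c : Ω) => zass_invol_fpf hZ hab hodd hn hx c
  have hswap : ∀ {x : G}, orderOf x = 2 → ∀ c : Ω, x • (x • c) = c := by
    intro x hx c
    rw [← mul_smul, invol_mul_self hx, one_smul]
  -- existence of an involution mapping `c` to `d`
  have hcardG := card_eq_of_two_pretransitive hZ.2.1 hab
  rw [Nat.card_eq_fintype_card (α := Ω)] at hcardG
  have h2G : 2 ∣ Nat.card G := by
    rw [hcardG]
    apply Dvd.dvd.mul_right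
    obtain ⟨k, hk⟩ := hn
    rw [hk]
    exact ⟨(k + k) * k - k, by
      have : k ≤ (k + k) * k := by nlinarith
      zify [this, (by nlinarith : k + k ≤ (k + k) * (k + k))]
      ring⟩
  obtain ⟨t, ht⟩ := exists_prime_orderOf_dvd_card' 2 h2G
  have hexists : ∀ c d : Ω, c ≠ d → ∃ t₀ : G, orderOf t₀ = 2 ∧ t₀ • c = d := by
    intro c d hcd
    obtain ⟨g, hgc, hgd⟩ := zass_two_trans hZ (Ne.symm (hfpf ht c)) hcd
    refine ⟨g * t * g⁻¹, by rw [orderOf_conj_eq]; exact ht, ?_⟩
    rw [mul_smul, mul_smul, inv_smul_eq_iff.mpr hgc.symm, hgd]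
  refine ⟨?_, ?_⟩
  · intro x y hx hy
    have hxa : a ≠ x • a := Ne.symm (hfpf hx a)
    have hya : a ≠ y • a := Ne.symm (hfpf hy a)
    obtain ⟨g, hga, hgd⟩ := zass_two_trans hZ hya hxa
    have hginv : g⁻¹ • a = a := inv_smul_eq_iff.mpr hga.symm
    have hy' : orderOf (g * y * g⁻¹) = 2 := by rw [orderOf_conj_eq]; exact hy
    have hy'a : (g * y * g⁻¹) • a = x • a := by rw [mul_smul, mul_smul, hginv, hgd]
    have hmem : x * (g * y * g⁻¹) ∈ (stabilizer G a ⊓ stabilizer G (x • a) : Subgroup G) := by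
      constructor
      · show (x * (g * y * g⁻¹)) • a = a
        rw [mul_smul, hy'a, hswap hx]
      · show (x * (g * y * g⁻¹)) • (x • a) = x • a
        have h1 : (g * y * g⁻¹) • (x • a) = a := by rw [← hy'a, hswap hy']
        rw [mul_smul, h1]
    have hord : orderOf (x * (g * y * g⁻¹)) ∣
        Nat.card (stabilizer G a ⊓ stabilizer G b : Subgroup G) := by
      rw [← zass_card_two_stab hZ hab hxa]
      have := orderOf_dvd_natCard
        (⟨_, hmem⟩ : (stabilizer G a ⊓ stabilizer G (x • a) : Subgroup G))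
      rwa [← Subgroup.orderOf_coe] at this
    have hoddo : Odd (orderOf (x * (g * y * g⁻¹))) := Odd.of_dvd_nat hodd hord
    obtain ⟨k, hk⟩ := hoddo
    have hc := invol_conj_of_odd (invol_mul_self hx) (invol_mul_self hy') (k := k)
      (by rw [← hk, pow_orderOf_eq_one])
    refine ⟨g⁻¹ * (x * (g * y * g⁻¹)) ^ k, ?_⟩
    calc g⁻¹ * (x * (g * y * g⁻¹)) ^ k * x * (g⁻¹ * (x * (g * y * g⁻¹)) ^ k)⁻¹
        = g⁻¹ * ((x * (g * y * g⁻¹)) ^ k * x * ((x * (g * y * g⁻¹)) ^ k)⁻¹) * g := by group
      _ = g⁻¹ * (g * y * g⁻¹) * g := by rw [hc]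
      _ = y := by group
  · -- the count: fibres of `t ↦ t • a`
    haveI : Fintype {d : Ω // d ≠ a} := Fintype.ofFinite _
    let f : {x : G // orderOf x = 2} → {d : Ω // d ≠ a} := fun x => ⟨x.1 • a, hfpf x.2 a⟩
    have hfib : ∀ p : {d : Ω // d ≠ a}, Nat.card {x // f x = p} =
        Nat.card (stabilizer G a ⊓ stabilizer G b : Subgroup G) := by
      rintro ⟨d, hd⟩
      rw [← zass_card_two_stab hZ hab (Ne.symm hd)]
      obtain ⟨t₀, ht₀, ht₀a⟩ := hexists a d (Ne.symm hd)
      have ht₀d : t₀ • d = a := by rw [← ht₀a, hswap ht₀]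
      have ht₀2 := invol_mul_self ht₀
      have ht₀inv : t₀⁻¹ = t₀ := inv_eq_of_mul_eq_one_left ht₀2
      apply Nat.card_congr
      refine ⟨fun x => ⟨x.1.1 * t₀, ?_⟩, fun w => ⟨⟨w.1 * t₀, ?_⟩, ?_⟩, ?_, ?_⟩
      · have hxa : x.1.1 • a = d := congrArg Subtype.val x.2
        have hxd : x.1.1 • d = a := by
          have h5 := hswap x.1.2 a
          rw [hxa] at h5
          exact h5
        exact ⟨by show (x.1.1 * t₀) • a = a; rw [mul_smul, ht₀a, hxd],
          by show (x.1.1 * t₀) • d = d; rw [mul_smul, ht₀d, hxa]⟩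
      · have h1 := hinv a d (Ne.symm hd) t₀ ht₀a ht₀d w.1 w.2
        rw [ht₀inv] at h1
        apply orderOf_eq_prime
        · rw [pow_two]
          calc w.1 * t₀ * (w.1 * t₀) = w.1 * (t₀ * w.1 * t₀) := by group
            _ = 1 := by rw [h1, mul_inv_cancel]
        · intro h2
          have h3 : (w.1 * t₀) • a = d := by
            rw [mul_smul, ht₀a]; exact w.2.2
          rw [h2, one_smul] at h3
          exact hd h3.symm
      · apply Subtype.ext
        show (w.1 * t₀) • a = d
        rw [mul_smul, ht₀a]; exact w.2.2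
      · intro x
        apply Subtype.ext
        apply Subtype.ext
        show x.1.1 * t₀ * t₀ = x.1.1
        rw [mul_assoc, ht₀2, mul_one]
      · intro w
        apply Subtype.ext
        show w.1 * t₀ * t₀ = w.1
        rw [mul_assoc, ht₀2, mul_one]
    rw [← Nat.card_congr (Equiv.sigmaFiberEquiv f), Nat.card_sigma,
      Finset.sum_congr rfl (fun x _ => hfib x), Finset.sum_const, Finset.card_univ, smul_eq_mul,
      ← Nat.card_eq_fintype_card]
    have h1 := card_ne_add_one a
    rw [Nat.card_eq_fintype_card (α := Ω)] at h1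
    congr 1
    omega

end Cfsg.Agent.H19
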