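import Mathlib
import Cfsg.Agent.H19.ZassInvCount
import Cfsg.Agent.S0883

/-!
# helper19: strongly real classes; classes of a simple Zassenhaus group missing the kernel

* `card_strongly_real_classes` : `I² + I ≤ #(classes of products of two non-commuting
  involutions) * |G| + I * c`, where `I` is the number of involutions and `c` the common order
  of their centralizers
* `zass_card_classes_missing_kernel` : at least `e` classes of `G` contain no element of `H`
-/

set_option autoImplicit false
set_option linter.style.haveILetI false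
set_option linter.unusedSectionVars false

namespace Cfsg.Agent.H19

open Cfsg MulAction
open scoped Pointwise

universe u v

theorem card_strongly_real_classes {G : Type*} [Group G] [Fintype G] [DecidableEq G] (c : ℕ)
    (hc : ∀ x : G, orderOf x = 2 → Nat.card (Subgroup.centralizer ({x} : Set G)) = c)
    (Inv : Finset G) (hInv : Inv = (Finset.univ : Finset G).filter (fun x => orderOf x = 2))
    (P : Finset (G × G)) (hP : P = (Inv ×ˢ Inv).filter (fun p => p.1 * p.2 ≠ p.2 * p.1)) :
    Inv.card * Inv.card + Inv.card ≤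
      (P.image (fun p => ConjClasses.mk (p.1 * p.2))).card * Fintype.card G + Inv.card * c := by
  classical
  have hmemInv : ∀ x : G, x ∈ Inv ↔ orderOf x = 2 := by
    intro x; rw [hInv, Finset.mem_filter]; simp
  -- (1) fibres of `P → classes` have at most `|G|` elements
  have h1 : P.card ≤ Fintype.card G * (P.image (fun p => ConjClasses.mk (p.1 * p.2))).card := by
    apply Finset.card_le_mul_card_image
    intro C hC
    obtain ⟨p₀, -, rfl⟩ := Finset.mem_image.mp hC
    set u₀ := p₀.1 * p₀.2 with hu₀
    let g : G → G := fun u => if h : ∃ c, c * u₀ * c⁻¹ = u then h.choose else 1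
    have hg : ∀ u, ConjClasses.mk u = ConjClasses.mk u₀ → g u * u₀ * (g u)⁻¹ = u := by
      intro u hu
      have h : ∃ c, c * u₀ * c⁻¹ = u := by
        have := ConjClasses.mk_eq_mk_iff_isConj.mp hu.symm
        exact isConj_iff.mp this
      simp only [g, dif_pos h]
      exact h.choose_spec
    rw [← Finset.card_univ]
    apply Finset.card_le_card_of_injOn (fun p => p.1 * g (p.1 * p.2))
    · intro p _; exact Finset.mem_univ _
    · intro p hp p' hp'
      simp only [Finset.coe_filter, Set.mem_ofPred_eq] at hp hp'
      obtain ⟨hpP, hpC⟩ := hp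
      obtain ⟨hpP', hpC'⟩ := hp'
      rw [hP, Finset.mem_filter, Finset.mem_product, hmemInv, hmemInv] at hpP hpP'
      intro heq
      have key : ∀ q : G × G, orderOf q.1 = 2 → orderOf q.2 = 2 →
          ConjClasses.mk (q.1 * q.2) = ConjClasses.mk u₀ →
          q.1 * g (q.1 * q.2) * u₀⁻¹ * (q.1 * g (q.1 * q.2))⁻¹ = q.1 * q.2 := by
        intro q hq1 hq2 hq
        have hx2 := invol_mul_self hq1
        have hy2 := invol_mul_self hq2
        have hxinv : q.1⁻¹ = q.1 := inv_eq_of_mul_eq_one_left hx2
        have hyinv : q.2⁻¹ = q.2 := inv_eq_of_mul_eq_one_left hy2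
        have h3 := hg _ hq
        have h4 : g (q.1 * q.2) * u₀⁻¹ * (g (q.1 * q.2))⁻¹ =
            (g (q.1 * q.2) * u₀ * (g (q.1 * q.2))⁻¹)⁻¹ := by group
        rw [h3] at h4
        calc q.1 * g (q.1 * q.2) * u₀⁻¹ * (q.1 * g (q.1 * q.2))⁻¹
            = q.1 * (g (q.1 * q.2) * u₀⁻¹ * (g (q.1 * q.2))⁻¹) * q.1⁻¹ := by group
          _ = q.1 * (q.1 * q.2)⁻¹ * q.1⁻¹ := by rw [h4]
          _ = q.1 * q.2 := by rw [mul_inv_rev, hxinv, hyinv, mul_assoc, mul_assoc, hx2, mul_one]
      have hu : p.1 * p.2 = p'.1 * p'.2 := by
        rw [← key p hpP.1.1 hpP.1.2 hpC, ← key p' hpP'.1.1 hpP'.1.2 hpC']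
        have heq' : p.1 * g (p.1 * p.2) = p'.1 * g (p'.1 * p'.2) := heq
        rw [heq']
      have hx : p.1 = p'.1 := by
        have heq' : p.1 * g (p.1 * p.2) = p'.1 * g (p'.1 * p'.2) := heq
        rw [hu] at heq'
        exact mul_right_cancel heq'
      have hy : p.2 = p'.2 := by
        rw [hx] at hu
        exact mul_left_cancel hu
      exact Prod.ext hx hy
  -- (2) for each involution, few involutions commute with it
  have h2 : ∀ x ∈ Inv, Inv.card + 1 ≤ (Inv.filter (fun y => x * y ≠ y * x)).card + c := by
    intro x hx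
    rw [hmemInv] at hx
    have h3 := Finset.card_filter_add_card_filter_not (s := Inv) (fun y => x * y ≠ y * x)
    have h4 : (Inv.filter (fun y => ¬ x * y ≠ y * x)).card + 1 ≤ c := by
      rw [← hc x hx, Nat.card_eq_fintype_card, Fintype.card_subtype]
      have h5 : insert (1 : G) (Inv.filter (fun y => ¬ x * y ≠ y * x)) ⊆
          (Finset.univ : Finset G).filter (fun y => y ∈ Subgroup.centralizer ({x} : Set G)) := by
        intro y hy
        rw [Finset.mem_insert] at hy
        rw [Finset.mem_filter]
        refine ⟨Finset.mem_univ _, ?_⟩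
        rcases hy with rfl | hy
        · exact Subgroup.one_mem _
        · rw [Finset.mem_filter] at hy
          rw [Subgroup.mem_centralizer_iff]
          intro w hw
          rw [Set.mem_singleton_iff] at hw
          rw [hw]
          exact not_not.mp hy.2
      have h6 : (1 : G) ∉ Inv.filter (fun y => ¬ x * y ≠ y * x) := by
        intro h7
        rw [Finset.mem_filter, hmemInv, orderOf_one] at h7
        exact absurd h7.1 (by norm_num)
      have h8 := Finset.card_le_card h5
      rw [Finset.card_insert_of_notMem h6] at h8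
      exact h8
    omega
  have h3 : P.card = ∑ x ∈ Inv, (Inv.filter (fun y => x * y ≠ y * x)).card := by
    rw [hP, Finset.card_filter, Finset.sum_product]
    apply Finset.sum_congr rfl
    intro x _
    rw [Finset.card_filter]
  have h4 : ∑ x ∈ Inv, (Inv.card + 1) ≤ ∑ x ∈ Inv, ((Inv.filter (fun y => x * y ≠ y * x)).card + c) :=
    Finset.sum_le_sum h2
  rw [Finset.sum_const, Finset.sum_add_distrib, Finset.sum_const, ← h3, smul_eq_mul, smul_eq_mul] at h4
  calc Inv.card * Inv.card + Inv.card = Inv.card * (Inv.card + 1) := by ring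
    _ ≤ P.card + Inv.card * c := h4
    _ ≤ (P.image (fun p => ConjClasses.mk (p.1 * p.2))).card * Fintype.card G + Inv.card * c := by
        rw [mul_comm (Finset.card _) (Fintype.card G)]
        exact Nat.add_le_add_right h1 _

theorem invol_commute_of_mul_self {G : Type*} [Group G] {x y : G} (hx : x * x = 1)
    (hy : y * y = 1) (hxy : (x * y) * (x * y) = 1) : x * y = y * x := by
  have h6 : x * y = (x * y)⁻¹ := eq_inv_of_mul_eq_one_left hxy
  rw [h6, mul_inv_rev, inv_eq_of_mul_eq_one_left hx, inv_eq_of_mul_eq_one_left hy]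

variable {G : Type u} {Ω : Type v} [Group G] [MulAction G Ω]

/-- In a simple Zassenhaus group with odd two-point stabilizers of order `e`, `2e < h - 1`, at
least `e` conjugacy classes contain no element of the Frobenius kernel `H` of `G_a`. -/
theorem zass_card_classes_missing_kernel [Finite G] [Fintype Ω] [IsSimpleGroup G]
    (hZ : IsZassenhausGroup G Ω) {a b : Ω} (hab : a ≠ b) (h e : ℕ)
    (hh : Fintype.card Ω = h + 1)
    (he : Nat.card (stabilizer G a ⊓ stabilizer G b : Subgroup G) = e) (hodd : Odd e)
    (hlt : 2 * e < h - 1) (H : Subgroup G) (hHa : H ≤ stabilizer G a)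
    (hHcard : Nat.card H + 1 = Fintype.card Ω)
    (hHfix : ∀ u ∈ H, u ≠ 1 → ∀ c : Ω, u • c = c → c = a) :
    e ≤ Nat.card {C : ConjClasses G // ∀ g : G, ConjClasses.mk g = C → g ∉ H} := by
  classical
  haveI : Fintype G := Fintype.ofFinite G
  have hodd' : Odd (Nat.card (stabilizer G a ⊓ stabilizer G b : Subgroup G)) := by
    rw [he]; exact hodd
  set Inv := (Finset.univ : Finset G).filter (fun x => orderOf x = 2) with hInv
  set P := (Inv ×ˢ Inv).filter (fun p => p.1 * p.2 ≠ p.2 * p.1) with hP
  set K := P.image (fun p => ConjClasses.mk (p.1 * p.2)) with hK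
  have hmemInv : ∀ x : G, x ∈ Inv ↔ orderOf x = 2 := by
    intro x; rw [hInv, Finset.mem_filter]; simp
  have hIcard : Nat.card {x : G // orderOf x = 2} = Inv.card := by
    rw [Nat.card_eq_fintype_card, Fintype.card_subtype]
  have hcardG := card_eq_of_two_pretransitive hZ.2.1 hab
  rw [Nat.card_eq_fintype_card (α := Ω), hh, he, Nat.card_eq_fintype_card] at hcardG
  have hGG : ((h + 1) * (h + 1) - (h + 1)) * e = (h + 1) * h * e := by
    congr 1
    rw [Nat.mul_succ (h + 1) h]
    omega
  rw [hGG] at hcardG
  -- every class in K misses H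
  have hmiss : ∀ C ∈ K, ∀ g : G, ConjClasses.mk g = C → g ∉ H := by
    intro C hC g hg hgH
    obtain ⟨p, hp, rfl⟩ := Finset.mem_image.mp hC
    rw [hP, Finset.mem_filter, Finset.mem_product, hmemInv, hmemInv] at hp
    obtain ⟨⟨hx, hy⟩, hne⟩ := hp
    obtain ⟨c, hc⟩ := isConj_iff.mp (ConjClasses.mk_eq_mk_iff_isConj.mp hg)
    have hx2 := invol_mul_self hx
    have hy2 := invol_mul_self hy
    have hg1 : g ≠ 1 := by
      rintro rfl
      rw [mul_one, mul_inv_cancel] at hc
      apply hne
      have h7 : p.2 = p.1⁻¹ := eq_inv_of_mul_eq_one_right hc.symm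
      rw [h7, mul_inv_cancel, inv_mul_cancel]
    have hgord := Cfsg.Agent.S0883.result hZ hab h e hh he hodd hlt H hHa hHcard hHfix g hgH hg1
      (c⁻¹ * p.1 * c) (c⁻¹ * p.2 * c)
      (by have h8 := orderOf_conj_eq c⁻¹ p.1; rw [inv_inv] at h8; rw [h8]; exact hx)
      (by have h8 := orderOf_conj_eq c⁻¹ p.2; rw [inv_inv] at h8; rw [h8]; exact hy)
      (by
        calc c⁻¹ * p.1 * c * (c⁻¹ * p.2 * c) = c⁻¹ * (p.1 * p.2) * c := by group
          _ = c⁻¹ * (c * g * c⁻¹) * c := by rw [hc]
          _ = g := by group)
    have hg2 := invol_mul_self hgord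
    have h5 : (p.1 * p.2) * (p.1 * p.2) = 1 := by
      rw [← hc]
      calc c * g * c⁻¹ * (c * g * c⁻¹) = c * (g * g) * c⁻¹ := by group
        _ = 1 := by rw [hg2]; group
    exact hne (invol_commute_of_mul_self hx2 hy2 h5)
  have hsub : K ⊆ (Finset.univ : Finset (ConjClasses G)).filter
      (fun C => ∀ g : G, ConjClasses.mk g = C → g ∉ H) := by
    intro C hC
    rw [Finset.mem_filter]
    exact ⟨Finset.mem_univ _, hmiss C hC⟩
  rw [Nat.card_eq_fintype_card, Fintype.card_subtype]
  -- the main inequality, given conjugacy of involutions and the count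
  have hmain : ∀ (hconj : ∀ x y : G, orderOf x = 2 → orderOf y = 2 → ∃ g, g * x * g⁻¹ = y),
      0 < Inv.card → Inv.card * Inv.card + Inv.card ≤ K.card * Fintype.card G + Fintype.card G := by
    intro hconj hpos
    obtain ⟨z, hz⟩ := Finset.card_pos.mp hpos
    rw [hmemInv] at hz
    have hIc : ∀ x : G, orderOf x = 2 →
        Inv.card * Nat.card (Subgroup.centralizer ({x} : Set G)) = Fintype.card G := by
      intro x hx
      have := card_invol_mul_card_centralizer x hx (fun y hy => hconj x y hx hy)
      rw [hIcard, Nat.card_eq_fintype_card (α := G)] at this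
      exact this
    have hc : ∀ x : G, orderOf x = 2 → Nat.card (Subgroup.centralizer ({x} : Set G)) =
        Nat.card (Subgroup.centralizer ({z} : Set G)) := by
      intro x hx
      exact Nat.eq_of_mul_eq_mul_left hpos ((hIc x hx).trans (hIc z hz).symm)
    have := card_strongly_real_classes _ hc Inv hInv P hP
    rw [hIc z hz] at this
    exact this
  rcases Nat.even_or_odd h with hev | hod
  · have hn : Odd (Fintype.card Ω) := by rw [hh]; exact hev.add_one
    have hI : Inv.card = e * (h + 1) := by
      rw [← hIcard, zass_card_invol_of_odd_card hZ hab hodd' hn, he, hh]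
    have hpos : 0 < Inv.card := by
      rw [hI]
      have : 0 < e := hodd.pos
      positivity
    have hm := hmain (fun x y hx hy => zass_invol_isConj_of_odd_card hZ hab hodd' hn hx hy) hpos
    refine le_trans ?_ (Finset.card_le_card hsub)
    by_contra hk
    push Not at hk
    have h1 : Inv.card * (Inv.card + 1) ≤ Inv.card * (h * e) := by
      calc Inv.card * (Inv.card + 1) = Inv.card * Inv.card + Inv.card := by ring
        _ ≤ K.card * Fintype.card G + Fintype.card G := hm
        _ = (K.card + 1) * Fintype.card G := by ring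
        _ ≤ e * Fintype.card G := Nat.mul_le_mul_right _ hk
        _ = Inv.card * (h * e) := by rw [hcardG, hI]; ring
    have h2 := Nat.le_of_mul_le_mul_left h1 hpos
    rw [hI] at h2
    have h3 : e * (h + 1) = h * e + e := by ring
    omega
  · have hn : Even (Fintype.card Ω) := by rw [hh]; exact hod.add_one
    have hinv : ∀ c d : Ω, c ≠ d → ∀ s : G, s • c = d → s • d = c →
        ∀ w ∈ (stabilizer G c ⊓ stabilizer G d : Subgroup G), s * w * s⁻¹ = w⁻¹ := by
      intro c d hcd
      have hodd'' : Odd (Nat.card (stabilizer G c ⊓ stabilizer G d : Subgroup G)) := by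
        rw [zass_card_two_stab hZ hab hcd]; exact hodd'
      exact (zass_swap_inverts hZ hcd hodd''
        (fun q _ _ A _ f _ x => zass_hom_trivial hZ f x)).2
    obtain ⟨hconj, hcount⟩ := zass_invol_of_even_card hZ hab hodd' hn hinv
    have hI : Inv.card = h * e := by
      rw [← hIcard, hcount, he, hh, Nat.add_sub_cancel]
    have hepos : 0 < e := hodd.pos
    have hhpos : 0 < h := hod.pos
    have hpos : 0 < Inv.card := by
      rw [hI]; positivity
    have hm := hmain hconj hpos
    obtain ⟨z, hz⟩ := Finset.card_pos.mp hpos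
    rw [hmemInv] at hz
    -- the class of involutions
    have hzK : ConjClasses.mk z ∉ K := by
      intro hzK
      obtain ⟨p, hp, hpz⟩ := Finset.mem_image.mp hzK
      rw [hP, Finset.mem_filter, Finset.mem_product, hmemInv, hmemInv] at hp
      obtain ⟨⟨hx, hy⟩, hne⟩ := hp
      obtain ⟨c, hc⟩ := isConj_iff.mp (ConjClasses.mk_eq_mk_iff_isConj.mp hpz)
      have h5 : orderOf (p.1 * p.2) = 2 := by
        have h6 := orderOf_conj_eq c (p.1 * p.2)
        rw [hc] at h6
        rw [← h6]; exact hz
      exact hne (invol_commute_of_mul_self (invol_mul_self hx) (invol_mul_self hy)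
        (invol_mul_self h5))
    have hzmiss : ∀ g : G, ConjClasses.mk g = ConjClasses.mk z → g ∉ H := by
      intro g hg hgH
      obtain ⟨c, hc⟩ := isConj_iff.mp (ConjClasses.mk_eq_mk_iff_isConj.mp hg)
      have h5 : orderOf g = 2 := by
        have h6 := orderOf_conj_eq c g
        rw [hc] at h6
        rw [← h6]; exact hz
      have h7 : orderOf g ∣ Nat.card H := by
        have := orderOf_dvd_natCard (⟨g, hgH⟩ : H)
        rwa [← Subgroup.orderOf_coe] at this
      rw [h5] at h7
      have h8 : Nat.card H = h := by omega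
      rw [h8] at h7
      exact (Nat.not_even_iff_odd.mpr hod) (even_iff_two_dvd.mpr h7)
    have hsub' : insert (ConjClasses.mk z) K ⊆ (Finset.univ : Finset (ConjClasses G)).filter
        (fun C => ∀ g : G, ConjClasses.mk g = C → g ∉ H) := by
      intro C hC
      rw [Finset.mem_insert] at hC
      rcases hC with rfl | hC
      · rw [Finset.mem_filter]
        exact ⟨Finset.mem_univ _, hzmiss⟩
      · exact hsub hC
    refine le_trans ?_ (Finset.card_le_card hsub')
    rw [Finset.card_insert_of_notMem hzK]
    by_contra hk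
    push Not at hk
    have hGI : Fintype.card G = Inv.card * (h + 1) := by rw [hcardG, hI]; ring
    have h1 : Inv.card * (Inv.card + 1) ≤ Inv.card * ((K.card + 1) * (h + 1)) := by
      calc Inv.card * (Inv.card + 1) = Inv.card * Inv.card + Inv.card := by ring
        _ ≤ K.card * Fintype.card G + Fintype.card G := hm
        _ = Inv.card * ((K.card + 1) * (h + 1)) := by rw [hGI]; ring
    have h2 := Nat.le_of_mul_le_mul_left h1 hpos
    have h3 : (K.card + 1) * (h + 1) ≤ (e - 1) * (h + 1) :=
      Nat.mul_le_mul_right _ (by omega)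
    have h4 : (e - 1) * (h + 1) + (h + 1) = e * (h + 1) := by
      rw [← Nat.succ_mul, Nat.succ_eq_add_one, Nat.sub_add_cancel hepos]
    have h5 : e * (h + 1) = h * e + e := by ring
    rw [hI] at h2
    omega

end Cfsg.Agent.H19
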