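import Mathlib
import Cfsg.Agent.H19.FeitAb5
import Cfsg.Agent.H19.ZassReal
import Cfsg.Agent.H19.ZassSwap2

/-!
# Feit's theorem for Zassenhaus groups with abelian Frobenius kernel (helper19)

`zass_feit_abelian` : `G` a simple Zassenhaus group on `Ω`, two-point stabilizers of odd order `e`,
`K` the (abelian) Frobenius kernel of `G_a`.  Then `|Ω| - 2 ≤ 2 e`.
-/

set_option autoImplicit false
set_option linter.style.haveILetI false
set_option linter.unusedSectionVars false

namespace Cfsg.Agent.H19

open Cfsg MulAction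

universe u v

variable {G : Type u} {Ω : Type v} [Group G] [MulAction G Ω]

/-- The normalizer of the Frobenius kernel of `G_a` is `G_a`. -/
theorem zass_normalizer_kernel [Finite G] [Fintype Ω] (hZ : IsZassenhausGroup G Ω) (a : Ω)
    (K : Subgroup G) (hKa : K ≤ stabilizer G a) (hKcard : Nat.card K + 1 = Fintype.card Ω)
    (hKfix : ∀ u ∈ K, u ≠ 1 → ∀ c : Ω, u • c = c → c = a) :
    Subgroup.normalizer (K : Set G) = stabilizer G a := by
  have hn3 := zass_three_le_card hZ
  apply le_antisymm
  · intro g hg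
    obtain ⟨k, hk, hk1⟩ : ∃ k ∈ K, k ≠ 1 := by
      by_contra hcon
      push Not at hcon
      have : K = ⊥ := (Subgroup.eq_bot_iff_forall K).mpr hcon
      rw [this, Subgroup.card_bot] at hKcard
      omega
    have h1 : g * k * g⁻¹ ∈ K := (Subgroup.mem_normalizer_iff.mp hg k).mp hk
    have h2 : g * k * g⁻¹ ≠ 1 := by
      intro hc
      apply hk1
      have h4 : k = g⁻¹ * (g * k * g⁻¹) * g := by group
      rw [h4, hc]
      group
    have h3 : (g * k * g⁻¹) • (g • a) = g • a := by
      rw [mul_smul, mul_smul, inv_smul_smul, (hKa hk : k • a = a)]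
    exact hKfix _ h1 h2 _ h3
  · intro g hg
    rw [Subgroup.mem_normalizer_iff]
    intro k
    constructor
    · intro hk
      exact zass_conj_mem_kernel hZ a K hKa hKcard hKfix g hg k hk
    · intro hk
      have hg' : g⁻¹ • a = a := by
        have := (stabilizer G a).inv_mem hg
        exact this
      have := zass_conj_mem_kernel hZ a K hKa hKcard hKfix g⁻¹ hg' _ hk
      have h4 : g⁻¹ * (g * k * g⁻¹) * g⁻¹⁻¹ = k := by group
      rwa [h4] at this

/-- **Feit's theorem**, abelian kernel: in a simple Zassenhaus group whose two-point stabilizers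
have odd order `e` and whose point stabilizers have abelian Frobenius kernel, `|Ω| - 2 ≤ 2 e`. -/
theorem zass_feit_abelian [Finite G] [Fintype Ω] [IsSimpleGroup G] (hZ : IsZassenhausGroup G Ω)
    {a b : Ω} (hab : a ≠ b) (e : ℕ)
    (he : Nat.card (stabilizer G a ⊓ stabilizer G b : Subgroup G) = e) (hodd : Odd e)
    (K : Subgroup G) (hKa : K ≤ stabilizer G a) (hKcard : Nat.card K + 1 = Fintype.card Ω)
    (hKfix : ∀ u ∈ K, u ≠ 1 → ∀ c : Ω, u • c = c → c = a)
    (hKab : ∀ x ∈ K, ∀ y ∈ K, x * y = y * x) :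
    Fintype.card Ω - 2 ≤ 2 * e := by
  classical
  haveI : Fintype G := Fintype.ofFinite G
  by_contra hcon
  push Not at hcon
  obtain ⟨h, hh⟩ : ∃ h, h = Nat.card K := ⟨_, rfl⟩
  have hn3 := zass_three_le_card hZ
  have hΩ : Fintype.card Ω = h + 1 := by omega
  have hlt2 : 2 * e < h - 1 := by omega
  -- e ≥ 3
  have he3 : 3 ≤ e := by
    obtain ⟨w, hw, hw1⟩ := zass_exists_ne_one hZ hab
    have h1 : 1 < Nat.card (stabilizer G a ⊓ stabilizer G b : Subgroup G) := by
      rw [Finite.one_lt_card_iff_nontrivial]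
      exact ⟨⟨⟨w, hw⟩, 1, fun hc => hw1 (congrArg Subtype.val hc)⟩⟩
    rw [he] at h1
    obtain ⟨m, hm⟩ := hodd
    omega
  have hNeq := zass_normalizer_kernel hZ a K hKa hKcard hKfix
  have hTI : ∀ g : G, g ∉ Subgroup.normalizer (K : Set G) → ∀ k ∈ K, g * k * g⁻¹ ∈ K → k = 1 := by
    intro g hg k hk hgk
    by_contra hk1
    apply hg
    rw [hNeq]
    have h2 : g * k * g⁻¹ ≠ 1 := by
      intro hc
      apply hk1
      have h4 : k = g⁻¹ * (g * k * g⁻¹) * g := by group
      rw [h4, hc]
      group
    have h3 : (g * k * g⁻¹) • (g • a) = g • a := by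
      rw [mul_smul, mul_smul, inv_smul_smul, (hKa hk : k • a = a)]
    exact hKfix _ hgk h2 _ h3
  have hC : ∀ k ∈ K, k ≠ 1 → Subgroup.centralizer ({k} : Set G) ≤ K := by
    intro k hk hk1 x hx
    have hxk : k * x = x * k := Subgroup.mem_centralizer_iff.mp hx k rfl
    have hka : k • a = a := hKa hk
    have hxa : x • a = a := by
      apply hKfix k hk hk1
      rw [← mul_smul, hxk, mul_smul, hka]
    by_cases hx1 : x = 1
    · rw [hx1]
      exact K.one_mem
    apply zass_mem_kernel hZ a K hKa hKcard hKfix x hxa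
    intro c hc
    by_contra hca
    apply hx1
    have h1 : x • (k • c) = k • c := by
      rw [← mul_smul, ← hxk, mul_smul, hc]
    have h2 : k • c ≠ a := by
      intro h
      rw [← hka] at h
      exact hca (smul_left_cancel k h)
    have h3 : k • c ≠ c := fun h => hca (hKfix k hk hk1 c h)
    exact hZ.2.2.1 x a c (k • c) (Ne.symm hca) (Ne.symm h3) (Ne.symm h2) hxa hc h1
  have hN : Nat.card (Subgroup.normalizer (K : Set G)) = h * e := by
    rw [hNeq, zass_card_stab hZ hab, he, hΩ]
    simp
  have hG : Nat.card G = (h + 1) * (h * e) := by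
    have h1 := card_eq_of_two_pretransitive hZ.2.1 hab
    rw [Nat.card_eq_fintype_card (α := Ω), hΩ, he] at h1
    rw [h1]
    have h2 : (h + 1) * (h + 1) - (h + 1) = (h + 1) * h := by
      rw [Nat.mul_succ (h + 1) h]
      omega
    rw [h2, mul_assoc]
  have hh0 : 0 < h := by omega
  have hlt : K < Subgroup.normalizer (K : Set G) := by
    refine lt_of_le_of_ne Subgroup.le_normalizer ?_
    intro hc
    have h1 : Nat.card K = Nat.card (Subgroup.normalizer (K : Set G)) := by rw [← hc]
    rw [hN, ← hh] at h1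
    have h2 : h * 3 ≤ h * e := Nat.mul_le_mul_left h he3
    omega
  have hcl := zass_card_classes_missing_kernel hZ hab h e hΩ he hodd hlt2 K hKa hKcard hKfix
  have := feit_abelian_core K hTI hC hKab h e hh.symm hN hG hh0 hlt he3 hcl
  omega

end Cfsg.Agent.H19
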