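import Mathlib
import Cfsg.Agent.S0738
import Cfsg.Agent.S0739
import Cfsg.Agent.S0740
import Cfsg.Agent.S0741
import Cfsg.Agent.H19.ZId4
import Cfsg.Agent.H19.ZId5
import Cfsg.Agent.H19.ZassFeit
import Cfsg.Agent.H19.ZassInd

/-!
# Identification of Zassenhaus groups with `PSL(2, q)`: assembly (helper19)

* `zass_psl_of_half` : a Zassenhaus group with `2 |G_ab| = |Ω| - 2` in which all elements swapping
  `a, b` are involutions (one of them with the right fixed point behaviour) is `PSL(2, q)`;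
* `zass_psl_even`, `zass_psl_odd` : the cases `|G_ab|` even / odd (and `G` simple);
* `zass_sharp3` : `|G_ab| = |Ω| - 2` gives a sharply 3-transitive group;
* `zass_odd_dichotomy` : `|G_ab|` odd and abelian kernel: `|G_ab| = |Ω| - 2`, or
  `2 |G_ab| = |Ω| - 2` and `G` is simple (Feit's theorem applied to a simple normal subgroup).
-/

set_option autoImplicit false
set_option linter.style.haveILetI false
set_option linter.unusedSectionVars false

namespace Cfsg.Agent.H19

open Cfsg MulAction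

universe u v

variable {G : Type u} {Ω : Type v} [Group G] [MulAction G Ω]

set_option maxHeartbeats 1000000 in
theorem zass_psl_of_half [Finite G] [Fintype Ω] (hZ : IsZassenhausGroup G Ω) {a b : Ω}
    (hab : a ≠ b)
    (hd : 2 * Nat.card (stabilizer G a ⊓ stabilizer G b : Subgroup G) = Fintype.card Ω - 2)
    (F : Subgroup G) (hFle : F ≤ stabilizer G a) (hFcard : Nat.card F + 1 = Fintype.card Ω)
    (hFfix : ∀ u ∈ F, u ≠ 1 → ∀ c : Ω, u • c = c → c = a)
    (hswap : ∀ s : G, s • a = b → s • b = a → s * s = 1)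
    (t : G) (hta : t • a = b) (htb : t • b = a)
    (htfix : (Even (Nat.card (stabilizer G a ⊓ stabilizer G b : Subgroup G)) ∧
        ∃ c : Ω, t • c = c) ∨
      (Odd (Nat.card (stabilizer G a ⊓ stabilizer G b : Subgroup G)) ∧ ∀ c : Ω, t • c ≠ c)) :
    ∃ (p f : ℕ) (K : Type) (_ : Field K) (_ : Fintype K), p.Prime ∧ p ≠ 2 ∧
      Fintype.card K = p ^ f ∧ Fintype.card Ω = p ^ f + 1 ∧ ringChar K ≠ 2 ∧
      Nonempty (G ≃* Matrix.ProjectiveSpecialLinearGroup (Fin 2) K) := by
  have hn3 := zass_three_le_card hZ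
  have hreg := regular_of_kernel a F hFle hFcard hFfix
  have hFn : ∀ g ∈ stabilizer G a, ∀ u ∈ F, g * u * g⁻¹ ∈ F :=
    fun g hg u hu => zass_conj_mem_kernel hZ a F hFle hFcard hFfix g hg u hu
  obtain ⟨hcomm, p, f, hp, -, hcard⟩ := Cfsg.Agent.S0738.result hZ hab (by omega) F hFle
    (subgroupOf_normal_of_conj_mem F hFn) hreg
  have hFab : ∀ u ∈ F, ∀ w ∈ F, u * w = w * u := by
    intro u hu w hw
    have h := hcomm.is_comm.comm (⟨u, hu⟩ : F) ⟨w, hw⟩
    exact congrArg Subtype.val h
  haveI := hZ.1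
  have hcF : Nat.card F = p ^ f := by omega
  obtain ⟨K, iF, iFt, hK, hiso⟩ := zass_id hZ.2.2.1 hab F hFle hFn hreg hFab p f hp hcF
    (by omega) hswap t hta htb htfix
  refine ⟨p, f, K, iF, iFt, hp, ?_, by rw [hK, hcF], hcard, ?_, hiso⟩
  · rintro rfl
    rcases f with _ | f
    · rw [pow_zero] at hcard
      omega
    · have h : 2 ^ (f + 1) = 2 * 2 ^ f := by ring
      omega
  · intro hc
    have h1 := FiniteField.even_card_iff_char_two.mp hc
    rw [hK] at h1
    omega

theorem zass_psl_even [Finite G] [Fintype Ω] (hZ : IsZassenhausGroup G Ω) {a b : Ω}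
    (hab : a ≠ b)
    (heven : Even (Nat.card (stabilizer G a ⊓ stabilizer G b : Subgroup G)))
    (hd : 2 * Nat.card (stabilizer G a ⊓ stabilizer G b : Subgroup G) = Fintype.card Ω - 2)
    (F : Subgroup G) (hFle : F ≤ stabilizer G a) (hFcard : Nat.card F + 1 = Fintype.card Ω)
    (hFfix : ∀ u ∈ F, u ≠ 1 → ∀ c : Ω, u • c = c → c = a) :
    ∃ (p f : ℕ) (K : Type) (_ : Field K) (_ : Fintype K), p.Prime ∧ p ≠ 2 ∧
      Fintype.card K = p ^ f ∧ Fintype.card Ω = p ^ f + 1 ∧ ringChar K ≠ 2 ∧
      Nonempty (G ≃* Matrix.ProjectiveSpecialLinearGroup (Fin 2) K) := by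
  classical
  haveI : Fintype G := Fintype.ofFinite G
  have hn3 := zass_three_le_card hZ
  haveI : Fact (Nat.Prime 2) := ⟨Nat.prime_two⟩
  obtain ⟨τ, hτ⟩ := exists_prime_orderOf_dvd_card'
    (G := (stabilizer G a ⊓ stabilizer G b : Subgroup G)) 2 heven.two_dvd
  have hτ1 : (τ : G) ≠ 1 := by
    intro h
    have h1 : τ = 1 := Subtype.ext h
    rw [h1, orderOf_one] at hτ
    omega
  have hτ2 : (τ : G) * τ = 1 := by
    have h := pow_orderOf_eq_one τ
    rw [hτ, pow_two] at h
    exact congrArg Subtype.val h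
  have hτmem : (τ : G) ∈ stabilizer G a ⊓ stabilizer G b := τ.2
  rw [Subgroup.mem_inf, mem_stabilizer_iff, mem_stabilizer_iff] at hτmem
  have h2' : ∀ x y x' y' : Ω, x ≠ y → x' ≠ y' → ∃ g : G, g • x = x' ∧ g • y = y' :=
    fun x y x' y' hxy hxy' => MulAction.is_two_pretransitive_iff.mp hZ.2.1 hxy hxy'
  have key := Cfsg.Agent.S0741.involution_count h2' hZ.2.2.1 hab hτ1 hτ2 hτmem.1 hτmem.2
  have hswap : ∀ s : G, s • a = b → s • b = a → s * s = 1 := by
    intro s hsa hsb
    refine swap_invol_of_count ?_ s hsa hsb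
    omega
  have hNeven : Even (Fintype.card Ω) :=
    ⟨Nat.card (stabilizer G a ⊓ stabilizer G b : Subgroup G) + 1, by omega⟩
  obtain ⟨t, ht2, hta, htb, htfix⟩ := (Cfsg.Agent.S0740.result hZ hab).2.2 hNeven heven
  have hc : ∃ c : Ω, t • c = c := by
    have h1 : Nonempty (fixedBy Ω t) := by
      rw [← Finite.card_pos_iff]
      omega
    obtain ⟨⟨c, hc⟩⟩ := h1
    exact ⟨c, hc⟩
  exact zass_psl_of_half hZ hab hd F hFle hFcard hFfix hswap t hta htb (Or.inl ⟨heven, hc⟩)

theorem zass_psl_odd [Finite G] [Fintype Ω] [IsSimpleGroup G] (hZ : IsZassenhausGroup G Ω)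
    {a b : Ω} (hab : a ≠ b)
    (hodd : Odd (Nat.card (stabilizer G a ⊓ stabilizer G b : Subgroup G)))
    (hd : 2 * Nat.card (stabilizer G a ⊓ stabilizer G b : Subgroup G) = Fintype.card Ω - 2)
    (F : Subgroup G) (hFle : F ≤ stabilizer G a) (hFcard : Nat.card F + 1 = Fintype.card Ω)
    (hFfix : ∀ u ∈ F, u ≠ 1 → ∀ c : Ω, u • c = c → c = a) :
    ∃ (p f : ℕ) (K : Type) (_ : Field K) (_ : Fintype K), p.Prime ∧ p ≠ 2 ∧
      Fintype.card K = p ^ f ∧ Fintype.card Ω = p ^ f + 1 ∧ ringChar K ≠ 2 ∧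
      Nonempty (G ≃* Matrix.ProjectiveSpecialLinearGroup (Fin 2) K) := by
  classical
  have hn3 := zass_three_le_card hZ
  have hcG := card_eq_of_two_pretransitive hZ.2.1 hab
  rw [Nat.card_eq_fintype_card (α := Ω)] at hcG
  have hnil : ∀ q : ℕ, q.Prime →
      q ∣ Nat.card (stabilizer G a ⊓ stabilizer G b : Subgroup G) →
      ¬ ∃ N : Subgroup G, N.Normal ∧ N.index = q ^ (Nat.card G).factorization q := by
    rintro q hq hqd ⟨N, hN, hidx⟩
    have hqG : q ∣ Nat.card G := hqd.trans (Subgroup.card_subgroup_dvd_card _)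
    rcases hN.eq_bot_or_eq_top with h | h
    · subst h
      rw [Subgroup.index_bot] at hidx
      have h1 : Fintype.card Ω ∣ q ^ (Nat.card G).factorization q := by
        rw [← hidx, hcG]
        refine Dvd.dvd.mul_right ?_ _
        have h2 : Fintype.card Ω * Fintype.card Ω - Fintype.card Ω =
            Fintype.card Ω * (Fintype.card Ω - 1) := by
          rw [Nat.mul_sub, mul_one]
        rw [h2]
        exact Dvd.intro _ rfl
      have h3 : (Fintype.card Ω - 1) ∣ q ^ (Nat.card G).factorization q := by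
        rw [← hidx, hcG]
        refine Dvd.dvd.mul_right ?_ _
        have h2 : Fintype.card Ω * Fintype.card Ω - Fintype.card Ω =
            Fintype.card Ω * (Fintype.card Ω - 1) := by
          rw [Nat.mul_sub, mul_one]
        rw [h2]
        exact Dvd.intro_left _ rfl
      obtain ⟨i, -, hi⟩ := (Nat.dvd_prime_pow hq).mp h1
      obtain ⟨j, -, hj⟩ := (Nat.dvd_prime_pow hq).mp h3
      have hi0 : i ≠ 0 := by
        rintro rfl
        rw [pow_zero] at hi
        omega
      have hj0 : j ≠ 0 := by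
        rintro rfl
        rw [pow_zero] at hj
        omega
      have hq1 : q ∣ Fintype.card Ω := by
        rw [hi]
        exact dvd_pow_self q hi0
      have hq2 : q ∣ Fintype.card Ω - 1 := by
        rw [hj]
        exact dvd_pow_self q hj0
      have hq3 : q ∣ Fintype.card Ω - (Fintype.card Ω - 1) := Nat.dvd_sub hq1 hq2
      have h4 : Fintype.card Ω - (Fintype.card Ω - 1) = 1 := by omega
      rw [h4] at hq3
      exact hq.one_lt.ne' (Nat.dvd_one.mp hq3)
    · subst h
      rw [Subgroup.index_top] at hidx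
      have h1 : 0 < (Nat.card G).factorization q :=
        hq.factorization_pos_of_dvd Nat.card_pos.ne' hqG
      have h2 : q ∣ q ^ (Nat.card G).factorization q := dvd_pow_self q h1.ne'
      rw [← hidx] at h2
      exact hq.one_lt.ne' (Nat.dvd_one.mp h2)
  obtain ⟨-, -, hinv⟩ := Cfsg.Agent.S0739.result hZ hab hodd hnil
  obtain ⟨⟨t, ht2, hta, htb⟩, -, -⟩ := Cfsg.Agent.S0740.result hZ hab
  have htt : t * t = 1 := invol_mul_self ht2
  have hswap : ∀ s : G, s • a = b → s • b = a → s * s = 1 := by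
    intro s hsa hsb
    have hh : t⁻¹ * s ∈ (stabilizer G a ⊓ stabilizer G b : Subgroup G) := by
      rw [Subgroup.mem_inf, mem_stabilizer_iff, mem_stabilizer_iff]
      constructor
      · rw [mul_smul, hsa, inv_smul_eq_iff, hta]
      · rw [mul_smul, hsb, inv_smul_eq_iff, htb]
    have h1 := hinv t hta htb _ hh
    have h2 : s * t⁻¹ = s⁻¹ * t := by
      have h3 : t * (t⁻¹ * s) * t⁻¹ = s * t⁻¹ := by group
      rw [← h3, h1]
      group
    calc s * s = s * (s * t⁻¹) * t := by group
      _ = s * (s⁻¹ * t) * t := by rw [h2]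
      _ = t * t := by group
      _ = 1 := htt
  have htfix : ∀ c : Ω, t • c ≠ c := by
    intro c hc
    obtain ⟨c', hc'⟩ := Fintype.exists_ne_of_one_lt_card (by omega : 1 < Fintype.card Ω) c
    have h1 := zass_card_stab hZ (Ne.symm hc')
    have h2 := zass_card_two_stab hZ hab (Ne.symm hc')
    have h3 : orderOf t ∣ Nat.card (stabilizer G c) := by
      have h4 := orderOf_dvd_natCard (⟨t, hc⟩ : stabilizer G c)
      rwa [← Subgroup.orderOf_coe] at h4
    rw [ht2, h1, h2] at h3
    have h4 : Odd ((Fintype.card Ω - 1) *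
        Nat.card (stabilizer G a ⊓ stabilizer G b : Subgroup G)) :=
      Odd.mul ⟨Nat.card (stabilizer G a ⊓ stabilizer G b : Subgroup G), by omega⟩ hodd
    exact (Nat.not_even_iff_odd.mpr h4) (even_iff_two_dvd.mpr h3)
  exact zass_psl_of_half hZ hab hd F hFle hFcard hFfix hswap t hta htb (Or.inr ⟨hodd, htfix⟩)

theorem zass_half_or_full [Finite G] [Fintype Ω] (hZ : IsZassenhausGroup G Ω) {a b : Ω}
    (hab : a ≠ b)
    (h : Fintype.card Ω - 2 ≤ 2 * Nat.card (stabilizer G a ⊓ stabilizer G b : Subgroup G)) :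
    Nat.card (stabilizer G a ⊓ stabilizer G b : Subgroup G) = Fintype.card Ω - 2 ∨
      2 * Nat.card (stabilizer G a ⊓ stabilizer G b : Subgroup G) = Fintype.card Ω - 2 := by
  have hn3 := zass_three_le_card hZ
  obtain ⟨k, hk⟩ := zass_card_modEq hZ hab
  obtain ⟨d, hd⟩ : ∃ d, d = Nat.card (stabilizer G a ⊓ stabilizer G b : Subgroup G) := ⟨_, rfl⟩
  rw [← hd] at hk h ⊢
  have hdpos : 0 < d := by
    rw [hd]
    exact Nat.card_pos
  have hk2 : 3 ≤ k := by
    by_contra hlt
    push Not at hlt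
    have h1 : k * d ≤ 2 * d := Nat.mul_le_mul_right d (by omega)
    omega
  obtain ⟨k', rfl⟩ : ∃ k', k = k' + 3 := ⟨k - 3, by omega⟩
  have h1 : (k' + 3) * d = k' * d + 3 * d := by ring
  have hk' : k' ≤ 1 := by
    by_contra hlt
    push Not at hlt
    have h2 : 2 * d ≤ k' * d := Nat.mul_le_mul_right d hlt
    omega
  rcases (by omega : k' = 0 ∨ k' = 1) with h2 | h2
  · left
    subst h2
    omega
  · right
    subst h2
    omega

theorem zass_sharp3 [Finite G] [Fintype Ω] (hZ : IsZassenhausGroup G Ω) {a b : Ω}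
    (hab : a ≠ b)
    (hd : Nat.card (stabilizer G a ⊓ stabilizer G b : Subgroup G) = Fintype.card Ω - 2) :
    IsMultiplyPretransitive G Ω 3 ∧ ∀ t : Fin 3 ↪ Ω, stabilizer G t = ⊥ := by
  classical
  haveI : Fintype G := Fintype.ofFinite G
  have hn3 := zass_three_le_card hZ
  have h3 := hZ.2.2.1
  constructor
  · have htr : ∀ y₀ y₁ : Ω, y₀ ≠ y₁ → ∀ z w : Ω, z ≠ y₀ → z ≠ y₁ → w ≠ y₀ → w ≠ y₁ →
        ∃ h : G, h • y₀ = y₀ ∧ h • y₁ = y₁ ∧ h • z = w := by
      intro y₀ y₁ hy z w hz0 hz1 hw0 hw1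
      obtain ⟨Hf, hHf⟩ : ∃ Hf : Finset G, Hf = Finset.univ.filter
          (fun g : G => g ∈ (stabilizer G y₀ ⊓ stabilizer G y₁ : Subgroup G)) := ⟨_, rfl⟩
      have hHfmem : ∀ g, g ∈ Hf ↔ g • y₀ = y₀ ∧ g • y₁ = y₁ := by
        intro g
        rw [hHf]
        simp [Subgroup.mem_inf, mem_stabilizer_iff]
      have hHfcard : Hf.card = Fintype.card Ω - 2 := by
        rw [hHf, ← hd, ← zass_card_two_stab hZ hab hy, Nat.card_eq_fintype_card,
          Fintype.card_subtype]
      have hinj : Set.InjOn (fun g : G => g • z) (Hf : Set G) := by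
        intro g hg g' hg' hgg
        obtain ⟨hg0, hg1⟩ := (hHfmem g).mp hg
        obtain ⟨hg0', hg1'⟩ := (hHfmem g').mp hg'
        have hgg' : g • z = g' • z := hgg
        have h1 : g'⁻¹ * g = 1 := by
          refine h3 _ y₀ y₁ z hy (Ne.symm hz1) (Ne.symm hz0) ?_ ?_ ?_
          · rw [mul_smul, hg0, inv_smul_eq_iff, hg0']
          · rw [mul_smul, hg1, inv_smul_eq_iff, hg1']
          · rw [mul_smul, hgg', inv_smul_smul]
        exact (inv_mul_eq_one.mp h1).symm
      have hcS : ((Finset.univ.erase y₀).erase y₁).card = Fintype.card Ω - 2 := by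
        rw [Finset.card_erase_of_mem (Finset.mem_erase.mpr ⟨hy.symm, Finset.mem_univ _⟩),
          Finset.card_erase_of_mem (Finset.mem_univ _), Finset.card_univ]
        omega
      have himg : Hf.image (fun g => g • z) = (Finset.univ.erase y₀).erase y₁ := by
        apply Finset.eq_of_subset_of_card_le
        · intro c hc
          obtain ⟨g, hg, rfl⟩ := Finset.mem_image.mp hc
          obtain ⟨hg0, hg1⟩ := (hHfmem g).mp hg
          rw [Finset.mem_erase, Finset.mem_erase]
          refine ⟨?_, ?_, Finset.mem_univ _⟩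
          · intro h
            have h1 : g • z = g • y₁ := by rw [h, hg1]
            exact hz1 (smul_left_cancel g h1)
          · intro h
            have h1 : g • z = g • y₀ := by rw [h, hg0]
            exact hz0 (smul_left_cancel g h1)
        · rw [Finset.card_image_of_injOn hinj, hHfcard, hcS]
      have hw : w ∈ (Finset.univ.erase y₀).erase y₁ := by
        rw [Finset.mem_erase, Finset.mem_erase]
        exact ⟨hw1, hw0, Finset.mem_univ _⟩
      rw [← himg] at hw
      obtain ⟨g, hg, hgz⟩ := Finset.mem_image.mp hw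
      exact ⟨g, ((hHfmem g).mp hg).1, ((hHfmem g).mp hg).2, hgz⟩
    refine ⟨fun x y => ?_⟩
    have hx01 : x 0 ≠ x 1 := x.injective.ne (by decide)
    have hx02 : x 0 ≠ x 2 := x.injective.ne (by decide)
    have hx12 : x 1 ≠ x 2 := x.injective.ne (by decide)
    have hy01 : y 0 ≠ y 1 := y.injective.ne (by decide)
    have hy02 : y 0 ≠ y 2 := y.injective.ne (by decide)
    have hy12 : y 1 ≠ y 2 := y.injective.ne (by decide)
    obtain ⟨g, hg0, hg1⟩ := zass_two_trans hZ hx01 hy01
    have hz0 : g • x 2 ≠ y 0 := by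
      intro h
      rw [← hg0] at h
      exact hx02 (smul_left_cancel g h).symm
    have hz1 : g • x 2 ≠ y 1 := by
      intro h
      rw [← hg1] at h
      exact hx12 (smul_left_cancel g h).symm
    obtain ⟨h, hh0, hh1, hh2⟩ := htr (y 0) (y 1) hy01 (g • x 2) (y 2) hz0 hz1
      (Ne.symm hy02) (Ne.symm hy12)
    refine ⟨h * g, ?_⟩
    apply DFunLike.ext
    intro i
    rw [Function.Embedding.smul_apply, mul_smul]
    fin_cases i
    · change h • g • x 0 = y 0
      rw [hg0, hh0]
    · change h • g • x 1 = y 1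
      rw [hg1, hh1]
    · change h • g • x 2 = y 2
      exact hh2
  · intro t
    rw [eq_bot_iff]
    intro g hg
    rw [mem_stabilizer_iff] at hg
    have hgi : ∀ i, g • t i = t i := fun i => by
      have h1 := congrArg (fun e : Fin 3 ↪ Ω => e i) hg
      rwa [Function.Embedding.smul_apply] at h1
    rw [Subgroup.mem_bot]
    exact h3 g (t 0) (t 1) (t 2) (t.injective.ne (by decide)) (t.injective.ne (by decide))
      (t.injective.ne (by decide)) (hgi 0) (hgi 1) (hgi 2)

end Cfsg.Agent.H19
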