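import Mathlib
import Cfsg.Agent.H19.ZId5
import Cfsg.Agent.H19.ZassFeit
import Cfsg.Agent.H19.ZassInd

/-!
# Zassenhaus groups with abelian kernel and two-point stabilizers of odd order (helper19)

`zass_odd_dichotomy` : `|G_ab| = |Ω| - 2`, or `2 |G_ab| = |Ω| - 2` and `G` is simple
(Feit's theorem applied to a simple normal subgroup).
-/

set_option autoImplicit false
set_option linter.style.haveILetI false
set_option linter.unusedSectionVars false

namespace Cfsg.Agent.H19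

open Cfsg MulAction

universe u v

variable {G : Type u} {Ω : Type v} [Group G] [MulAction G Ω]

set_option maxHeartbeats 1000000 in
theorem zass_odd_dichotomy [Finite G] [Fintype Ω] (hZ : IsZassenhausGroup G Ω) {a b : Ω}
    (hab : a ≠ b)
    (hodd : Odd (Nat.card (stabilizer G a ⊓ stabilizer G b : Subgroup G)))
    (F : Subgroup G) (hFle : F ≤ stabilizer G a) (hFcard : Nat.card F + 1 = Fintype.card Ω)
    (hFfix : ∀ u ∈ F, u ≠ 1 → ∀ c : Ω, u • c = c → c = a)
    (hFab : ∀ u ∈ F, ∀ w ∈ F, u * w = w * u) :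
    Nat.card (stabilizer G a ⊓ stabilizer G b : Subgroup G) = Fintype.card Ω - 2 ∨
    (2 * Nat.card (stabilizer G a ⊓ stabilizer G b : Subgroup G) = Fintype.card Ω - 2 ∧
      IsSimpleGroup G) := by
  classical
  have hZ' := hZ
  obtain ⟨hfaith, h2, h3, ⟨g₀, hg₀1, a₀, b₀, hab₀, hg₀a, hg₀b⟩, hnr⟩ := hZ
  haveI := hfaith
  have hn3 := zass_three_le_card hZ'
  have h2' : ∀ x y x' y' : Ω, x ≠ y → x' ≠ y' → ∃ g : G, g • x = x' ∧ g • y = y' :=
    fun x y x' y' hxy hxy' => MulAction.is_two_pretransitive_iff.mp h2 hxy hxy'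
  haveI : Nontrivial G := ⟨⟨g₀, 1, hg₀1⟩⟩
  have htrans : ∀ N : Subgroup G, N.Normal → N ≠ ⊥ → ∀ y z : Ω, ∃ m ∈ N, m • y = z :=
    fun N hN hN1 => normal_transitive_of_two_trans h2' N hN hN1
  have hnoreg : ∀ N : Subgroup G, N.Normal → N ≠ ⊥ →
      ∃ c : Ω, ∃ n ∈ N, n ≠ 1 ∧ n • c = c := by
    intro N hN hN1
    have hpre : IsPretransitive N Ω := ⟨fun y z => by
      obtain ⟨m, hm, hmy⟩ := htrans N hN hN1 y z
      exact ⟨⟨m, hm⟩, hmy⟩⟩
    obtain ⟨c, hc⟩ := hnr N hN hpre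
    obtain ⟨n, hn, hn1⟩ : ∃ n ∈ stabilizer N c, n ≠ 1 := by
      by_contra hcon
      push Not at hcon
      exact hc ((Subgroup.eq_bot_iff_forall _).mpr hcon)
    exact ⟨c, n, n.2, fun h => hn1 (Subtype.ext h), hn⟩
  obtain ⟨M, hMn, hM1, hMs⟩ := exists_simple_normal_of_two_trans h2 hnoreg
  haveI := hMs
  have hMtr := htrans M hMn hM1
  -- a non-trivial element of `M` fixing `a`
  obtain ⟨x₁, hx₁M, hx₁1, hx₁a⟩ : ∃ x₁ ∈ M, x₁ ≠ 1 ∧ x₁ • a = a := by
    obtain ⟨c, n, hn, hn1, hnc⟩ := hnoreg M hMn hM1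
    obtain ⟨g, hg, hgc⟩ := hMtr c a
    refine ⟨g * n * g⁻¹, hMn.conj_mem n hn g, ?_, ?_⟩
    · intro h
      apply hn1
      have h4 : n = g⁻¹ * (g * n * g⁻¹) * g := by group
      rw [h4, h]
      group
    · rw [mul_smul, mul_smul, ← hgc, inv_smul_smul, hnc]
  -- the stabilizer of `a` in `M` is not contained in `F`
  have hB : ∃ m ∈ M, m • a = a ∧ m ∉ F := by
    by_contra hcon
    push Not at hcon
    have hx₁F : x₁ ∈ F := hcon x₁ hx₁M hx₁a
    have hord : orderOf x₁ ≠ 1 := fun h => hx₁1 (orderOf_eq_one_iff.mp h)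
    obtain ⟨p, hp, hpd⟩ := Nat.exists_prime_and_dvd hord
    have hpF : p ∣ Nat.card F := by
      have h1 := orderOf_dvd_natCard (⟨x₁, hx₁F⟩ : F)
      rw [← Subgroup.orderOf_coe] at h1
      exact hpd.trans h1
    have hpM : p ∣ Nat.card M := by
      have h1 := orderOf_dvd_natCard (⟨x₁, hx₁M⟩ : M)
      rw [← Subgroup.orderOf_coe] at h1
      exact hpd.trans h1
    have hpΩ : ¬ p ∣ Nat.card Ω := by
      rw [Nat.card_eq_fintype_card, ← hFcard]
      intro h
      have h5 : p ∣ 1 := (Nat.dvd_add_right hpF).mp h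
      exact hp.one_lt.ne' (Nat.dvd_one.mp h5)
    refine simple_no_unique_fix (M := M) (Ω := Ω) ?_ ?_ ?_ p hp hpM hpΩ a b hab
    · intro y z
      obtain ⟨m, hm, hmy⟩ := hMtr y z
      exact ⟨⟨m, hm⟩, hmy⟩
    · intro m hm1 c c' hc hc'
      by_contra hcc
      obtain ⟨g, hg, hgc⟩ := hMtr c a
      have hc2 : (m : G) • c = c := hc
      have hc2' : (m : G) • c' = c' := hc'
      have hxa : (g * (m : G) * g⁻¹) • a = a := by
        rw [mul_smul, mul_smul, ← hgc, inv_smul_smul, hc2]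
      have hxF := hcon _ (hMn.conj_mem m m.2 g) hxa
      have hx1 : g * (m : G) * g⁻¹ ≠ 1 := by
        intro h
        apply hm1
        apply Subtype.ext
        have h4 : (m : G) = g⁻¹ * (g * (m : G) * g⁻¹) * g := by group
        rw [h4, h]
        simp
      have hxc' : (g * (m : G) * g⁻¹) • (g • c') = g • c' := by
        rw [mul_smul, mul_smul, inv_smul_smul, hc2']
      have h5 := hFfix _ hxF hx1 (g • c') hxc'
      rw [← hgc] at h5
      exact hcc (smul_left_cancel g h5).symm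
    · intro c m n hm hn
      obtain ⟨g, hg, hgc⟩ := hMtr c a
      have hm2 : (m : G) • c = c := hm
      have hn2 : (n : G) • c = c := hn
      have hma : (g * (m : G) * g⁻¹) • a = a := by
        rw [mul_smul, mul_smul, ← hgc, inv_smul_smul, hm2]
      have hna : (g * (n : G) * g⁻¹) • a = a := by
        rw [mul_smul, mul_smul, ← hgc, inv_smul_smul, hn2]
      have h5 := hFab _ (hcon _ (hMn.conj_mem m m.2 g) hma) _ (hcon _ (hMn.conj_mem n n.2 g) hna)
      apply Subtype.ext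
      have h6 : (m : G) * n = g⁻¹ * ((g * m * g⁻¹) * (g * n * g⁻¹)) * g := by group
      have h7 : (n : G) * m = g⁻¹ * ((g * n * g⁻¹) * (g * m * g⁻¹)) * g := by group
      rw [Subgroup.coe_mul, Subgroup.coe_mul, h6, h7, h5]
  obtain ⟨m₀, hm₀M, hm₀a, hm₀F⟩ := hB
  have hm₀1 : m₀ ≠ 1 := fun h => hm₀F (h ▸ F.one_mem)
  obtain ⟨c₀, hc₀a, hm₀c⟩ : ∃ c₀ : Ω, c₀ ≠ a ∧ m₀ • c₀ = c₀ := by
    by_contra hcon
    push Not at hcon
    exact hm₀F (zass_mem_kernel hZ' a F hFle hFcard hFfix m₀ hm₀a (fun c hc => by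
      by_contra hca
      exact hcon c hca hc))
  have hFa : ∀ u ∈ F, u • a = a := fun u hu => hFle hu
  have hFn : ∀ g : G, g • a = a → ∀ u ∈ F, g * u * g⁻¹ ∈ F :=
    fun g hg u hu => zass_conj_mem_kernel hZ' a F hFle hFcard hFfix g hg u hu
  -- `F ≤ M`
  have hFM : F ≤ M := by
    have hmaps : ∀ u : F, (u : G) * m₀ * (u : G)⁻¹ * m₀⁻¹ ∈ F ⊓ M := by
      intro u
      constructor
      · have h1 := hFn m₀ hm₀a _ (F.inv_mem u.2)
        have h2 : (u : G) * m₀ * (u : G)⁻¹ * m₀⁻¹ = (u : G) * (m₀ * (u : G)⁻¹ * m₀⁻¹) := by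
          group
        rw [h2]
        exact F.mul_mem u.2 h1
      · exact M.mul_mem (hMn.conj_mem m₀ hm₀M u) (M.inv_mem hm₀M)
    have hinj : Function.Injective (fun u : F => (⟨_, hmaps u⟩ : (F ⊓ M : Subgroup G))) := by
      intro u w huw
      have h1 : (u : G) * m₀ * (u : G)⁻¹ * m₀⁻¹ = (w : G) * m₀ * (w : G)⁻¹ * m₀⁻¹ :=
        congrArg Subtype.val huw
      have h3' : (u : G) * m₀ * (u : G)⁻¹ = (w : G) * m₀ * (w : G)⁻¹ := mul_right_cancel h1
      have h2 : ((w : G)⁻¹ * u) * m₀ = m₀ * ((w : G)⁻¹ * u) := by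
        calc ((w : G)⁻¹ * u) * m₀ = (w : G)⁻¹ * ((u : G) * m₀ * (u : G)⁻¹) * u := by group
          _ = (w : G)⁻¹ * ((w : G) * m₀ * (w : G)⁻¹) * u := by rw [h3']
          _ = m₀ * ((w : G)⁻¹ * u) := by group
      by_contra hne
      have hv1 : (w : G)⁻¹ * u ≠ 1 := fun h => hne (Subtype.ext (inv_mul_eq_one.mp h).symm)
      have hvF : (w : G)⁻¹ * u ∈ F := F.mul_mem (F.inv_mem w.2) u.2
      have hvc : ((w : G)⁻¹ * u) • c₀ ≠ c₀ := fun h => hc₀a (hFfix _ hvF hv1 c₀ h)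
      have hva : ((w : G)⁻¹ * u) • c₀ ≠ a := by
        intro h
        have h4 : ((w : G)⁻¹ * u) • c₀ = ((w : G)⁻¹ * u) • a := by rw [h, hFa _ hvF]
        exact hc₀a (smul_left_cancel _ h4)
      have hm₀v : m₀ • (((w : G)⁻¹ * u) • c₀) = ((w : G)⁻¹ * u) • c₀ := by
        rw [← mul_smul, ← h2, mul_smul, hm₀c]
      exact hm₀1 (h3 m₀ a c₀ (((w : G)⁻¹ * u) • c₀) (Ne.symm hc₀a) (Ne.symm hvc) (Ne.symm hva)
        hm₀a hm₀c hm₀v)
    have hcard : Nat.card F ≤ Nat.card (F ⊓ M : Subgroup G) :=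
      Nat.card_le_card_of_injective _ hinj
    have heq : F ⊓ M = F := Subgroup.eq_of_le_of_card_ge inf_le_left hcard
    rw [← heq]
    exact inf_le_right
  -- `M` is a Zassenhaus group
  have hZM : IsZassenhausGroup M Ω := by
    refine ⟨⟨fun {m n} h => Subtype.ext (hfaith.eq_of_smul_eq_smul h)⟩, ?_, ?_, ?_, ?_⟩
    · rw [is_two_pretransitive_iff]
      intro x y x' y' hxy hxy'
      obtain ⟨m₁, hm₁, hm₁x⟩ := hMtr x x'
      obtain ⟨m₂, hm₂, hm₂a⟩ := hMtr x' a
      have hy1 : m₂ • m₁ • y ≠ a := by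
        intro h
        rw [← hm₂a, ← hm₁x] at h
        exact hxy (smul_left_cancel m₁ (smul_left_cancel m₂ h)).symm
      have hy2 : m₂ • y' ≠ a := by
        intro h
        rw [← hm₂a] at h
        exact hxy' (smul_left_cancel m₂ h).symm
      obtain ⟨u, hu, huy⟩ := zass_kernel_regular a F hFle hFcard hFfix _ _ hy1 hy2
      refine ⟨⟨m₂⁻¹ * u * m₂ * m₁,
        M.mul_mem (M.mul_mem (M.mul_mem (M.inv_mem hm₂) (hFM hu)) hm₂) hm₁⟩, ?_, ?_⟩
      · change (m₂⁻¹ * u * m₂ * m₁) • x = x'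
        rw [mul_smul, mul_smul, mul_smul, hm₁x, hm₂a, hFa u hu, inv_smul_eq_iff, hm₂a]
      · change (m₂⁻¹ * u * m₂ * m₁) • y = y'
        rw [mul_smul, mul_smul, mul_smul, huy, inv_smul_smul]
    · intro g x y z hxy hyz hxz hx hy hz
      exact Subtype.ext (h3 g x y z hxy hyz hxz hx hy hz)
    · exact ⟨⟨m₀, hm₀M⟩, fun h => hm₀1 (congrArg Subtype.val h), a, c₀, Ne.symm hc₀a, hm₀a,
        hm₀c⟩
    · intro N hN hNtr
      rcases hN.eq_bot_or_eq_top with h | h
      · exfalso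
        subst h
        obtain ⟨n, hn⟩ := hNtr.exists_smul_eq a b
        have h1 : (n : M) = 1 := Subgroup.mem_bot.mp n.2
        have h4 : ((n : M) : G) • a = b := hn
        rw [h1, OneMemClass.coe_one, one_smul] at h4
        exact hab h4
      · subst h
        refine ⟨a, ?_⟩
        intro hbot
        have hmem : (⟨⟨m₀, hm₀M⟩, Subgroup.mem_top _⟩ : (⊤ : Subgroup M)) ∈
            stabilizer (⊤ : Subgroup M) a := hm₀a
        rw [hbot, Subgroup.mem_bot] at hmem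
        exact hm₀1 (congrArg (fun z : (⊤ : Subgroup M) => ((z : M) : G)) hmem)
  obtain ⟨d₀, hd₀⟩ : ∃ d₀, d₀ = Nat.card (stabilizer M a ⊓ stabilizer M b : Subgroup M) :=
    ⟨_, rfl⟩
  obtain ⟨d, hd⟩ : ∃ d, d = Nat.card (stabilizer G a ⊓ stabilizer G b : Subgroup G) :=
    ⟨_, rfl⟩
  have hdvd : d₀ ∣ d := by
    rw [hd₀, hd]
    let ψ : (stabilizer M a ⊓ stabilizer M b : Subgroup M) →*
        (stabilizer G a ⊓ stabilizer G b : Subgroup G) :=
      { toFun := fun m => ⟨((m : M) : G),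
          Subgroup.mem_inf.mpr ⟨(Subgroup.mem_inf.mp m.2).1, (Subgroup.mem_inf.mp m.2).2⟩⟩
        map_one' := rfl
        map_mul' := fun _ _ => rfl }
    refine Subgroup.card_dvd_of_injective ψ (fun m n h => ?_)
    have h1 : ((m : M) : G) = ((n : M) : G) :=
      congrArg (fun z : (stabilizer G a ⊓ stabilizer G b : Subgroup G) => (z : G)) h
    exact Subtype.ext (Subtype.ext h1)
  rw [← hd] at hodd ⊢
  have hodd₀ : Odd d₀ := Odd.of_dvd_nat hodd hdvd
  have hKa : F.subgroupOf M ≤ stabilizer M a := by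
    intro m hm
    exact hFle (Subgroup.mem_subgroupOf.mp hm)
  have hKcard : Nat.card (F.subgroupOf M) + 1 = Fintype.card Ω := by
    rw [Nat.card_congr (Subgroup.subgroupOfEquivOfLe hFM).toEquiv, hFcard]
  have hKfix : ∀ u ∈ F.subgroupOf M, u ≠ 1 → ∀ c : Ω, u • c = c → c = a := by
    intro u hu hu1 c hc
    exact hFfix u (Subgroup.mem_subgroupOf.mp hu) (fun h => hu1 (Subtype.ext h)) c hc
  have hKab : ∀ x ∈ F.subgroupOf M, ∀ y ∈ F.subgroupOf M, x * y = y * x := by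
    intro x hx y hy
    exact Subtype.ext (hFab x (Subgroup.mem_subgroupOf.mp hx) y (Subgroup.mem_subgroupOf.mp hy))
  have hfeit := zass_feit_abelian hZM hab d₀ hd₀.symm hodd₀ (F.subgroupOf M) hKa hKcard hKfix
    hKab
  obtain ⟨k, hk⟩ := zass_card_modEq hZ' hab
  rw [← hd] at hk
  obtain ⟨j, hj⟩ := hdvd
  have hd₀pos : 0 < d₀ := by
    rw [hd₀]
    exact Nat.card_pos
  have hdpos : 0 < d := by
    rw [hd]
    exact Nat.card_pos
  have hk2 : 3 ≤ k := by
    by_contra hlt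
    push Not at hlt
    have h1 : k * d ≤ 2 * d := Nat.mul_le_mul_right d (by omega)
    omega
  obtain ⟨k', rfl⟩ : ∃ k', k = k' + 2 := ⟨k - 2, by omega⟩
  have hN : Fintype.card Ω - 2 = k' * d := by
    have h1 : (k' + 2) * d = k' * d + 2 * d := by ring
    omega
  have h8 : k' * j ≤ 2 := by
    have h9 : d₀ * (k' * j) ≤ d₀ * 2 := by
      calc d₀ * (k' * j) = k' * d := by rw [hj]; ring
        _ = Fintype.card Ω - 2 := hN.symm
        _ ≤ 2 * d₀ := hfeit
        _ = d₀ * 2 := by ring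
    exact Nat.le_of_mul_le_mul_left h9 hd₀pos
  have hjodd : Odd j := by
    rw [hj] at hodd
    exact (Nat.odd_mul.mp hodd).2
  have hk'pos : 0 < k' := by omega
  have hj1 : j = 1 := by
    obtain ⟨i, hi⟩ := hjodd
    rcases Nat.eq_zero_or_pos i with h | h
    · omega
    · exfalso
      have h1 : 1 * 3 ≤ k' * j := Nat.mul_le_mul hk'pos (by omega)
      omega
  have hk'le : k' ≤ 2 := by
    rw [hj1, mul_one] at h8
    exact h8
  rcases (by omega : k' = 1 ∨ k' = 2) with h | h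
  · left
    rw [hN, h, one_mul]
  · right
    refine ⟨by rw [hN, h], ?_⟩
    have hdd : d₀ = d := by rw [hj, hj1, mul_one]
    have hcG := card_eq_of_two_pretransitive h2 hab
    have hcM := card_eq_of_two_pretransitive hZM.2.1 hab
    have hMtop : M = ⊤ := by
      apply Subgroup.eq_top_of_card_eq
      rw [hcM, hcG, ← hd₀, ← hd, hdd]
    subst hMtop
    exact Subgroup.topEquiv.symm.isSimpleGroup

end Cfsg.Agent.H19
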