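import Mathlib

/-!
# Field structure from a free action of an abelian group: general form (helper19)

`exists_field_of_free_action'` : an abelian group `H` acting freely on a finite abelian group `V`
of prime power order `p ^ f < p (|H| + 1)` makes `V` the additive group of a finite field on which
`H` acts by multiplications (variant of `exists_field_of_free_action` in `ZId1`, which has
`|V| = 2|H| + 1`; this one covers Singer cycles, `|V| = |H| + 1`).
-/

set_option autoImplicit false
set_option linter.style.haveILetI false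
set_option linter.unusedSectionVars false

namespace Cfsg.Agent.H19

universe u v

theorem exists_field_of_free_action' {V : Type u} [AddCommGroup V] [Finite V] {H : Type v}
    [CommGroup H] [Finite H] (ρ : H →* Module.End ℤ V)
    (hfree : ∀ h : H, h ≠ 1 → ∀ w : V, w ≠ 0 → ρ h w ≠ w)
    (p f : ℕ) (hp : p.Prime) (hV : Nat.card V = p ^ f) (hV1 : 1 < Nat.card V)
    (hd : Nat.card V < p * (Nat.card H + 1)) :
    ∃ (K : Type) (_ : Field K) (_ : Fintype K) (φ : V ≃+ K) (σ : H → K),
      ∀ (h : H) (w : V), φ (ρ h w) = σ h * φ w := by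
  classical
  letI : Module (MonoidAlgebra ℤ H) V :=
    Module.compHom V ((MonoidAlgebra.lift ℤ (Module.End ℤ V) H ρ :
      MonoidAlgebra ℤ H →ₐ[ℤ] Module.End ℤ V) : MonoidAlgebra ℤ H →+* Module.End ℤ V)
  have hsmul : ∀ (h : H) (w : V), (MonoidAlgebra.of ℤ H h) • w = ρ h w := by
    intro h w
    change (MonoidAlgebra.lift ℤ (Module.End ℤ V) H ρ (MonoidAlgebra.of ℤ H h)) w = ρ h w
    rw [MonoidAlgebra.lift_of]
  have hcardH : 0 < Nat.card H := Nat.card_pos
  haveI : Nontrivial V := by
    rw [← Finite.one_lt_card_iff_nontrivial]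
    exact hV1
  have hρinj : ∀ (h : H) (w : V), ρ h w = 0 → w = 0 := by
    intro h w hw
    have h1 : ρ h⁻¹ (ρ h w) = w := by
      rw [← Module.End.mul_apply, ← map_mul, inv_mul_cancel, map_one, Module.End.one_apply]
    rw [hw, map_zero] at h1
    exact h1.symm
  have hsimple : IsSimpleModule (MonoidAlgebra ℤ H) V := by
    refine (isSimpleModule_iff (MonoidAlgebra ℤ H) V).mpr { eq_bot_or_eq_top := fun W => ?_ }
    by_cases hW : W = ⊥
    · exact Or.inl hW
    right
    obtain ⟨w, hwW, hw0⟩ := (Submodule.ne_bot_iff W).mp hW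
    have h1 : Nat.card H + 1 ≤ Nat.card W := by
      have h2 : Nat.card (Option H) ≤ Nat.card W := by
        apply Nat.card_le_card_of_injective (fun x : Option H =>
          (Option.elim x (0 : W) (fun h => ⟨MonoidAlgebra.of ℤ H h • w, W.smul_mem _ hwW⟩) : W))
        intro x y hxy
        rcases x with _ | x <;> rcases y with _ | y
        · rfl
        · exfalso
          have h3 : (0 : V) = MonoidAlgebra.of ℤ H y • w := congrArg Subtype.val hxy
          rw [hsmul] at h3
          exact hw0 (hρinj y w h3.symm)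
        · exfalso
          have h3 : MonoidAlgebra.of ℤ H x • w = (0 : V) := congrArg Subtype.val hxy
          rw [hsmul] at h3
          exact hw0 (hρinj x w h3)
        · have h3 : MonoidAlgebra.of ℤ H x • w = MonoidAlgebra.of ℤ H y • w :=
            congrArg Subtype.val hxy
          rw [hsmul, hsmul] at h3
          have h4 : ρ (y⁻¹ * x) w = w := by
            rw [map_mul, Module.End.mul_apply, h3, ← Module.End.mul_apply, ← map_mul,
              inv_mul_cancel, map_one, Module.End.one_apply]
          by_contra hne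
          have h5 : y⁻¹ * x ≠ 1 := by
            intro h6
            apply hne
            rw [inv_mul_eq_one] at h6
            rw [h6]
          exact hfree _ h5 w hw0 h4
      rwa [Finite.card_option] at h2
    have h2 : Nat.card W ∣ Nat.card V := AddSubgroup.card_addSubgroup_dvd_card W.toAddSubgroup
    rw [hV] at h2
    obtain ⟨k, hk, hWk⟩ := (Nat.dvd_prime_pow hp).mp h2
    rcases Nat.lt_or_ge k f with hlt | hge
    · exfalso
      have h3 : p ^ (k + 1) ≤ p ^ f := Nat.pow_le_pow_right hp.pos hlt
      rw [pow_succ] at h3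
      rw [hV] at hd
      have h5 : p * (Nat.card H + 1) ≤ p * p ^ k := Nat.mul_le_mul_left p (hWk ▸ h1)
      have h6 : p ^ k * p = p * p ^ k := mul_comm _ _
      omega
    · have hkf : k = f := le_antisymm hk hge
      have h3 : W.toAddSubgroup = ⊤ := by
        apply AddSubgroup.eq_top_of_card_eq
        rw [hV, ← hkf]
        exact hWk
      rw [Submodule.eq_top_iff']
      intro x
      have : x ∈ W.toAddSubgroup := by
        rw [h3]
        trivial
      exact this
  obtain ⟨I, hI, ⟨e⟩⟩ := isSimpleModule_iff_quot_maximal.mp hsimple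
  haveI := hI
  letI : Field (MonoidAlgebra ℤ H ⧸ I) := Ideal.Quotient.field I
  haveI : Finite (MonoidAlgebra ℤ H ⧸ I) := Finite.of_equiv V e.toEquiv
  haveI : Small.{0} (MonoidAlgebra ℤ H ⧸ I) := Countable.toSmall _
  refine ⟨Shrink.{0} (MonoidAlgebra ℤ H ⧸ I), inferInstance, Fintype.ofFinite _,
    e.toAddEquiv.trans (Shrink.ringEquiv (MonoidAlgebra ℤ H ⧸ I)).symm.toAddEquiv,
    fun h => (Shrink.ringEquiv (MonoidAlgebra ℤ H ⧸ I)).symm
      (Ideal.Quotient.mk I (MonoidAlgebra.of ℤ H h)), ?_⟩
  intro h w
  have h1 : e (ρ h w) = Ideal.Quotient.mk I (MonoidAlgebra.of ℤ H h) * e w := by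
    rw [← hsmul, map_smul]
    obtain ⟨y, hy⟩ := Ideal.Quotient.mk_surjective (e w)
    rw [← hy]
    rfl
  change (Shrink.ringEquiv (MonoidAlgebra ℤ H ⧸ I)).symm (e (ρ h w)) =
    (Shrink.ringEquiv (MonoidAlgebra ℤ H ⧸ I)).symm
      (Ideal.Quotient.mk I (MonoidAlgebra.of ℤ H h)) *
    (Shrink.ringEquiv (MonoidAlgebra ℤ H ⧸ I)).symm (e w)
  rw [h1, map_mul]

/-- Group-level coordinatization: `H` abelian normalizing the abelian group `F` and acting freely
on it, `|F| = p ^ f < p (|H| + 1)`.  Then `F` is the additive group of a finite field on which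
`H` acts by multiplications. -/
theorem exists_field_coord' {G : Type u} [Group G] [Finite G] (F H : Subgroup G)
    (hFab : ∀ u ∈ F, ∀ w ∈ F, u * w = w * u) (hHab : ∀ h ∈ H, ∀ k ∈ H, h * k = k * h)
    (hnorm : ∀ h ∈ H, ∀ u ∈ F, h * u * h⁻¹ ∈ F)
    (hfree : ∀ h ∈ H, h ≠ 1 → ∀ u ∈ F, u ≠ 1 → h * u * h⁻¹ ≠ u)
    (p f : ℕ) (hp : p.Prime) (hcard : Nat.card F = p ^ f) (hF1 : 1 < Nat.card F)
    (hd : Nat.card F < p * (Nat.card H + 1)) :
    ∃ (K : Type) (_ : Field K) (_ : Fintype K) (φ : F → K) (σ : H → K), Function.Bijective φ ∧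
      (∀ u w : F, φ (u * w) = φ u + φ w) ∧
      (∀ (h : H) (u : F), φ ⟨h * u * h⁻¹, hnorm h h.2 u u.2⟩ = σ h * φ u) := by
  classical
  letI : CommGroup F :=
    { (inferInstance : Group F) with mul_comm := fun u w => Subtype.ext (hFab u u.2 w w.2) }
  letI : CommGroup H :=
    { (inferInstance : Group H) with mul_comm := fun u w => Subtype.ext (hHab u u.2 w w.2) }
  let cj : H → Additive F → Additive F := fun h w =>
    Additive.ofMul (⟨h * (Additive.toMul w : F) * h⁻¹, hnorm h h.2 _ (Additive.toMul w : F).2⟩ : F)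
  have cj_add : ∀ (h : H) (w w' : Additive F), cj h (w + w') = cj h w + cj h w' := by
    intro h w w'
    apply Additive.toMul.injective
    apply Subtype.ext
    change (h : G) * ((Additive.toMul w : F) * (Additive.toMul w' : F) : F) * (h : G)⁻¹ =
      ((h : G) * (Additive.toMul w : F) * (h : G)⁻¹) * ((h : G) * (Additive.toMul w' : F) * (h : G)⁻¹)
    rw [Subgroup.coe_mul]
    group
  let ρ : H →* Module.End ℤ (Additive F) :=
    { toFun := fun h => (AddMonoidHom.mk' (cj h) (cj_add h)).toIntLinearMap
      map_one' := by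
        refine LinearMap.ext fun w => ?_
        apply Additive.toMul.injective
        apply Subtype.ext
        change ((1 : H) : G) * (Additive.toMul w : F) * ((1 : H) : G)⁻¹ = (Additive.toMul w : F)
        simp
      map_mul' := by
        intro h k
        refine LinearMap.ext fun w => ?_
        apply Additive.toMul.injective
        apply Subtype.ext
        change ((h * k : H) : G) * (Additive.toMul w : F) * ((h * k : H) : G)⁻¹ =
          (h : G) * ((k : G) * (Additive.toMul w : F) * (k : G)⁻¹) * (h : G)⁻¹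
        rw [Subgroup.coe_mul]
        group }
  have hρ : ∀ (h : H) (w : Additive F), ρ h w = cj h w := fun h w => rfl
  have hfree' : ∀ h : H, h ≠ 1 → ∀ w : Additive F, w ≠ 0 → ρ h w ≠ w := by
    intro h hh w hw hc
    have h1 : (h : G) * (Additive.toMul w : F) * (h : G)⁻¹ = (Additive.toMul w : F) := by
      have := congrArg (fun z : Additive F => ((Additive.toMul z : F) : G)) hc
      exact this
    refine hfree h h.2 (fun h1' => hh (Subtype.ext h1')) _ (Additive.toMul w : F).2 ?_ h1
    intro h2
    apply hw
    apply Additive.toMul.injective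
    apply Subtype.ext
    exact h2
  have hcardV : Nat.card (Additive F) = p ^ f := hcard
  have hd' : Nat.card (Additive F) < p * (Nat.card H + 1) := hd
  have hV1 : 1 < Nat.card (Additive F) := hF1
  obtain ⟨K, iF, iFt, φ, σ, hφ⟩ := exists_field_of_free_action' ρ hfree' p f hp hcardV hV1 hd'
  refine ⟨K, iF, iFt, fun u => φ (Additive.ofMul u), σ, ?_, ?_, ?_⟩
  · exact φ.bijective.comp Additive.ofMul.bijective
  · intro u w
    change φ (Additive.ofMul u + Additive.ofMul w) = _
    rw [map_add]
  · intro h u
    rw [← hφ h (Additive.ofMul u)]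
    rfl

end Cfsg.Agent.H19
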