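import Mathlib
import Cfsg.Agent.H19.ZP3
import Cfsg.Agent.H19.ZP4

/-!
# Groups of degree `p + 1` with a regular normal subgroup are semi-affine (helper19)

`semiaffine_coords` : `G` faithful on `Ω`, `|Ω| = p + 1`, with a regular normal subgroup `N` and an
element `u` of order `p` in `G_a`, `⟨u⟩` semiregular off `a` and normal in `G_a`: then `Ω` is
coordinatized by a finite field `K` such that every element of `G` acts as `x ↦ c ψ(x) + β` with
`ψ` a field automorphism.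
-/

set_option autoImplicit false
set_option linter.style.haveILetI false
set_option linter.unusedSectionVars false

namespace Cfsg.Agent.H19

open MulAction

universe u v

variable {G : Type u} {Ω : Type v} [Group G] [MulAction G Ω]

set_option maxHeartbeats 2000000 in
theorem semiaffine_coords [Finite G] [Fintype Ω] [FaithfulSMul G Ω] {p : ℕ} [Fact p.Prime]
    (hΩ : Fintype.card Ω = p + 1)
    (N : Subgroup G) (hNn : N.Normal) (hNt : ∀ x y : Ω, ∃ n ∈ N, n • x = y)
    (hNr : ∀ n ∈ N, ∀ x : Ω, n • x = x → n = 1)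
    (a : Ω) (u : G) (hu : orderOf u = p) (hua : u • a = a)
    (hsemi : ∀ b : Ω, b ≠ a → ∀ x : ZMod p, zpw u x • b = b → x = 0)
    (hnorm : ∀ g : G, g • a = a → ∃ k : ℕ, g * u * g⁻¹ = u ^ k) :
    ∃ (K : Type) (_ : Field K) (_ : Fintype K) (pt : K → Ω), Function.Bijective pt ∧ pt 0 = a ∧
      ∀ g : G, ∃ (c β : K) (ψ : K ≃+* K), c ≠ 0 ∧ ∀ x, g • pt x = pt (c * ψ x + β) := by
  classical
  have hp : p.Prime := Fact.out
  have hNbij : Function.Bijective (fun n : N => (n : G) • a) := by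
    constructor
    · intro n m h
      have h' : (n : G) • a = (m : G) • a := h
      have h1 : ((m : G)⁻¹ * (n : G)) • a = a := by rw [mul_smul, h', inv_smul_smul]
      have h2 := hNr _ (N.mul_mem (N.inv_mem m.2) n.2) a h1
      exact Subtype.ext (inv_mul_eq_one.mp h2).symm
    · intro c
      obtain ⟨n, hn, hna⟩ := hNt a c
      exact ⟨⟨n, hn⟩, hna⟩
  have hNcard : Nat.card N = p + 1 := by
    rw [Nat.card_congr (Equiv.ofBijective _ hNbij), Nat.card_eq_fintype_card, hΩ]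
  have hupow : ∀ n : ℕ, u ^ n • a = a := by
    intro n
    induction n with
    | zero => rw [pow_zero, one_smul]
    | succ n ih => rw [pow_succ, mul_smul, hua, ih]
  have hpwa : ∀ x : ZMod p, zpw u x • a = a := fun x => hupow _
  have hzp : ∀ h ∈ Subgroup.zpowers u, ∃ x : ZMod p, h = zpw u x := by
    intro h hh
    have hfin : IsOfFinOrder u := isOfFinOrder_of_finite u
    obtain ⟨j, hj⟩ := hfin.mem_powers_iff_mem_zpowers.mpr hh
    exact ⟨(j : ZMod p), by rw [zpw_natCast hu]; exact hj.symm⟩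
  have hna : ∀ n ∈ N, n ≠ 1 → n • a ≠ a := fun n hn hn1 h => hn1 (hNr n hn a h)
  have hconj_inj : ∀ n ∈ N, n ≠ 1 → ∀ x y : ZMod p,
      zpw u x * n * (zpw u x)⁻¹ = zpw u y * n * (zpw u y)⁻¹ → x = y := by
    intro n hn hn1 x y h
    have h1 := congrArg (fun g : G => g • a) h
    simp only [mul_smul] at h1
    have hinv : ∀ z : ZMod p, (zpw u z)⁻¹ • a = a := fun z => by rw [inv_smul_eq_iff, hpwa]
    rw [hinv, hinv] at h1
    have h2 : zpw u (x - y) • n • a = n • a := by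
      have h4 : x - y = -y + x := by ring
      rw [h4, zpw_add hu, zpw_neg hu, mul_smul, h1, inv_smul_smul]
    exact sub_eq_zero.mp (hsemi _ (hna n hn hn1) _ h2)
  have hconj_surj : ∀ n ∈ N, n ≠ 1 → ∀ m ∈ N, m ≠ 1 →
      ∃ x : ZMod p, zpw u x * n * (zpw u x)⁻¹ = m := by
    intro n hn hn1 m hm hm1
    have hmapne : ∀ x : ZMod p,
        (⟨zpw u x * n * (zpw u x)⁻¹, hNn.conj_mem n hn _⟩ : N) ≠ 1 := by
      intro x h
      apply hn1
      have h1 : zpw u x * n * (zpw u x)⁻¹ = 1 := congrArg Subtype.val h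
      have h2 : n = (zpw u x)⁻¹ * (zpw u x * n * (zpw u x)⁻¹) * zpw u x := by group
      rw [h2, h1]
      group
    have hbij : Function.Bijective (fun x : ZMod p =>
        (⟨⟨zpw u x * n * (zpw u x)⁻¹, hNn.conj_mem n hn _⟩, hmapne x⟩ : {m : N // m ≠ 1})) := by
      rw [Nat.bijective_iff_injective_and_card]
      constructor
      · intro x y h
        exact hconj_inj n hn hn1 x y
          (congrArg (fun z : {m : N // m ≠ 1} => ((z : N) : G)) h)
      · have h1 := card_ne_add_one (1 : N)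
        rw [Nat.card_zmod]
        omega
    obtain ⟨x, hx⟩ := hbij.2 ⟨⟨m, hm⟩, fun h => hm1 (congrArg Subtype.val h)⟩
    exact ⟨x, congrArg (fun z : {m : N // m ≠ 1} => ((z : N) : G)) hx⟩
  have hN1 : 1 < Nat.card N := by
    rw [hNcard]
    have := hp.two_le
    omega
  obtain ⟨r, hr, hrd⟩ := Nat.exists_prime_and_dvd (by omega : Nat.card N ≠ 1)
  haveI : Fact r.Prime := ⟨hr⟩
  obtain ⟨n₀, hn₀⟩ := exists_prime_orderOf_dvd_card' (G := N) r hrd
  have hn₀1 : (n₀ : G) ≠ 1 := by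
    intro h
    have h1 : n₀ = 1 := Subtype.ext h
    rw [h1, orderOf_one] at hn₀
    exact hr.one_lt.ne hn₀
  have hord : ∀ m : N, m ≠ 1 → orderOf m = r := by
    intro m hm1
    obtain ⟨x, hx⟩ := hconj_surj n₀ n₀.2 hn₀1 m m.2 (fun h => hm1 (Subtype.ext h))
    rw [← Subgroup.orderOf_coe, ← hx]
    refine ((MulAut.conj (zpw u x)).orderOf_eq (n₀ : G)).trans ?_
    rw [Subgroup.orderOf_coe]
    exact hn₀
  have hpg : IsPGroup r N := by
    rw [IsPGroup.iff_orderOf]
    intro m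
    by_cases hm1 : m = 1
    · exact ⟨0, by rw [hm1, orderOf_one, pow_zero]⟩
    · exact ⟨1, by rw [hord m hm1, pow_one]⟩
  obtain ⟨k, hk⟩ := IsPGroup.iff_card.mp hpg
  haveI : Nontrivial N := (Finite.one_lt_card_iff_nontrivial).mp hN1
  obtain ⟨z, hz, hz1⟩ : ∃ z ∈ Subgroup.center N, z ≠ 1 := by
    haveI := hpg.center_nontrivial
    obtain ⟨⟨z, hz⟩, hz1⟩ := exists_ne (1 : Subgroup.center N)
    exact ⟨z, hz, fun h => hz1 (Subtype.ext h)⟩
  have hNab : ∀ n ∈ N, ∀ m ∈ N, n * m = m * n := by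
    intro n hn m hm
    by_cases hn1 : n = 1
    · rw [hn1]
      simp
    obtain ⟨x, hx⟩ := hconj_surj z z.2 (fun h => hz1 (Subtype.ext h)) n hn hn1
    have hm' : (zpw u x)⁻¹ * m * zpw u x ∈ N := by
      have h1 := hNn.conj_mem m hm (zpw u x)⁻¹
      rwa [inv_inv] at h1
    have h1 := Subgroup.mem_center_iff.mp hz ⟨_, hm'⟩
    have h2 : ((zpw u x)⁻¹ * m * zpw u x) * (z : G) = (z : G) * ((zpw u x)⁻¹ * m * zpw u x) :=
      congrArg Subtype.val h1
    rw [← hx]
    calc zpw u x * z * (zpw u x)⁻¹ * m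
        = zpw u x * ((z : G) * ((zpw u x)⁻¹ * m * zpw u x)) * (zpw u x)⁻¹ := by group
      _ = zpw u x * (((zpw u x)⁻¹ * m * zpw u x) * (z : G)) * (zpw u x)⁻¹ := by rw [h2]
      _ = m * (zpw u x * z * (zpw u x)⁻¹) := by group
  have hHab : ∀ h ∈ Subgroup.zpowers u, ∀ h' ∈ Subgroup.zpowers u, h * h' = h' * h := by
    intro h hh h' hh'
    obtain ⟨x, rfl⟩ := hzp h hh
    obtain ⟨y, rfl⟩ := hzp h' hh'
    rw [← zpw_add hu, ← zpw_add hu, add_comm]
  have hnorm' : ∀ h ∈ Subgroup.zpowers u, ∀ n ∈ N, h * n * h⁻¹ ∈ N :=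
    fun h _ n hn => hNn.conj_mem n hn h
  have hfree : ∀ h ∈ Subgroup.zpowers u, h ≠ 1 → ∀ n ∈ N, n ≠ 1 → h * n * h⁻¹ ≠ n := by
    intro h hh hh1 n hn hn1 hc
    obtain ⟨x, rfl⟩ := hzp h hh
    have h1 : zpw u x * n * (zpw u x)⁻¹ = zpw u (0 : ZMod p) * n * (zpw u (0 : ZMod p))⁻¹ := by
      rw [hc, zpw_zero]
      simp
    have h2 := hconj_inj n hn hn1 x 0 h1
    rw [h2, zpw_zero] at hh1
    exact hh1 rfl
  have hd : Nat.card N < r * (Nat.card (Subgroup.zpowers u) + 1) := by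
    rw [Nat.card_zpowers, hu, hNcard]
    have h1 : 2 * (p + 1) ≤ r * (p + 1) := Nat.mul_le_mul_right _ hr.two_le
    omega
  obtain ⟨K, iF, iFt, φ, σ, hφbij, hφadd, hφσ⟩ :=
    exists_field_coord' N (Subgroup.zpowers u) hNab hHab hnorm' hfree r k hr hk hN1 hd
  refine ⟨K, iF, iFt, ?_⟩
  obtain ⟨ψ₀, hψ1, hψ2⟩ := Function.bijective_iff_has_inverse.mp hφbij
  have hφ1 : φ 1 = 0 := by
    have h1 := hφadd 1 1
    rw [mul_one] at h1
    linear_combination -h1
  have hψ0 : ψ₀ 0 = 1 := by rw [← hφ1, hψ1]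
  obtain ⟨pt, hptdef⟩ : ∃ pt : K → Ω, pt = fun x => ((ψ₀ x : N) : G) • a := ⟨_, rfl⟩
  have hpt : ∀ x, pt x = ((ψ₀ x : N) : G) • a := fun x => by rw [hptdef]
  have hptφ : ∀ n : N, pt (φ n) = (n : G) • a := fun n => by rw [hpt, hψ1]
  have hptbij : Function.Bijective pt := by
    have h1 : pt = (fun n : N => (n : G) • a) ∘ ψ₀ := by
      rw [hptdef]
      rfl
    rw [h1]
    exact hNbij.comp ⟨Function.LeftInverse.injective hψ2, Function.LeftInverse.surjective hψ1⟩
  have hpt0 : pt 0 = a := by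
    rw [hpt, hψ0]
    exact one_smul _ a
  have hinj : Function.Injective pt := hptbij.1
  have hNact : ∀ (n : N) (x : K), (n : G) • pt x = pt (φ n + x) := by
    intro n x
    have h1 := hφadd n (ψ₀ x)
    rw [hψ2] at h1
    rw [← h1, hptφ, hpt, Subgroup.coe_mul, mul_smul]
  have hGa : ∀ g : G, g • a = a → ∃ A : K → K, (∀ x, g • pt x = pt (A x)) ∧
      (∀ x y, A (x + y) = A x + A y) ∧
      (∀ (h h' : Subgroup.zpowers u), g * (h : G) * g⁻¹ = (h' : G) →
        ∀ x, A (σ h * x) = σ h' * A x) := by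
    intro g hg
    let cg : N → N := fun n => ⟨g * (n : G) * g⁻¹, hNn.conj_mem n n.2 g⟩
    refine ⟨fun x => φ (cg (ψ₀ x)), ?_, ?_, ?_⟩
    · intro x
      rw [hptφ, hpt]
      change g • ((ψ₀ x : N) : G) • a = (g * ((ψ₀ x : N) : G) * g⁻¹) • a
      rw [mul_smul, mul_smul, inv_smul_eq_iff.mpr hg.symm]
    · intro x y
      have h1 : ψ₀ (x + y) = ψ₀ x * ψ₀ y := by
        have h2 := hφadd (ψ₀ x) (ψ₀ y)
        rw [hψ2, hψ2] at h2
        rw [← h2, hψ1]
      have h4 : cg (ψ₀ x * ψ₀ y) = cg (ψ₀ x) * cg (ψ₀ y) := by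
        apply Subtype.ext
        change g * ((ψ₀ x * ψ₀ y : N) : G) * g⁻¹ =
          (g * ((ψ₀ x : N) : G) * g⁻¹) * (g * ((ψ₀ y : N) : G) * g⁻¹)
        rw [Subgroup.coe_mul]
        group
      change φ (cg (ψ₀ (x + y))) = φ (cg (ψ₀ x)) + φ (cg (ψ₀ y))
      rw [h1, h4, hφadd]
    · intro h h' hh x
      have h1 := hφσ h (ψ₀ x)
      rw [hψ2] at h1
      change φ (cg (ψ₀ (σ h * x))) = σ h' * φ (cg (ψ₀ x))
      rw [← h1, hψ1, ← hφσ h' (cg (ψ₀ x))]
      congr 1
      apply Subtype.ext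
      change g * ((h : G) * ((ψ₀ x : N) : G) * (h : G)⁻¹) * g⁻¹ =
        (h' : G) * (g * ((ψ₀ x : N) : G) * g⁻¹) * (h' : G)⁻¹
      rw [← hh]
      group
  have h10 : (1 : K) ≠ 0 := one_ne_zero
  have hHa : ∀ h : Subgroup.zpowers u, (h : G) • a = a := by
    intro h
    obtain ⟨x, hx⟩ := hzp h h.2
    rw [hx, hpwa]
  have hHact : ∀ (h : Subgroup.zpowers u) (x : K), (h : G) • pt x = pt (σ h * x) := by
    intro h x
    have h1 := hφσ h (ψ₀ x)
    rw [hψ2] at h1
    rw [← h1, hptφ, hpt]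
    change (h : G) • ((ψ₀ x : N) : G) • a = ((h : G) * ((ψ₀ x : N) : G) * (h : G)⁻¹) • a
    rw [mul_smul, mul_smul, inv_smul_eq_iff.mpr (hHa h).symm]
  have hσ0 : ∀ h : Subgroup.zpowers u, σ h ≠ 0 := by
    intro h hc
    have h1 := hHact h 1
    rw [hc, zero_mul, hpt0] at h1
    have h2 : (h : G) • pt 1 = (h : G) • pt 0 := by rw [h1, hpt0, hHa]
    exact h10 (hinj (smul_left_cancel _ h2))
  have hσinj : Function.Injective σ := by
    intro h h' hh
    apply Subtype.ext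
    apply FaithfulSMul.eq_of_smul_eq_smul (α := Ω)
    intro c
    obtain ⟨x, rfl⟩ := hptbij.2 c
    rw [hHact, hHact, hh]
  have hσsurj : ∀ c : K, c ≠ 0 → ∃ h : Subgroup.zpowers u, σ h = c := by
    have hbij : Function.Bijective
        (fun h : Subgroup.zpowers u => (⟨σ h, hσ0 h⟩ : {c : K // c ≠ 0})) := by
      rw [Nat.bijective_iff_injective_and_card]
      constructor
      · intro h h' hh
        exact hσinj (congrArg Subtype.val hh)
      · have h1 := card_ne_add_one (0 : K)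
        have h2 : Nat.card K = p + 1 := by
          rw [Nat.card_congr (Equiv.ofBijective pt hptbij), Nat.card_eq_fintype_card, hΩ]
        rw [Nat.card_zpowers, hu]
        omega
    intro c hc
    obtain ⟨h, hh⟩ := hbij.2 ⟨c, hc⟩
    exact ⟨h, congrArg Subtype.val hh⟩
  refine ⟨pt, hptbij, hpt0, ?_⟩
  have hstab : ∀ g : G, g • a = a →
      ∃ (c : K) (ψ : K ≃+* K), c ≠ 0 ∧ ∀ x, g • pt x = pt (c * ψ x) := by
    intro g hg
    obtain ⟨A, hA, hAadd, hAσ⟩ := hGa g hg
    have hA0 : A 0 = 0 := by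
      have h1 := hAadd 0 0
      rw [add_zero] at h1
      linear_combination -h1
    have hAinj : Function.Injective A := by
      intro x y hxy
      apply hinj
      apply smul_left_cancel g
      rw [hA, hA, hxy]
    have hc0 : A 1 ≠ 0 := by
      intro h
      rw [← hA0] at h
      exact h10 (hAinj h)
    have hconjH : ∀ h : Subgroup.zpowers u,
        ∃ h' : Subgroup.zpowers u, g * (h : G) * g⁻¹ = (h' : G) := by
      intro h
      obtain ⟨k, hk⟩ := hnorm g hg
      obtain ⟨x, hx⟩ := hzp h h.2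
      refine ⟨⟨zpw u ((k : ZMod p) * x), ?_⟩, ?_⟩
      · exact Subgroup.pow_mem _ (Subgroup.mem_zpowers u) _
      · rw [hx]
        exact zpw_conj hu k hk x
    let ψf : K → K := fun x => (A 1)⁻¹ * A x
    have hψf : ∀ x, ψf x = (A 1)⁻¹ * A x := fun x => rfl
    have hψ1' : ψf 1 = 1 := inv_mul_cancel₀ hc0
    have hψadd : ∀ x y, ψf (x + y) = ψf x + ψf y := by
      intro x y
      rw [hψf, hψf, hψf, hAadd, mul_add]
    have hψzero : ψf 0 = 0 := by rw [hψf, hA0, mul_zero]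
    have hψmul : ∀ x y, ψf (x * y) = ψf x * ψf y := by
      intro x y
      by_cases hx : x = 0
      · rw [hx, zero_mul, hψzero, zero_mul]
      · obtain ⟨h, hh⟩ := hσsurj x hx
        obtain ⟨h', hh'⟩ := hconjH h
        have e1 := hAσ h h' hh' y
        have e2 := hAσ h h' hh' 1
        rw [mul_one] at e2
        rw [hh] at e1 e2
        rw [hψf, hψf, hψf, e1, e2]
        field_simp
    have hψbij : Function.Bijective ψf := by
      have hinjψ : Function.Injective ψf := by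
        intro x y hxy
        exact hAinj (mul_left_cancel₀ (inv_ne_zero hc0) hxy)
      exact ⟨hinjψ, Finite.surjective_of_injective hinjψ⟩
    let ψr : K →+* K :=
      { toFun := ψf, map_one' := hψ1', map_mul' := hψmul, map_zero' := hψzero,
        map_add' := hψadd }
    refine ⟨A 1, RingEquiv.ofBijective ψr hψbij, hc0, fun x => ?_⟩
    rw [hA]
    congr 1
    change A x = A 1 * ((A 1)⁻¹ * A x)
    rw [mul_inv_cancel_left₀ hc0]
  intro g
  obtain ⟨n, hn, hna'⟩ := hNt a (g • a)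
  have hg0 : (n⁻¹ * g) • a = a := by rw [mul_smul, inv_smul_eq_iff, hna']
  obtain ⟨c, ψ, hc, hcx⟩ := hstab _ hg0
  refine ⟨c, φ ⟨n, hn⟩, ψ, hc, fun x => ?_⟩
  have h1 : g • pt x = n • (n⁻¹ * g) • pt x := by rw [← mul_smul, mul_inv_cancel_left]
  rw [h1, hcx, add_comm]
  exact hNact ⟨n, hn⟩ _

end Cfsg.Agent.H19
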