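import Mathlib
import Cfsg.Agent.H19.ZP5

/-!
# Transfer of semi-affine coordinates to `GaloisField 2 q` (helper19)

* `semiaffine_to_galois` : coordinates over a finite field `K` with `p + 1` elements (`p` an odd
  prime) transfer to `GaloisField 2 q` with `q` prime, `p + 1 = 2 ^ q`.
* `semiaffine_stab_dvd` : the two-point stabilizer of a faithful semi-affine group over
  `GaloisField 2 q` has order dividing `q`.
-/

set_option autoImplicit false
set_option linter.style.haveILetI false
set_option linter.unusedSectionVars false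

namespace Cfsg.Agent.H19

open MulAction

universe u v

variable {G : Type u} {Ω : Type v} [Group G] [MulAction G Ω]

theorem semiaffine_to_galois [Fintype Ω] {p : ℕ} (hp : p.Prime) (hp2 : p ≠ 2)
    (hΩ : Fintype.card Ω = p + 1)
    (K : Type) [Field K] [Fintype K] (pt : K → Ω) (hpt : Function.Bijective pt)
    (hG : ∀ g : G, ∃ (c β : K) (ψ : K ≃+* K), c ≠ 0 ∧ ∀ x, g • pt x = pt (c * ψ x + β)) :
    ∃ q : ℕ, q.Prime ∧ p + 1 = 2 ^ q ∧ ∃ pt' : GaloisField 2 q → Ω, Function.Bijective pt' ∧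
      ∀ g : G, ∃ (c β : GaloisField 2 q) (ψ : GaloisField 2 q ≃+* GaloisField 2 q),
        c ≠ 0 ∧ ∀ x, g • pt' x = pt' (c * ψ x + β) := by
  classical
  have hK : Fintype.card K = p + 1 := by rw [Fintype.card_of_bijective hpt, hΩ]
  obtain ⟨r, _, n, hr, hrn⟩ := FiniteField.card' K
  rw [hK] at hrn
  have hpodd : Odd p := hp.odd_of_ne_two hp2
  have hr2 : r = 2 := by
    rcases hr.eq_two_or_odd' with h | h
    · exact h
    · exfalso
      have h1 : Odd (r ^ (n : ℕ)) := h.pow
      rw [← hrn] at h1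
      have h2 : Even (p + 1) := hpodd.add_one
      exact (Nat.not_even_iff_odd.mpr h1) h2
  subst hr2
  have hmers : mersenne (n : ℕ) = p := by
    unfold mersenne
    omega
  have hq : (n : ℕ).Prime := Nat.Prime.of_mersenne (by rw [hmers]; exact hp)
  refine ⟨(n : ℕ), hq, hrn, ?_⟩
  haveI : Fintype (GaloisField 2 (n : ℕ)) := Fintype.ofFinite _
  have hcard : Fintype.card K = Fintype.card (GaloisField 2 (n : ℕ)) := by
    rw [hK, hrn, ← Nat.card_eq_fintype_card, GaloisField.card 2 (n : ℕ) hq.ne_zero]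
  let θ : K ≃+* GaloisField 2 (n : ℕ) := FiniteField.ringEquivOfCardEq hcard
  refine ⟨fun x => pt (θ.symm x), hpt.comp θ.symm.bijective, ?_⟩
  intro g
  obtain ⟨c, β, ψ, hc, hg⟩ := hG g
  refine ⟨θ c, θ β, θ.symm.trans (ψ.trans θ), ?_, ?_⟩
  · intro h
    apply hc
    exact (map_eq_zero_iff θ θ.injective).mp h
  · intro x
    show g • pt (θ.symm x) = pt (θ.symm (θ c * (θ.symm.trans (ψ.trans θ)) x + θ β))
    rw [hg]
    congr 1
    apply θ.injective
    rw [RingEquiv.apply_symm_apply, map_add, map_mul]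
    rfl

theorem semiaffine_stab_dvd [FaithfulSMul G Ω] {q : ℕ} (hq : q ≠ 0)
    (pt : GaloisField 2 q → Ω) (hpt : Function.Bijective pt)
    (hG : ∀ g : G, ∃ (c β : GaloisField 2 q) (ψ : GaloisField 2 q ≃+* GaloisField 2 q),
      c ≠ 0 ∧ ∀ x, g • pt x = pt (c * ψ x + β)) :
    Nat.card (stabilizer G (pt 0) ⊓ stabilizer G (pt 1) : Subgroup G) ∣ q := by
  classical
  have hex : ∀ h : (stabilizer G (pt 0) ⊓ stabilizer G (pt 1) : Subgroup G),
      ∃ φ : GaloisField 2 q ≃ₐ[ZMod 2] GaloisField 2 q, ∀ x, (h : G) • pt x = pt (φ x) := by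
    rintro ⟨h, hh⟩
    obtain ⟨h0, h1⟩ := Subgroup.mem_inf.mp hh
    rw [mem_stabilizer_iff] at h0 h1
    obtain ⟨c, β, ψ, hc, hg⟩ := hG h
    have hβ : β = 0 := by
      have := hg 0
      rw [h0, map_zero, mul_zero, zero_add] at this
      exact (hpt.1 this).symm
    have hc1 : c = 1 := by
      have := hg 1
      rw [h1, map_one, mul_one, hβ, add_zero] at this
      exact (hpt.1 this).symm
    refine ⟨AlgEquiv.ofRingEquiv (f := ψ) ?_, ?_⟩
    · intro x
      have h2 : (ψ : GaloisField 2 q →+* GaloisField 2 q).comp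
          (algebraMap (ZMod 2) (GaloisField 2 q)) = algebraMap (ZMod 2) (GaloisField 2 q) :=
        Subsingleton.elim _ _
      exact congrArg (fun f : ZMod 2 →+* GaloisField 2 q => f x) h2
    · intro x
      show h • pt x = pt (ψ x)
      rw [hg, hc1, hβ, one_mul, add_zero]
  choose f hf using hex
  have hmul : ∀ h h', f (h * h') = f h * f h' := by
    intro h h'
    apply AlgEquiv.ext
    intro x
    apply hpt.1
    rw [← hf, AlgEquiv.mul_apply, ← hf, ← hf, Subgroup.coe_mul, mul_smul]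
  let F : (stabilizer G (pt 0) ⊓ stabilizer G (pt 1) : Subgroup G) →*
      (GaloisField 2 q ≃ₐ[ZMod 2] GaloisField 2 q) := MonoidHom.mk' f hmul
  have hinj : Function.Injective F := by
    intro h h' hh
    have hh' : f h = f h' := hh
    apply Subtype.ext
    apply FaithfulSMul.eq_of_smul_eq_smul (α := Ω)
    intro y
    obtain ⟨x, rfl⟩ := hpt.2 y
    rw [hf, hf, hh']
  have h1 := Subgroup.card_dvd_of_injective F hinj
  rwa [IsGalois.card_aut_eq_finrank, GaloisField.finrank 2 hq] at h1

end Cfsg.Agent.H19
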